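import Cfsg.Agent.Characters.Generalized

/-!
# Frobenius' theorem on the kernel of a malnormal subgroup
-/

set_option autoImplicit false
set_option linter.style.haveILetI false
set_option linter.unusedSectionVars false

namespace CfsgLib.Characters

open scoped ComplexConjugate

universe u

section

variable {G : Type u} [Group G] [Fintype G] (H : Subgroup G)

theorem indFun_malnormal_apply (hH : ∀ g : G, g ∉ H → ∀ x ∈ H, g * x * g⁻¹ ∈ H → x = 1)
    {φ : H → ℂ} (hφ : Cfsg.IsClassFunction H φ) (hφ1 : φ 1 = 0) (x : H) :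
    Cfsg.indFun H φ (x : G) = φ x := by
  classical
  haveI := Fintype.ofFinite H
  by_cases hx : x = 1
  · rw [hx, Subgroup.coe_one, indFun_one, hφ1, mul_zero]
  have hterm : ∀ y : G, Cfsg.extendByZero H φ (y⁻¹ * x * y) = if y ∈ H then φ x else 0 := by
    intro y
    split_ifs with hy
    · rw [extendByZero_of_mem H φ (H.mul_mem (H.mul_mem (H.inv_mem hy) x.2) hy)]
      have := hφ x (⟨y, hy⟩⁻¹ : H)
      rw [inv_inv] at this
      exact this
    · by_cases hm : y⁻¹ * x * y ∈ H
      · refine absurd (Subtype.ext (hH y⁻¹ (fun h => hy ?_) x x.2 ?_)) hx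
        · simpa using H.inv_mem h
        · rwa [inv_inv]
      · exact extendByZero_of_not_mem H φ hm
  simp only [Cfsg.indFun, hterm]
  rw [← Finset.sum_filter, Finset.sum_const, nsmul_eq_mul, ← Fintype.card_subtype,
    ← Nat.card_eq_fintype_card, ← mul_assoc, inv_mul_cancel₀ (subgroup_card_ne_zero H), one_mul]

/-- Irreducible characters of a malnormal subgroup extend. -/
theorem exists_frobenius_extension
    (hH : ∀ g : G, g ∉ H → ∀ x ∈ H, g * x * g⁻¹ ∈ H → x = 1)
    {θ : H → ℂ} (hθ : Cfsg.IsIrrCharacter H θ) :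
    ∃ χ : G → ℂ, Cfsg.IsIrrCharacter G χ ∧ (∀ x : H, χ x = θ x) ∧
      ∀ g : G, (∀ y : G, y⁻¹ * g * y ∈ H → g = 1) → χ g = χ 1 := by
  classical
  haveI := Fintype.ofFinite H
  by_cases h1 : θ = fun _ => 1
  · exact ⟨fun _ => 1, isIrr_one, fun x => by rw [h1], fun _ _ => rfl⟩
  obtain ⟨d, hd, hθ1⟩ := exists_degree_pos hθ
  set one : H → ℂ := fun _ => 1
  set φ : H → ℂ := θ - (d : ℂ) • one with hφ
  have hgen : Cfsg.IsGeneralizedCharacter H φ :=
    ⟨θ, (d : ℂ) • one, isCharacter_of_isIrr hθ, isCharacter_natCast_smul isCharacter_one d, rfl⟩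
  have hφ1 : φ 1 = 0 := by simp [hφ, one, hθ1]
  have hres := indFun_malnormal_apply H hH (isClassFunction_of_isGen hgen) hφ1
  set onG : G → ℂ := fun _ => 1
  set χ : G → ℂ := Cfsg.indFun H φ + (d : ℂ) • onG with hχ
  have hFone : Cfsg.classInner (Cfsg.indFun H φ) onG = -(d : ℂ) := by
    rw [classInner_indFun H φ (fun _ _ => rfl), show (fun h : H => onG (h : G)) = one from rfl, hφ,
      classInner_sub_left, classInner_isIrr_ne hθ isIrr_one h1, classInner_smul_left,
      classInner_isIrr_self isIrr_one]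
    ring
  have honeF : Cfsg.classInner onG (Cfsg.indFun H φ) = -(d : ℂ) := by
    rw [classInner_conj_symm, hFone]
    simp
  have hFF : Cfsg.classInner (Cfsg.indFun H φ) (Cfsg.indFun H φ) = 1 + (d : ℂ) * d := by
    rw [classInner_indFun H φ (isClassFunction_indFun H φ),
      show (fun x : H => Cfsg.indFun H φ x) = φ from funext hres, hφ]
    simp only [classInner_sub_left, classInner_sub_right, classInner_smul_left,
      classInner_smul_right, classInner_isIrr_self hθ, classInner_isIrr_self (isIrr_one (G := H)),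
      classInner_isIrr_ne hθ isIrr_one h1,
      classInner_isIrr_ne (isIrr_one (G := H)) hθ (Ne.symm h1), Complex.conj_natCast, one]
    ring
  have hnorm : Cfsg.classInner χ χ = 1 := by
    rw [hχ]
    simp only [classInner_add_left, classInner_add_right, classInner_smul_left,
      classInner_smul_right, hFF, hFone, honeF, Complex.conj_natCast,
      show Cfsg.classInner onG onG = 1 from classInner_isIrr_self isIrr_one]
    ring
  have hχH : ∀ x : H, χ x = θ x := fun x => by
    rw [hχ, Pi.add_apply, hres x]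
    simp [hφ, one, onG]
  have hχ1 : χ 1 = (d : ℂ) := by
    simpa [hθ1] using hχH 1
  refine ⟨χ, isIrr_of_gen_norm_one
    (isGen_add (isGen_indFun H hgen) (isGen_of_isCharacter (isCharacter_natCast_smul isCharacter_one d)))
    hnorm (by rw [hχ1]; simp), hχH, fun g hg => ?_⟩
  by_cases hg1 : g = 1
  · rw [hg1]
  · rw [hχ1, hχ, Pi.add_apply, indFun_eq_zero_of_forall H φ g fun y hy => hg1 (hg y hy)]
    simp [onG]

end

/-- Frobenius' theorem: a malnormal subgroup has a normal complement, made of the identity and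
the elements without a conjugate in the subgroup. -/
theorem exists_frobenius_kernel {G : Type u} [Group G] [Finite G] (H : Subgroup G)
    (hH : ∀ g : G, g ∉ H → ∀ x ∈ H, g * x * g⁻¹ ∈ H → x = 1) :
    ∃ N : Subgroup G, N.Normal ∧ N.IsComplement' H ∧
      ∀ x : G, x ∈ N ↔ ∀ y : G, y⁻¹ * x * y ∈ H → x = 1 := by
  classical
  haveI := Fintype.ofFinite G
  haveI := Fintype.ofFinite H
  choose χ hirr hres hker using fun θ : Cfsg.IrrCharacter H =>
    exists_frobenius_extension H hH θ.2
  choose d ρ hρ hρc using hirr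
  let N : Subgroup G := ⨅ θ, MonoidHom.ker (ρ θ)
  haveI hN : N.Normal := Subgroup.normal_iInf_normal fun θ => inferInstance
  have hNH : ∀ x ∈ H, x ∈ N → x = 1 := by
    intro x hxH hxN
    have h : IsConj (⟨x, hxH⟩ : H) 1 := isConj_of_irr_eq fun θ => by
      rw [← hres θ ⟨x, hxH⟩, ← hres θ 1, ← hρc θ, Representation.character,
        Representation.character, MonoidHom.mem_ker.1 (Subgroup.mem_iInf.1 hxN θ),
        Subgroup.coe_one, map_one (ρ θ)]
    exact congrArg Subtype.val (isConj_one_right.1 h.symm)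
  have hback : ∀ x, x ∈ N → ∀ y : G, y⁻¹ * x * y ∈ H → x = 1 := by
    intro x hx y hy
    have := hNH _ hy (by simpa using hN.conj_mem x hx y⁻¹)
    calc x = y * (y⁻¹ * x * y) * y⁻¹ := by group
      _ = 1 := by rw [this]; group
  have hsub : ∀ x, (∀ y : G, y⁻¹ * x * y ∈ H → x = 1) → x ∈ N := by
    intro x hx
    refine Subgroup.mem_iInf.2 fun θ => MonoidHom.mem_ker.2 ((char_eq_finrank_iff (ρ θ) x).1 ?_)
    rw [hρc θ, hker θ x hx, ← hρc θ, Representation.char_one]
  refine ⟨N, hN, ?_, fun x => ⟨hback x, hsub x⟩⟩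
  have hdisj : Disjoint N H := Subgroup.disjoint_def.2 fun hx hxH => hNH _ hxH hx
  refine Subgroup.isComplement'_of_card_mul_and_disjoint ?_ hdisj
  have hH1 : 1 ≤ Nat.card H := Nat.card_pos
  have hle : Nat.card N * Nat.card H ≤ Nat.card G := by
    rw [← Nat.card_prod]
    exact Nat.card_le_card_of_injective _ (Subgroup.mul_injective_of_disjoint hdisj)
  refine le_antisymm hle ?_
  -- the elements outside `N` lie in conjugates of `H`
  have hout : (Finset.univ.filter (fun x : G => x ∉ N)).card ≤ H.index * (Nat.card H - 1) := by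
    refine (Finset.card_le_card (t := ((Finset.univ : Finset (G ⧸ H)) ×ˢ
      ((Finset.univ : Finset H).erase 1)).image fun p => p.1.out * (p.2 : G) * p.1.out⁻¹) ?_).trans
      (Finset.card_image_le.trans ?_)
    · intro x hx
      obtain ⟨y, hy, hx1⟩ : ∃ y : G, y⁻¹ * x * y ∈ H ∧ x ≠ 1 := by
        by_contra h
        push Not at h
        exact (Finset.mem_filter.1 hx).2 (hsub x h)
      obtain ⟨h, hh⟩ := QuotientGroup.mk_out_eq_mul H y
      refine Finset.mem_image.2 ⟨((y : G ⧸ H),
        ⟨(y : G ⧸ H).out⁻¹ * x * (y : G ⧸ H).out, ?_⟩), ?_, ?_⟩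
      · rw [hh, show ((y * h : G))⁻¹ * x * (y * h) = (h : G)⁻¹ * (y⁻¹ * x * y) * h by group]
        exact H.mul_mem (H.mul_mem (H.inv_mem h.2) hy) h.2
      · refine Finset.mem_product.2 ⟨Finset.mem_univ _, Finset.mem_erase.2 ⟨fun h1 => hx1 ?_,
          Finset.mem_univ _⟩⟩
        have h2 : (y : G ⧸ H).out⁻¹ * x * (y : G ⧸ H).out = 1 := congrArg Subtype.val h1
        calc x = (y : G ⧸ H).out * ((y : G ⧸ H).out⁻¹ * x * (y : G ⧸ H).out) *
              (y : G ⧸ H).out⁻¹ := by group
          _ = 1 := by rw [h2]; group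
      · group
    · rw [Finset.card_product, Finset.card_erase_of_mem (Finset.mem_univ _), Finset.card_univ,
        Finset.card_univ, Subgroup.index_eq_card, Nat.card_eq_fintype_card,
        Nat.card_eq_fintype_card]
  have hsplit : Nat.card N + (Finset.univ.filter (fun x : G => x ∉ N)).card = Nat.card G := by
    rw [Nat.card_eq_fintype_card, Fintype.card_subtype, Nat.card_eq_fintype_card,
      ← Finset.card_univ]
    exact Finset.card_filter_add_card_filter_not _
  have hidx := Subgroup.index_mul_card H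
  rw [← hidx]
  refine Nat.mul_le_mul_right _ ?_
  have : H.index * (Nat.card H - 1) + H.index = Nat.card G := by
    rw [← Nat.mul_succ, Nat.succ_eq_add_one, Nat.sub_add_cancel hH1, hidx]
  omega

end CfsgLib.Characters
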