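import Cfsg.Agent.Characters.Orthogonality
import Mathlib.GroupTheory.GroupAction.Quotient

/-!
# Induced functions and Frobenius reciprocity
-/

set_option autoImplicit false
set_option linter.style.haveILetI false
set_option linter.unusedSectionVars false

namespace CfsgLib.Characters

open scoped ComplexConjugate

universe u v w

variable {G : Type u} [Group G]

theorem extendByZero_coe (H : Subgroup G) (θ : H → ℂ) (x : H) :
    Cfsg.extendByZero H θ (x : G) = θ x :=
  Subtype.val_injective.extend_apply _ _ _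

theorem extendByZero_of_mem (H : Subgroup G) (θ : H → ℂ) {g : G} (hg : g ∈ H) :
    Cfsg.extendByZero H θ g = θ ⟨g, hg⟩ :=
  extendByZero_coe H θ ⟨g, hg⟩

theorem extendByZero_of_not_mem (H : Subgroup G) (θ : H → ℂ) {g : G} (hg : g ∉ H) :
    Cfsg.extendByZero H θ g = 0 :=
  Function.extend_apply' _ _ _ fun ⟨⟨_, ha⟩, h⟩ => hg (h ▸ ha)

theorem extendByZero_add (H : Subgroup G) (θ η : H → ℂ) :
    Cfsg.extendByZero H (θ + η) = Cfsg.extendByZero H θ + Cfsg.extendByZero H η := by
  funext g
  by_cases hg : g ∈ H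
  · simp [extendByZero_of_mem H _ hg]
  · simp [extendByZero_of_not_mem H _ hg]

theorem extendByZero_smul (H : Subgroup G) (c : ℂ) (θ : H → ℂ) :
    Cfsg.extendByZero H (c • θ) = c • Cfsg.extendByZero H θ := by
  funext g
  by_cases hg : g ∈ H
  · simp [extendByZero_of_mem H _ hg]
  · simp [extendByZero_of_not_mem H _ hg]

variable [Fintype G]

theorem subgroup_card_ne_zero (H : Subgroup G) : (Nat.card H : ℂ) ≠ 0 :=
  Nat.cast_ne_zero.2 Nat.card_pos.ne'

theorem sum_subgroup_extendByZero (H : Subgroup G) [Fintype H] (θ : H → ℂ) (f : G → ℂ) :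
    ∑ g : G, Cfsg.extendByZero H θ g * f g = ∑ h : H, θ h * f h := by
  classical
  rw [← Finset.sum_filter_add_sum_filter_not Finset.univ (· ∈ H),
    Finset.sum_eq_zero (s := Finset.univ.filter (· ∉ H))
      (fun g hg => by rw [extendByZero_of_not_mem H θ (Finset.mem_filter.1 hg).2, zero_mul]),
    add_zero, Finset.sum_subtype (p := (· ∈ H)) _ (by simp)]
  exact Finset.sum_congr rfl fun h _ => by rw [extendByZero_coe]

theorem isClassFunction_indFun (H : Subgroup G) (θ : H → ℂ) :
    Cfsg.IsClassFunction G (Cfsg.indFun H θ) := by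
  intro g h
  simp only [Cfsg.indFun]
  congr 1
  refine Fintype.sum_bijective (h⁻¹ * ·) (Group.mulLeft_bijective _) _ _ fun x => ?_
  congr 1
  group

theorem indFun_add (H : Subgroup G) (θ η : H → ℂ) :
    Cfsg.indFun H (θ + η) = Cfsg.indFun H θ + Cfsg.indFun H η := by
  funext g
  simp [Cfsg.indFun, extendByZero_add, Finset.sum_add_distrib, mul_add]

theorem indFun_smul (H : Subgroup G) (c : ℂ) (θ : H → ℂ) :
    Cfsg.indFun H (c • θ) = c • Cfsg.indFun H θ := by
  funext g
  simp only [Cfsg.indFun, extendByZero_smul, Pi.smul_apply, smul_eq_mul, Finset.mul_sum]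
  exact Finset.sum_congr rfl fun x _ => by ring

theorem indFun_zero (H : Subgroup G) : Cfsg.indFun H (0 : H → ℂ) = 0 := by
  simpa using indFun_smul H 0 (0 : H → ℂ)

theorem indFun_sub (H : Subgroup G) (θ η : H → ℂ) :
    Cfsg.indFun H (θ - η) = Cfsg.indFun H θ - Cfsg.indFun H η := by
  rw [eq_sub_iff_add_eq, ← indFun_add, sub_add_cancel]

theorem indFun_sum (H : Subgroup G) {ι : Type*} (s : Finset ι) (f : ι → H → ℂ) :
    Cfsg.indFun H (∑ i ∈ s, f i) = ∑ i ∈ s, Cfsg.indFun H (f i) := by
  classical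
  induction s using Finset.induction_on with
  | empty => simp [indFun_zero]
  | insert a s ha ih => rw [Finset.sum_insert ha, Finset.sum_insert ha, indFun_add, ih]

theorem indFun_one (H : Subgroup G) (θ : H → ℂ) :
    Cfsg.indFun H θ 1 = (H.index : ℂ) * θ 1 := by
  simp only [Cfsg.indFun, mul_one, inv_mul_cancel, extendByZero_of_mem H θ H.one_mem]
  rw [Finset.sum_const, Finset.card_univ, ← Nat.card_eq_fintype_card, nsmul_eq_mul,
    ← Subgroup.index_mul_card H, Nat.cast_mul, show (⟨1, H.one_mem⟩ : H) = 1 from rfl]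
  field_simp [subgroup_card_ne_zero H]

theorem indFun_eq_zero_of_forall (H : Subgroup G) (θ : H → ℂ) (g : G)
    (h : ∀ x : G, x⁻¹ * g * x ∉ H) : Cfsg.indFun H θ g = 0 := by
  simp [Cfsg.indFun, extendByZero_of_not_mem H θ (h _)]

/-- Frobenius reciprocity. -/
theorem classInner_indFun (H : Subgroup G) [Fintype H] (θ : H → ℂ) {χ : G → ℂ}
    (hχ : Cfsg.IsClassFunction G χ) :
    Cfsg.classInner (Cfsg.indFun H θ) χ = Cfsg.classInner θ (fun h : H => χ h) := by
  simp only [Cfsg.classInner, Cfsg.indFun]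
  rw [← sum_subgroup_extendByZero H θ fun g => conj (χ g),
    Finset.sum_congr rfl fun g _ => mul_assoc _ _ (conj (χ g)), ← Finset.mul_sum]
  simp only [Finset.sum_mul]
  rw [Finset.sum_comm]
  have : ∀ x : G, (∑ g : G, Cfsg.extendByZero H θ (x⁻¹ * g * x) * conj (χ g)) =
      ∑ g : G, Cfsg.extendByZero H θ g * conj (χ g) := by
    intro x
    refine Fintype.sum_bijective (fun g => x⁻¹ * g * x)
      ((Equiv.mulLeft x⁻¹).trans (Equiv.mulRight x)).bijective _ _ fun g => ?_
    rw [show χ (x⁻¹ * g * x) = χ g by simpa using hχ g x⁻¹]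
  rw [Finset.sum_congr rfl fun x _ => this x, Finset.sum_const, Finset.card_univ,
    ← Nat.card_eq_fintype_card, nsmul_eq_mul, mul_left_comm (Nat.card H : ℂ)⁻¹, ← mul_assoc,
    inv_mul_cancel₀ natCard_ne_zero, one_mul]

theorem classInner_indFun_right (H : Subgroup G) [Fintype H] (θ : H → ℂ) {χ : G → ℂ}
    (hχ : Cfsg.IsClassFunction G χ) :
    Cfsg.classInner χ (Cfsg.indFun H θ) = Cfsg.classInner (fun h : H => χ h) θ := by
  rw [classInner_conj_symm, classInner_indFun H θ hχ, ← classInner_conj_symm]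

/-- Inducing a character gives a character. -/
theorem isCharacter_indFun (H : Subgroup G) {θ : H → ℂ} (hθ : Cfsg.IsCharacter H θ) :
    Cfsg.IsCharacter G (Cfsg.indFun H θ) := by
  haveI := Fintype.ofFinite H
  refine isCharacter_of_classInner (isClassFunction_indFun H θ) fun χ => ?_
  rw [classInner_indFun H θ (isClassFunction_of_isIrr χ.2)]
  exact classInner_characters hθ (isCharacter_restrict H (isCharacter_of_isIrr χ.2))

/-- The projection formula. -/
theorem indFun_mul (H : Subgroup G) (θ : H → ℂ) {χ : G → ℂ} (hχ : Cfsg.IsClassFunction G χ) :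
    Cfsg.indFun H (fun h => θ h * χ h) = fun g => Cfsg.indFun H θ g * χ g := by
  funext g
  simp only [Cfsg.indFun]
  rw [mul_assoc, Finset.sum_mul]
  congr 1
  refine Finset.sum_congr rfl fun x _ => ?_
  by_cases hx : x⁻¹ * g * x ∈ H
  · rw [extendByZero_of_mem H _ hx, extendByZero_of_mem H _ hx]
    congr 1
    simpa using hχ g x⁻¹
  · rw [extendByZero_of_not_mem H _ hx, extendByZero_of_not_mem H _ hx, zero_mul]

/-- Transitivity of induction. -/
theorem indFun_trans (H K : Subgroup G) [Fintype K] (hHK : H ≤ K) (θ : H → ℂ) :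
    Cfsg.indFun K (Cfsg.indFun (H.subgroupOf K)
      (fun x => θ ⟨(x : K), Subgroup.mem_subgroupOf.mp x.2⟩)) = Cfsg.indFun H θ := by
  classical
  funext g
  have hcard : Nat.card (H.subgroupOf K) = Nat.card H :=
    Nat.card_congr (Subgroup.subgroupOfEquivOfLe hHK).toEquiv
  have hext : ∀ y : K, Cfsg.extendByZero (H.subgroupOf K)
      (fun x => θ ⟨(x : K), Subgroup.mem_subgroupOf.mp x.2⟩) y =
        Cfsg.extendByZero H θ (y : G) := by
    intro y
    by_cases hy : (y : G) ∈ H
    · rw [extendByZero_of_mem _ _ (show y ∈ H.subgroupOf K from hy), extendByZero_of_mem H θ hy]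
    · rw [extendByZero_of_not_mem _ _ (show y ∉ H.subgroupOf K from hy),
        extendByZero_of_not_mem H θ hy]
  set ψ : K → ℂ := Cfsg.indFun (H.subgroupOf K)
    (fun x => θ ⟨(x : K), Subgroup.mem_subgroupOf.mp x.2⟩) with hψ
  have houter : ∀ x : G, Cfsg.extendByZero K ψ (x⁻¹ * g * x) =
      (Nat.card H : ℂ)⁻¹ * ∑ k : K, Cfsg.extendByZero H θ ((x * k)⁻¹ * g * (x * k)) := by
    intro x
    by_cases hx : x⁻¹ * g * x ∈ K
    · rw [extendByZero_of_mem K ψ hx, hψ, Cfsg.indFun, hcard]
      congr 1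
      refine Finset.sum_congr rfl fun k _ => ?_
      rw [hext]
      congr 1
      push_cast
      group
    · rw [extendByZero_of_not_mem K ψ hx, Finset.sum_eq_zero, mul_zero]
      intro k _
      refine extendByZero_of_not_mem H θ fun hk => hx ?_
      have h2 := K.mul_mem (K.mul_mem k.2 (hHK hk)) (K.inv_mem k.2)
      rwa [show (k : G) * ((x * k)⁻¹ * g * (x * k)) * (k : G)⁻¹ = x⁻¹ * g * x by group] at h2
  simp only [Cfsg.indFun]
  rw [Finset.sum_congr rfl fun x _ => houter x, ← Finset.mul_sum, Finset.sum_comm]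
  have : ∀ k : K, (∑ x : G, Cfsg.extendByZero H θ ((x * k)⁻¹ * g * (x * k))) =
      ∑ x : G, Cfsg.extendByZero H θ (x⁻¹ * g * x) := fun k =>
    Fintype.sum_bijective (· * (k : G)) (Group.mulRight_bijective _) _ _ fun x => rfl
  rw [Finset.sum_congr rfl fun k _ => this k, Finset.sum_const, Finset.card_univ,
    ← Nat.card_eq_fintype_card, nsmul_eq_mul]
  field_simp [subgroup_card_ne_zero]

/-- The permutation character is induced from the trivial character of a stabilizer. -/
theorem card_fixedBy_eq_indFun (X : Type v) [MulAction G X] [Finite X]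
    [MulAction.IsPretransitive G X] (x : X) (g : G) :
    (Nat.card (MulAction.fixedBy X g) : ℂ) =
      Cfsg.indFun (MulAction.stabilizer G x) (fun _ => 1) g := by
  classical
  haveI := Fintype.ofFinite X
  set S := MulAction.stabilizer G x
  have hterm : ∀ c : G, Cfsg.extendByZero S (fun _ => (1 : ℂ)) (c⁻¹ * g * c) =
      if g • (c • x) = c • x then 1 else 0 := by
    intro c
    have hiff : c⁻¹ * g * c ∈ S ↔ g • (c • x) = c • x := by
      rw [MulAction.mem_stabilizer_iff, mul_smul, mul_smul, inv_smul_eq_iff]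
    by_cases h : c⁻¹ * g * c ∈ S
    · rw [extendByZero_of_mem S _ h, if_pos (hiff.1 h)]
    · rw [extendByZero_of_not_mem S _ h, if_neg (mt hiff.2 h)]
  simp only [Cfsg.indFun, hterm]
  rw [← Finset.sum_fiberwise Finset.univ (fun c : G => c • x)]
  have hfib : ∀ y : X, (∑ c ∈ Finset.univ.filter (fun c : G => c • x = y),
      if g • (c • x) = c • x then (1 : ℂ) else 0) =
        (Nat.card S : ℂ) * if g • y = y then 1 else 0 := by
    intro y
    rw [Finset.sum_congr rfl (g := fun _ => if g • y = y then (1 : ℂ) else 0)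
      (fun c hc => by rw [(Finset.mem_filter.1 hc).2]), Finset.sum_const, nsmul_eq_mul]
    congr 2
    obtain ⟨d, rfl⟩ := MulAction.exists_smul_eq G x y
    rw [← Fintype.card_subtype, Fintype.card_eq_nat_card]
    refine Nat.card_congr ⟨fun c => ⟨d⁻¹ * c.1, ?_⟩, fun s => ⟨d * s.1, ?_⟩,
      fun c => Subtype.ext (by group), fun s => Subtype.ext (by group)⟩
    · rw [MulAction.mem_stabilizer_iff, mul_smul, c.2, inv_smul_smul]
    · rw [mul_smul, MulAction.mem_stabilizer_iff.1 s.2]
  rw [Finset.sum_congr rfl fun y _ => hfib y, ← Finset.mul_sum, ← mul_assoc,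
    inv_mul_cancel₀ (subgroup_card_ne_zero S), one_mul, Finset.sum_boole]
  rw [Nat.card_eq_fintype_card]
  congr 1
  exact Fintype.card_subtype _

end CfsgLib.Characters
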