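import Cfsg.Agent.Characters.Classes
import Mathlib.GroupTheory.FiniteAbelian.Duality
import Mathlib.RingTheory.RootsOfUnity.AlgebraicallyClosed
import Mathlib.GroupTheory.Abelianization.Defs
import Mathlib.GroupTheory.QuotientGroup.Basic

/-!
# Linear characters, kernels and inflation
-/

set_option autoImplicit false
set_option linter.style.haveILetI false
set_option linter.unusedSectionVars false

namespace CfsgLib.Characters

open Representation
open scoped ComplexConjugate

universe u v w

/-! ### Linear characters -/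

section Linear

variable {G : Type u} [Group G]

/-- The one dimensional representation attached to a homomorphism into `ℂˣ`. -/
noncomputable def linRep (f : G →* ℂˣ) : Representation ℂ G ℂ where
  toFun g := (f g : ℂ) • LinearMap.id
  map_one' := by ext; simp
  map_mul' g h := by ext; simp [mul_comm]

theorem char_linRep (f : G →* ℂˣ) : (linRep f).character = fun g => (f g : ℂ) := by
  funext g
  change LinearMap.trace ℂ ℂ ((f g : ℂ) • LinearMap.id) = _
  rw [map_smul, show (LinearMap.id : ℂ →ₗ[ℂ] ℂ) = 1 from rfl, LinearMap.trace_one]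
  simp

theorem isIrr_linChar (f : G →* ℂˣ) : Cfsg.IsIrrCharacter G (fun g => (f g : ℂ)) := by
  haveI := isIrreducible_of_finrank_eq_one (linRep f) (Module.finrank_self ℂ)
  rw [← char_linRep]
  exact isIrrCharacter_character _

theorem isIrr_one : Cfsg.IsIrrCharacter G (fun _ => 1) := by
  simpa using isIrr_linChar (1 : G →* ℂˣ)

theorem isCharacter_one : Cfsg.IsCharacter G (fun _ => 1) :=
  isCharacter_of_isIrr isIrr_one

theorem char_of_finrank_eq_one {V : Type v} [AddCommGroup V] [Module ℂ V] [FiniteDimensional ℂ V]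
    (ρ : Representation ℂ G V) (h : Module.finrank ℂ V = 1) (g : G) :
    ρ g = ρ.character g • LinearMap.id := by
  obtain ⟨v, hv⟩ := (Module.finBasisOfFinrankEq ℂ V h) 0, (Module.finBasisOfFinrankEq ℂ V h).ne_zero 0
  obtain ⟨c, hc⟩ := (finrank_eq_one_iff_of_nonzero' v hv).1 h (ρ g v)
  have hg : ρ g = c • LinearMap.id := by
    refine (Module.finBasisOfFinrankEq ℂ V h).ext fun i => ?_
    obtain ⟨a, ha⟩ := (finrank_eq_one_iff_of_nonzero' v hv).1 h (Module.finBasisOfFinrankEq ℂ V h i)
    simp [← ha, ← hc, smul_comm a c]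
  rw [Representation.character, hg, map_smul, show (LinearMap.id : V →ₗ[ℂ] V) = 1 from rfl,
    LinearMap.trace_one, h]
  simp

theorem exists_hom_of_degree_one {χ : G → ℂ} (hχ : Cfsg.IsCharacter G χ) (h1 : χ 1 = 1) :
    ∃ f : G →* ℂˣ, χ = fun g => (f g : ℂ) := by
  obtain ⟨n, ρ, rfl⟩ := hχ
  have hn : Module.finrank ℂ (Fin n → ℂ) = 1 := by
    rw [Representation.char_one] at h1
    exact_mod_cast h1
  let φ : G →* ℂ :=
    { toFun := ρ.character
      map_one' := h1
      map_mul' := fun a b => by
        have h2 : ρ (a * b) = ρ.character a • ρ b := by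
          rw [map_mul]
          conv_lhs => rw [char_of_finrank_eq_one ρ hn a]
          ext x; simp
        change LinearMap.trace ℂ _ (ρ (a * b)) = _
        rw [h2, map_smul, smul_eq_mul]
        rfl }
  exact ⟨φ.toHomUnits, funext fun g => (MonoidHom.coe_toHomUnits φ g).symm⟩

/-- The degree one irreducible characters are the homomorphisms into `ℂˣ`. -/
noncomputable def linearCharEquiv :
    (G →* ℂˣ) ≃ {χ : Cfsg.IrrCharacter G // (χ : G → ℂ) 1 = 1} :=
  Equiv.ofBijective (fun f => ⟨⟨fun g => (f g : ℂ), isIrr_linChar f⟩, by simp⟩)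
    ⟨fun f f' h => MonoidHom.ext fun g => Units.ext
        (congrFun (congrArg Subtype.val (congrArg Subtype.val h)) g),
      fun χ => by
        obtain ⟨f, hf⟩ := exists_hom_of_degree_one (isCharacter_of_isIrr χ.1.2) χ.2
        exact ⟨f, Subtype.ext (Subtype.ext hf.symm)⟩⟩

theorem card_linear_char [Finite G] :
    Nat.card {χ : Cfsg.IrrCharacter G // (χ : G → ℂ) 1 = 1} = (commutator G).index := by
  haveI : Finite (Abelianization G) := Quotient.finite _
  haveI : NeZero (Monoid.exponent (Abelianization G) : ℂ) :=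
    ⟨Nat.cast_ne_zero.2 Monoid.exponent_ne_zero_of_finite⟩
  rw [← Nat.card_congr (linearCharEquiv (G := G)),
    Nat.card_congr (Abelianization.lift (G := G) (A := ℂˣ)),
    CommGroup.card_monoidHom_of_hasEnoughRootsOfUnity]
  rfl

end Linear

/-! ### Kernels -/

section Kernels

variable {G : Type u} [Group G] [Finite G] {V : Type v} [AddCommGroup V] [Module ℂ V]
  [FiniteDimensional ℂ V] (ρ : Representation ℂ G V)

theorem exists_scalar_of_norm_char_eq (g : G)
    (h : ‖ρ.character g‖ = (Module.finrank ℂ V : ℝ)) :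
    ∃ ω : ℂ, ρ g = ω • LinearMap.id ∧ ρ.character g = ω * (Module.finrank ℂ V : ℂ) := by
  obtain ⟨b, μ, hb⟩ := exists_eigenbasis ρ g
  let n := Module.finrank ℂ V
  rcases Nat.eq_zero_or_pos n with hn | hn
  · haveI : Subsingleton V := Module.finrank_zero_iff.1 hn
    exact ⟨1, Subsingleton.elim _ _, by simp [Representation.character, Subsingleton.elim (ρ g) 0, Module.finrank_zero_of_subsingleton]⟩
  have htr : ρ.character g = ∑ i, μ i := by
    rw [Representation.character, LinearMap.trace_eq_matrix_trace ℂ b, Matrix.trace]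
    refine Finset.sum_congr rfl fun i _ => ?_
    rw [Matrix.diag, LinearMap.toMatrix_apply, (hb i).1]
    simp
  set s := ρ.character g
  set w : ℂ := conj s / (n : ℂ) with hw
  have hnorm : ∀ i, ‖μ i‖ = 1 := fun i =>
    Complex.norm_eq_one_of_pow_eq_one (hb i).2 (orderOf_pos g).ne'
  have hwn : ‖w‖ = 1 := by
    rw [hw, norm_div, RCLike.norm_conj, h, Complex.norm_natCast, div_self]
    exact_mod_cast hn.ne'
  have hsum : ∑ i, (w * μ i).re = n := by
    rw [← Complex.re_sum, ← Finset.mul_sum, ← htr, hw, div_mul_eq_mul_div, mul_comm,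
      Complex.mul_conj', h]
    rw [sq, Complex.ofReal_natCast, mul_div_assoc, div_self (by exact_mod_cast hn.ne'), mul_one,
      Complex.natCast_re]
  have hle : ∀ i, (w * μ i).re ≤ 1 := fun i =>
    (Complex.re_le_norm _).trans (le_of_eq (by rw [norm_mul, hwn, hnorm, one_mul]))
  have hone : ∀ i, w * μ i = 1 := by
    intro i
    have hre : (w * μ i).re = 1 := by
      refine (Finset.sum_eq_sum_iff_of_le fun j _ => hle j).1 ?_ i (Finset.mem_univ i)
      rw [hsum, Finset.sum_const, Finset.card_univ, Fintype.card_fin, nsmul_eq_mul, mul_one]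
    have hsq : Complex.normSq (w * μ i) = 1 := by
      rw [Complex.normSq_eq_norm_sq, norm_mul, hwn, hnorm]; norm_num
    rw [Complex.normSq_apply, hre] at hsq
    exact Complex.ext hre (mul_self_eq_zero.1 (by linarith))
  have hμ : ∀ i, μ i = w⁻¹ := fun i => eq_inv_of_mul_eq_one_right (hone i)
  refine ⟨w⁻¹, b.ext fun i => by rw [(hb i).1, hμ i]; rfl, ?_⟩
  rw [htr, Finset.sum_congr rfl fun i _ => hμ i]
  simp [mul_comm]

theorem norm_char_eq_iff_scalar (g : G) :
    ‖ρ.character g‖ = (Module.finrank ℂ V : ℝ) ↔ ∃ ω : ℂ, ρ g = ω • LinearMap.id := by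
  refine ⟨fun h => (exists_scalar_of_norm_char_eq ρ g h).imp fun ω hω => hω.1, ?_⟩
  rintro ⟨ω, hω⟩
  rcases subsingleton_or_nontrivial V with hV | hV
  · simp [Representation.character, Subsingleton.elim (ρ g) 0, Module.finrank_zero_of_subsingleton]
  obtain ⟨b, μ, hb⟩ := exists_eigenbasis ρ g
  have i : Fin (Module.finrank ℂ V) := ⟨0, Module.finrank_pos⟩
  have h1 : ‖ω‖ = 1 := by
    have h2 := (hb i).1
    rw [hω] at h2
    have : (ω - μ i) • b i = 0 := by rw [sub_smul, ← h2]; simp
    rw [sub_eq_zero.1 ((smul_eq_zero.1 this).resolve_right (b.ne_zero i))]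
    exact Complex.norm_eq_one_of_pow_eq_one (hb i).2 (orderOf_pos g).ne'
  rw [Representation.character, hω, map_smul, show (LinearMap.id : V →ₗ[ℂ] V) = 1 from rfl,
    LinearMap.trace_one, norm_smul, h1, one_mul, Complex.norm_natCast]

theorem char_eq_finrank_iff (g : G) :
    ρ.character g = (Module.finrank ℂ V : ℂ) ↔ ρ g = LinearMap.id := by
  refine ⟨fun h => ?_, fun h => by
    rw [Representation.character, h, show (LinearMap.id : V →ₗ[ℂ] V) = 1 from rfl,
      LinearMap.trace_one]⟩
  rcases Nat.eq_zero_or_pos (Module.finrank ℂ V) with hn | hn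
  · haveI : Subsingleton V := Module.finrank_zero_iff.1 hn
    exact Subsingleton.elim _ _
  obtain ⟨ω, hω, hω'⟩ := exists_scalar_of_norm_char_eq ρ g (by rw [h, Complex.norm_natCast])
  rw [h, eq_comm, mul_eq_right₀ (Nat.cast_ne_zero.2 hn.ne')] at hω'
  rw [hω, hω', one_smul]

end Kernels

/-! ### Inflation -/

section Inflation

variable {G : Type u} [Group G]

theorem isIrreducible_comp_iff {H : Type w} [Group H] (f : G →* H) (hf : Function.Surjective f)
    {k : Type*} [Field k] {V : Type v} [AddCommGroup V] [Module k V] (ρ : Representation k H V) :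
    Representation.IsIrreducible (ρ.comp f) ↔ ρ.IsIrreducible :=
  OrderIso.isSimpleOrder_iff (α := Subrepresentation (ρ.comp f)) (β := Subrepresentation ρ)
    { toFun := fun S => ⟨S.toSubmodule, fun h x hx => by
        obtain ⟨g, rfl⟩ := hf h
        exact S.apply_mem_toSubmodule g hx⟩
      invFun := fun S => ⟨S.toSubmodule, fun g x hx => S.apply_mem_toSubmodule (f g) hx⟩
      left_inv := fun S => rfl
      right_inv := fun S => rfl
      map_rel_iff' := Iff.rfl }

theorem isIrr_comp {H : Type w} [Group H] (f : G →* H) (hf : Function.Surjective f) {χ : H → ℂ}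
    (h : Cfsg.IsIrrCharacter H χ) : Cfsg.IsIrrCharacter G (fun g => χ (f g)) := by
  obtain ⟨n, ρ, hρ, rfl⟩ := h
  exact ⟨n, ρ.comp f, (isIrreducible_comp_iff f hf ρ).2 hρ, rfl⟩

/-- An irreducible character trivial on a normal subgroup comes from the quotient. -/
theorem exists_irr_quotient [Finite G] (N : Subgroup G) [N.Normal] {χ : G → ℂ}
    (h : Cfsg.IsIrrCharacter G χ) (hN : ∀ n ∈ N, χ n = χ 1) :
    ∃ ψ : G ⧸ N → ℂ, Cfsg.IsIrrCharacter (G ⧸ N) ψ ∧ ∀ g, χ g = ψ g := by
  obtain ⟨n, ρ, hρ, rfl⟩ := h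
  have hker : N ≤ MonoidHom.ker ρ := fun x hx =>
    MonoidHom.mem_ker.2 ((char_eq_finrank_iff ρ x).1 ((hN x hx).trans (Representation.char_one ρ)))
  refine ⟨Representation.character (QuotientGroup.lift N ρ hker), ⟨n, _, ?_, rfl⟩, fun g => rfl⟩
  refine (isIrreducible_comp_iff (QuotientGroup.mk' N) (QuotientGroup.mk'_surjective N) _).1 ?_
  exact hρ

end Inflation

end CfsgLib.Characters
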