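import Cfsg.Agent.Characters.Classes
import Cfsg.Agent.Characters.Induction
import Cfsg.Agent.Characters.Linear
import Mathlib.Algebra.Order.BigOperators.Ring.Finset

/-!
# Generalized characters
-/

set_option autoImplicit false
set_option linter.style.haveILetI false
set_option linter.unusedSectionVars false

namespace CfsgLib.Characters

open scoped ComplexConjugate

universe u w

section Closure

variable {G : Type u} [Group G]

theorem isGen_of_isCharacter {χ : G → ℂ} (h : Cfsg.IsCharacter G χ) :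
    Cfsg.IsGeneralizedCharacter G χ :=
  ⟨χ, 0, h, isCharacter_zero, (sub_zero χ).symm⟩

theorem isGen_of_isIrr {χ : G → ℂ} (h : Cfsg.IsIrrCharacter G χ) :
    Cfsg.IsGeneralizedCharacter G χ :=
  isGen_of_isCharacter (isCharacter_of_isIrr h)

theorem isGen_zero : Cfsg.IsGeneralizedCharacter G (0 : G → ℂ) :=
  isGen_of_isCharacter isCharacter_zero

theorem isGen_neg {θ : G → ℂ} (h : Cfsg.IsGeneralizedCharacter G θ) :
    Cfsg.IsGeneralizedCharacter G (-θ) := by
  obtain ⟨χ, ψ, hχ, hψ, rfl⟩ := h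
  exact ⟨ψ, χ, hψ, hχ, neg_sub χ ψ⟩

theorem isGen_add {θ η : G → ℂ} (h₁ : Cfsg.IsGeneralizedCharacter G θ)
    (h₂ : Cfsg.IsGeneralizedCharacter G η) : Cfsg.IsGeneralizedCharacter G (θ + η) := by
  obtain ⟨a, b, ha, hb, rfl⟩ := h₁
  obtain ⟨c, d, hc, hd, rfl⟩ := h₂
  exact ⟨a + c, b + d, isCharacter_add ha hc, isCharacter_add hb hd, by abel⟩

theorem isGen_sub {θ η : G → ℂ} (h₁ : Cfsg.IsGeneralizedCharacter G θ)
    (h₂ : Cfsg.IsGeneralizedCharacter G η) : Cfsg.IsGeneralizedCharacter G (θ - η) :=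
  sub_eq_add_neg θ η ▸ isGen_add h₁ (isGen_neg h₂)

theorem isGen_zsmul {θ : G → ℂ} (h : Cfsg.IsGeneralizedCharacter G θ) (z : ℤ) :
    Cfsg.IsGeneralizedCharacter G ((z : ℂ) • θ) := by
  have hn : ∀ m : ℕ, Cfsg.IsGeneralizedCharacter G ((m : ℂ) • θ) := by
    obtain ⟨a, b, ha, hb, rfl⟩ := h
    exact fun m => ⟨(m : ℂ) • a, (m : ℂ) • b, isCharacter_natCast_smul ha m,
      isCharacter_natCast_smul hb m, smul_sub _ _ _⟩
  obtain ⟨m, rfl | rfl⟩ := z.eq_nat_or_neg
  · simpa using hn m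
  · simpa [neg_smul] using isGen_neg (hn m)

theorem isGen_sum {ι : Type*} (s : Finset ι) (f : ι → G → ℂ)
    (h : ∀ i ∈ s, Cfsg.IsGeneralizedCharacter G (f i)) :
    Cfsg.IsGeneralizedCharacter G (∑ i ∈ s, f i) :=
  Finset.sum_induction f (Cfsg.IsGeneralizedCharacter G) (fun _ _ => isGen_add) isGen_zero h

theorem isGen_mul {θ η : G → ℂ} (h₁ : Cfsg.IsGeneralizedCharacter G θ)
    (h₂ : Cfsg.IsGeneralizedCharacter G η) : Cfsg.IsGeneralizedCharacter G (θ * η) := by
  obtain ⟨a, b, ha, hb, rfl⟩ := h₁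
  obtain ⟨c, d, hc, hd, rfl⟩ := h₂
  exact ⟨a * c + b * d, a * d + b * c, isCharacter_add (isCharacter_mul ha hc) (isCharacter_mul hb hd),
    isCharacter_add (isCharacter_mul ha hd) (isCharacter_mul hb hc), by ring⟩

theorem isClassFunction_of_isGen {θ : G → ℂ} (h : Cfsg.IsGeneralizedCharacter G θ) :
    Cfsg.IsClassFunction G θ := by
  obtain ⟨a, b, ha, hb, rfl⟩ := h
  exact fun g x => by
    simp only [Pi.sub_apply, isClassFunction_of_isCharacter ha g x,
      isClassFunction_of_isCharacter hb g x]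

theorem isGen_comp {H : Type w} [Group H] (f : H →* G) {θ : G → ℂ}
    (h : Cfsg.IsGeneralizedCharacter G θ) : Cfsg.IsGeneralizedCharacter H (fun x => θ (f x)) := by
  obtain ⟨a, b, ha, hb, rfl⟩ := h
  exact ⟨_, _, isCharacter_comp f ha, isCharacter_comp f hb, rfl⟩

theorem isGen_restrict (H : Subgroup G) {θ : G → ℂ} (h : Cfsg.IsGeneralizedCharacter G θ) :
    Cfsg.IsGeneralizedCharacter H (fun x : H => θ x) :=
  isGen_comp H.subtype h

theorem isGen_one : Cfsg.IsGeneralizedCharacter G (fun _ => 1) :=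
  isGen_of_isCharacter isCharacter_one

theorem gen_one_isInt {θ : G → ℂ} (h : Cfsg.IsGeneralizedCharacter G θ) :
    ∃ z : ℤ, θ 1 = z := by
  obtain ⟨a, b, ha, hb, rfl⟩ := h
  obtain ⟨m, hm⟩ := exists_degree ha
  obtain ⟨n, hn⟩ := exists_degree hb
  exact ⟨(m : ℤ) - n, by simp [hm, hn]⟩

theorem gen_isIntegral [Finite G] {θ : G → ℂ} (h : Cfsg.IsGeneralizedCharacter G θ) (g : G) :
    IsIntegral ℤ (θ g) := by
  obtain ⟨a, b, ha, hb, rfl⟩ := h
  exact (character_isIntegral ha g).sub (character_isIntegral hb g)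

theorem gen_inv [Finite G] {θ : G → ℂ} (h : Cfsg.IsGeneralizedCharacter G θ) (g : G) :
    θ g⁻¹ = conj (θ g) := by
  obtain ⟨a, b, ha, hb, rfl⟩ := h
  simp [character_inv ha, character_inv hb]

theorem isGen_conj [Finite G] {θ : G → ℂ} (h : Cfsg.IsGeneralizedCharacter G θ) :
    Cfsg.IsGeneralizedCharacter G (fun g => conj (θ g)) := by
  obtain ⟨a, b, ha, hb, rfl⟩ := h
  exact ⟨_, _, isCharacter_conj ha, isCharacter_conj hb, funext fun g => map_sub _ _ _⟩

end Closure

section Coeff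

variable {G : Type u} [Group G] [Fintype G]

theorem isGen_indFun (H : Subgroup G) {θ : H → ℂ} (h : Cfsg.IsGeneralizedCharacter H θ) :
    Cfsg.IsGeneralizedCharacter G (Cfsg.indFun H θ) := by
  obtain ⟨a, b, ha, hb, rfl⟩ := h
  exact ⟨_, _, isCharacter_indFun H ha, isCharacter_indFun H hb, indFun_sub H a b⟩

theorem classInner_gen {θ η : G → ℂ} (hθ : Cfsg.IsGeneralizedCharacter G θ)
    (hη : Cfsg.IsGeneralizedCharacter G η) : ∃ z : ℤ, Cfsg.classInner θ η = z := by
  obtain ⟨a, b, ha, hb, rfl⟩ := hθ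
  obtain ⟨c, d, hc, hd, rfl⟩ := hη
  obtain ⟨p, hp⟩ := classInner_characters ha hc
  obtain ⟨q, hq⟩ := classInner_characters ha hd
  obtain ⟨r, hr⟩ := classInner_characters hb hc
  obtain ⟨s, hs⟩ := classInner_characters hb hd
  refine ⟨(p : ℤ) - q - (r - s), ?_⟩
  rw [classInner_sub_left, classInner_sub_right, classInner_sub_right, hp, hq, hr, hs]
  push_cast
  ring

/-- A class function is a generalized character when all its multiplicities are integers. -/
theorem isGen_of_classInner {θ : G → ℂ} (hθ : Cfsg.IsClassFunction G θ)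
    (h : ∀ χ : Cfsg.IrrCharacter G, ∃ z : ℤ, Cfsg.classInner θ (χ : G → ℂ) = z) :
    Cfsg.IsGeneralizedCharacter G θ := by
  choose z hz using h
  rw [classFunction_expansion hθ]
  simp only [hz]
  exact isGen_sum _ _ fun χ _ => isGen_zsmul (isGen_of_isIrr χ.2) _

theorem exists_int_coeff {θ : G → ℂ} (h : Cfsg.IsGeneralizedCharacter G θ) :
    ∃ m : Cfsg.IrrCharacter G → ℤ, θ = ∑ χ, (m χ : ℂ) • (χ : G → ℂ) ∧
      ∀ χ : Cfsg.IrrCharacter G, Cfsg.classInner θ (χ : G → ℂ) = m χ := by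
  choose m hm using fun χ : Cfsg.IrrCharacter G => classInner_gen h (isGen_of_isIrr χ.2)
  refine ⟨m, ?_, hm⟩
  conv_lhs => rw [classFunction_expansion (isClassFunction_of_isGen h)]
  exact Finset.sum_congr rfl fun χ _ => by rw [hm]

theorem classInner_self_eq_sum_sq {θ : G → ℂ} (h : Cfsg.IsClassFunction G θ)
    (m : Cfsg.IrrCharacter G → ℤ) (hm : ∀ χ : Cfsg.IrrCharacter G, Cfsg.classInner θ (χ : G → ℂ) = m χ) :
    Cfsg.classInner θ θ = ((∑ χ, m χ ^ 2 : ℤ) : ℂ) := by
  rw [classInner_eq_sum h]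
  push_cast
  refine Finset.sum_congr rfl fun χ _ => ?_
  rw [hm, map_intCast, sq]

/-- A generalized character of norm one is an irreducible character up to sign. -/
theorem gen_norm_one {θ : G → ℂ} (h : Cfsg.IsGeneralizedCharacter G θ)
    (h1 : Cfsg.classInner θ θ = 1) :
    Cfsg.IsIrrCharacter G θ ∨ Cfsg.IsIrrCharacter G (-θ) := by
  classical
  obtain ⟨m, hm, hmi⟩ := exists_int_coeff h
  have hsq : ∑ χ, m χ ^ 2 = 1 := by
    have := (classInner_self_eq_sum_sq (isClassFunction_of_isGen h) m hmi).symm.trans h1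
    exact_mod_cast this
  obtain ⟨χ, -, hχ⟩ := Finset.exists_ne_zero_of_sum_ne_zero (hsq.trans_ne one_ne_zero)
  have hpos : 1 ≤ m χ ^ 2 := Int.add_one_le_iff.2 (lt_of_le_of_ne (sq_nonneg _) (Ne.symm hχ))
  have hχ1 : m χ ^ 2 = 1 :=
    le_antisymm (hsq ▸ Finset.single_le_sum (f := fun χ => m χ ^ 2) (fun _ _ => sq_nonneg _)
      (Finset.mem_univ χ)) hpos
  have hrest : ∀ ψ, ψ ≠ χ → m ψ = 0 := by
    intro ψ hψ
    have hle := Finset.sum_le_sum_of_subset_of_nonneg (f := fun χ => m χ ^ 2)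
      (Finset.subset_univ ({χ, ψ} : Finset (Cfsg.IrrCharacter G))) fun _ _ _ => sq_nonneg _
    rw [Finset.sum_pair hψ.symm, hsq, hχ1] at hle
    exact pow_eq_zero_iff (n := 2) two_ne_zero |>.1 (le_antisymm (by linarith) (sq_nonneg _))
  have hθ : θ = (m χ : ℂ) • (χ : G → ℂ) := by
    rw [hm, Finset.sum_eq_single χ (fun ψ _ hψ => by simp [hrest ψ hψ]) (by simp)]
  rcases sq_eq_one_iff.1 hχ1 with h' | h' <;> rw [hθ, h']
  · exact Or.inl (by simpa using χ.2)
  · exact Or.inr (by simpa using χ.2)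

/-- A generalized character of norm one with positive degree is irreducible. -/
theorem isIrr_of_gen_norm_one {θ : G → ℂ} (h : Cfsg.IsGeneralizedCharacter G θ)
    (h1 : Cfsg.classInner θ θ = 1) (hpos : 0 ≤ (θ 1).re) : Cfsg.IsIrrCharacter G θ := by
  refine (gen_norm_one h h1).resolve_right fun hneg => ?_
  obtain ⟨n, hn, hdeg⟩ := exists_degree_pos hneg
  have := congrArg Complex.re hdeg
  rw [Pi.neg_apply, Complex.neg_re, Complex.natCast_re] at this
  have : (0 : ℝ) < n := Nat.cast_pos.2 hn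
  linarith

end Coeff

end CfsgLib.Characters
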