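import Cfsg.Agent.Characters.Orthogonality
import Mathlib.RingTheory.IntegralClosure.Algebra.Basic
import Mathlib.RingTheory.IntegralClosure.IntegrallyClosed
import Mathlib.GroupTheory.Coset.Card
import Mathlib.RingTheory.Int.Basic
import Mathlib.RingTheory.UniqueFactorizationDomain.GCDMonoid
import Mathlib.RingTheory.Polynomial.RationalRoot

/-!
# Integrality: central characters and degrees
-/

set_option autoImplicit false
set_option linter.style.haveILetI false
set_option linter.unusedSectionVars false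

namespace CfsgLib.Characters

open Representation
open scoped ComplexConjugate

universe u v w

/-- A rational algebraic integer given as a quotient of natural numbers is a natural number. -/
theorem dvd_of_isIntegral_div {a b : ℕ} (hb : b ≠ 0) (h : IsIntegral ℤ ((a : ℂ) / b)) : b ∣ a := by
  have hq : IsIntegral ℤ ((a : ℚ) / b) := by
    refine (isIntegral_algHom_iff (IsScalarTower.toAlgHom ℤ ℚ ℂ) (algebraMap ℚ ℂ).injective).1 ?_
    simpa using h
  obtain ⟨z, hz⟩ := IsIntegrallyClosed.isIntegral_iff.1 hq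
  have h1 : (a : ℤ) = z * b := by
    have h2 : (z : ℚ) = (a : ℚ) / b := by simpa using hz
    rw [eq_div_iff (by exact_mod_cast hb)] at h2
    exact_mod_cast h2.symm
  exact Int.natCast_dvd_natCast.1 ⟨z, by rw [h1]; ring⟩

section

variable {G : Type u} [Group G] [Fintype G] {V : Type v} [AddCommGroup V] [Module ℂ V]
  [FiniteDimensional ℂ V] (ρ : Representation ℂ G V)

/-- If a combination of group elements with algebraic integer coefficients acts as a scalar,
that scalar is an algebraic integer. -/
theorem isIntegral_of_scalar [Nontrivial V] (s : Finset G) (a : G → ℂ)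
    (ha : ∀ g ∈ s, IsIntegral ℤ (a g)) (c : ℂ)
    (h : ∑ g ∈ s, a g • ρ g = c • LinearMap.id) : IsIntegral ℤ c := by
  classical
  let R := integralClosure ℤ ℂ
  let Φ : MonoidAlgebra R G →ₐ[R] Module.End ℂ V := MonoidAlgebra.lift R _ G ρ
  haveI : Module.Finite R (MonoidAlgebra R G) :=
    Module.Finite.of_basis (MonoidAlgebra.basis G R)
  let z : MonoidAlgebra R G := ∑ g ∈ s.attach, MonoidAlgebra.single g.1 ⟨a g.1, ha g.1 g.2⟩
  have hz : Φ z = algebraMap ℂ (Module.End ℂ V) c := by
    rw [Algebra.algebraMap_eq_smul_one, show (1 : Module.End ℂ V) = LinearMap.id from rfl, ← h]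
    simp only [Φ, z, map_sum, MonoidAlgebra.lift_single]
    conv_rhs => rw [← Finset.sum_attach]
    rfl
  have h1 : IsIntegral R (algebraMap ℂ (Module.End ℂ V) c) :=
    hz ▸ (IsIntegral.of_finite R z).map Φ
  exact isIntegral_trans c
    ((isIntegral_algHom_iff (IsScalarTower.toAlgHom R ℂ (Module.End ℂ V))
      (algebraMap ℂ (Module.End ℂ V)).injective).1 h1)

theorem trace_smul_id (c : ℂ) :
    LinearMap.trace ℂ V (c • LinearMap.id) = c * (Module.finrank ℂ V : ℂ) := by
  rw [map_smul, show (LinearMap.id : V →ₗ[ℂ] V) = 1 from rfl, LinearMap.trace_one, smul_eq_mul]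

/-- A sum over a set closed under conjugation acts as a scalar, which is an algebraic integer. -/
theorem isIntegral_centralCharacter [ρ.IsIrreducible] (s : Finset G)
    (hs : ∀ g h : G, h * g * h⁻¹ ∈ s ↔ g ∈ s) :
    IsIntegral ℤ ((∑ g ∈ s, ρ.character g) / (Module.finrank ℂ V : ℂ)) := by
  haveI := nontrivial_of_isIrreducible ρ
  have hcomm : ∀ (h : G) (x : V), (∑ g ∈ s, ρ g) (ρ h x) = ρ h ((∑ g ∈ s, ρ g) x) := by
    intro h x
    simp only [LinearMap.sum_apply, map_sum, ← Module.End.mul_apply, ← map_mul]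
    refine Finset.sum_bij (fun g _ => h⁻¹ * g * h) ?_ ?_ ?_ ?_
    · intro g hg
      simpa using (hs g h⁻¹).2 hg
    · intro g _ g' _ hgg
      simpa using hgg
    · intro g hg
      exact ⟨h * g * h⁻¹, (hs g h).2 hg, by group⟩
    · intro g _
      congr 2
      group
  obtain ⟨c, hc⟩ := schur_scalar ρ _ hcomm
  have hint : IsIntegral ℤ c :=
    isIntegral_of_scalar ρ s (fun _ => 1) (fun _ _ => isIntegral_one) c (by simp [hc])
  have ht := congrArg (LinearMap.trace ℂ V) hc
  rw [trace_smul_id, map_sum] at ht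
  change (∑ g ∈ s, ρ.character g) = _ at ht
  rwa [ht, mul_div_cancel_right₀ _ (Nat.cast_ne_zero.2 (finrank_pos_of_isIrreducible ρ).ne')]

theorem card_conjugates_eq_index (g : G) :
    Nat.card {x : G // IsConj x g} = (Subgroup.centralizer ({g} : Set G)).index := by
  rw [Subgroup.index_eq_card]
  refine (Nat.card_congr (Equiv.ofBijective
    (Quotient.lift (fun c => (⟨c * g * c⁻¹, (isConj_iff.2 ⟨c, rfl⟩).symm⟩ : {x : G // IsConj x g}))
      ?_) ⟨?_, ?_⟩)).symm
  · intro a b hab
    have hab' : a⁻¹ * b ∈ Subgroup.centralizer ({g} : Set G) :=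
      QuotientGroup.leftRel_apply.1 hab
    rw [Subgroup.mem_centralizer_singleton_iff] at hab'
    apply Subtype.ext
    calc a * g * a⁻¹ = a * (g * (a⁻¹ * b)) * b⁻¹ := by group
      _ = a * (a⁻¹ * b * g) * b⁻¹ := by rw [← hab']
      _ = b * g * b⁻¹ := by group
  · rintro ⟨a⟩ ⟨b⟩ hab
    refine Quotient.sound (QuotientGroup.leftRel_apply.2 (Subgroup.mem_centralizer_singleton_iff.2 ?_))
    have h : a * g * a⁻¹ = b * g * b⁻¹ := congrArg Subtype.val hab
    calc a⁻¹ * b * g = a⁻¹ * (b * g * b⁻¹) * b := by group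
      _ = g * (a⁻¹ * b) := by rw [← h]; group
  · rintro ⟨x, hx⟩
    obtain ⟨c, rfl⟩ := isConj_iff.1 hx.symm
    exact ⟨Quotient.mk'' c, rfl⟩

theorem sum_conjugates (g : G) [DecidablePred (IsConj · g)] :
    ∑ x ∈ Finset.univ.filter (IsConj · g), ρ.character x =
      ((Subgroup.centralizer ({g} : Set G)).index : ℂ) * ρ.character g := by
  rw [Finset.sum_congr rfl (g := fun _ => ρ.character g), Finset.sum_const, nsmul_eq_mul,
    ← card_conjugates_eq_index, Nat.card_eq_fintype_card, Fintype.card_subtype]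
  intro x hx
  exact classFunction_isConj (isClassFunction_of_isCharacter (isCharacter_character ρ))
    (Finset.mem_filter.1 hx).2

/-- The class sum eigenvalue is an algebraic integer. -/
theorem isIntegral_index_mul_char_div [ρ.IsIrreducible] (g : G) :
    IsIntegral ℤ (((Subgroup.centralizer ({g} : Set G)).index : ℂ) * ρ.character g /
      (Module.finrank ℂ V : ℂ)) := by
  classical
  rw [← sum_conjugates ρ g]
  refine isIntegral_centralCharacter ρ _ fun x h => ?_
  simp only [Finset.mem_filter, Finset.mem_univ, true_and]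
  exact ⟨(isConj_iff.2 ⟨h, rfl⟩).trans, (isConj_iff.2 ⟨h, rfl⟩).symm.trans⟩

/-- The degree divides the index of every subgroup acting by scalars. -/
theorem finrank_dvd_index [ρ.IsIrreducible] (Z : Subgroup G)
    (hZ : ∀ z ∈ Z, ∃ c : ℂ, ρ z = c • LinearMap.id) : Module.finrank ℂ V ∣ Z.index := by
  classical
  haveI := nontrivial_of_isIrreducible ρ
  have hn : (Module.finrank ℂ V : ℂ) ≠ 0 :=
    Nat.cast_ne_zero.2 (finrank_pos_of_isIrreducible ρ).ne'
  set F : G → Module.End ℂ V := fun g => ρ.character g⁻¹ • ρ g with hF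
  have hconst : ∀ g, ∀ z ∈ Z, F (g * z) = F g := by
    intro g z hz
    obtain ⟨c, hc⟩ := hZ z hz
    obtain ⟨c', hc'⟩ := hZ z⁻¹ (inv_mem hz)
    have hcc : c' * c = 1 := by
      have h1 : ρ z⁻¹ * ρ z = 1 := by rw [← map_mul, inv_mul_cancel, map_one]
      rw [hc, hc'] at h1
      obtain ⟨x, hx⟩ := exists_ne (0 : V)
      have h2 := LinearMap.congr_fun h1 x
      simp only [Module.End.mul_apply, LinearMap.smul_apply, LinearMap.id_apply,
        Module.End.one_apply, smul_smul] at h2
      have h3 : (c' * c - 1) • x = 0 := by rw [sub_smul, one_smul, h2, sub_self]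
      exact sub_eq_zero.1 ((smul_eq_zero.1 h3).resolve_right hx)
    simp only [hF]
    have e1 : ρ (g * z) = c • ρ g := by
      rw [map_mul, hc]
      ext x; simp
    have e2 : ρ.character (g * z)⁻¹ = c' * ρ.character g⁻¹ := by
      rw [mul_inv_rev, Representation.character, map_mul, hc', Representation.character]
      simp [Module.End.mul_eq_comp]
    rw [e1, e2, smul_smul, mul_comm c', mul_assoc, hcc, mul_one]
  have hcomm : ∀ (h : G) (x : V), (∑ g, F g) (ρ h x) = ρ h ((∑ g, F g) x) := by
    intro h x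
    simp only [hF, LinearMap.sum_apply, map_sum, LinearMap.smul_apply, map_smul,
      ← Module.End.mul_apply, ← map_mul]
    refine Fintype.sum_bijective (fun g => h⁻¹ * g * h)
      ((Equiv.mulLeft h⁻¹).trans (Equiv.mulRight h)).bijective _ _ fun g => ?_
    rw [show (h⁻¹ * g * h)⁻¹ = h⁻¹ * g⁻¹ * h by group]
    rw [show ρ.character (h⁻¹ * g⁻¹ * h) = ρ.character g⁻¹ by
      simpa using Representation.char_conj ρ g⁻¹ h⁻¹]
    congr 2
    group
  obtain ⟨c, hc⟩ := schur_scalar ρ _ hcomm
  have htr : c * (Module.finrank ℂ V : ℂ) = (Nat.card G : ℂ) := by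
    rw [← trace_smul_id (V := V), ← hc, map_sum]
    have h1 := classInner_isIrr_self (isIrrCharacter_character ρ)
    rw [Cfsg.classInner, inv_mul_eq_one₀ natCard_ne_zero] at h1
    rw [h1]
    refine Finset.sum_congr rfl fun g _ => ?_
    rw [hF, map_smul, ← char_inv]
    exact mul_comm _ _
  -- group the sum along the cosets of the scalar subgroup
  let s : Finset G := Finset.univ.image (fun q : G ⧸ Z => q.out)
  have hsum : ∑ g, F g = (Nat.card Z : ℂ) • ∑ g ∈ s, F g := by
    rw [show ∑ g ∈ s, F g = ∑ q : G ⧸ Z, F q.out from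
        Finset.sum_image (Quotient.out_injective.injOn), Finset.smul_sum,
      ← Equiv.sum_comp (Subgroup.groupEquivQuotientProdSubgroup (s := Z)).symm,
      Fintype.sum_prod_type]
    refine Finset.sum_congr rfl fun q _ => ?_
    have h2 : ∀ z : Z, F ((Subgroup.groupEquivQuotientProdSubgroup (s := Z)).symm (q, z)) =
        F q.out := by
      intro z
      generalize hg : (Subgroup.groupEquivQuotientProdSubgroup (s := Z)).symm (q, z) = g
      have hq : (QuotientGroup.mk g : G ⧸ Z) = q := by
        have := congrArg Prod.fst ((Equiv.symm_apply_eq _).1 hg)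
        exact this.symm
      obtain ⟨z', hz'⟩ : ∃ z' ∈ Z, g = q.out * z' :=
        ⟨q.out⁻¹ * g, QuotientGroup.eq.1 (by rw [hq, QuotientGroup.out_eq']), by group⟩
      rw [hz'.2, hconst _ _ hz'.1]
    rw [Finset.sum_congr rfl fun z _ => h2 z, Finset.sum_const, Finset.card_univ,
      Nat.card_eq_fintype_card, Nat.cast_smul_eq_nsmul]
  have hZ0 : (Nat.card Z : ℂ) ≠ 0 := Nat.cast_ne_zero.2 Nat.card_pos.ne'
  have hint : IsIntegral ℤ (c / (Nat.card Z : ℂ)) := by
    refine isIntegral_of_scalar ρ s _ (fun g _ => char_isIntegral ρ g⁻¹) _ ?_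
    rw [div_eq_inv_mul, ← smul_smul, ← hc, hsum, smul_smul, inv_mul_cancel₀ hZ0, one_smul]
  refine dvd_of_isIntegral_div (finrank_pos_of_isIrreducible ρ).ne' ?_
  have : c / (Nat.card Z : ℂ) = (Z.index : ℂ) / (Module.finrank ℂ V : ℂ) := by
    rw [div_eq_div_iff hZ0 hn, htr]
    exact_mod_cast (Subgroup.index_mul_card Z).symm
  rwa [this] at hint

/-- The degree divides the group order. -/
theorem finrank_dvd_card [ρ.IsIrreducible] : Module.finrank ℂ V ∣ Nat.card G := by
  have := finrank_dvd_index ρ ⊥ fun z hz => ⟨1, by simp [Subgroup.mem_bot.1 hz]; rfl⟩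
  rwa [Subgroup.index_bot] at this

/-- The degree divides the index of the centre. -/
theorem finrank_dvd_center_index [ρ.IsIrreducible] :
    Module.finrank ℂ V ∣ (Subgroup.center G).index :=
  finrank_dvd_index ρ _ fun _ hz => central_scalar ρ hz

end

end CfsgLib.Characters
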