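import Cfsg.Agent.Characters.Linear
import Cfsg.Agent.Characters.Integrality

/-!
# Brauer's permutation lemma and real characters
-/

set_option autoImplicit false
set_option linter.style.haveILetI false
set_option linter.unusedSectionVars false

namespace CfsgLib.Characters

open scoped ComplexConjugate

universe u

variable {G : Type u} [Group G] [Fintype G]

/-- The number of fixed irreducible characters of a map respecting them is the number of classes
stable under it. -/
theorem card_fixed_irr (f : G → G) (hf : ∀ χ : Cfsg.IrrCharacter G,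
    Cfsg.IsIrrCharacter G (fun g => (χ : G → ℂ) (f g)))
    (hfc : ∀ a b : G, IsConj a b → IsConj (f a) (f b)) :
    Nat.card {χ : Cfsg.IrrCharacter G // (fun g => (χ : G → ℂ) (f g)) = (χ : G → ℂ)} =
      Nat.card {C : ConjClasses G // ∀ g, ConjClasses.mk g = C → IsConj g (f g)} := by
  classical
  set F : ConjClasses G → Prop := fun C => ∀ g, ConjClasses.mk g = C → IsConj g (f g)
  have h1 : ∑ χ : Cfsg.IrrCharacter G,
      Cfsg.classInner (fun g => (χ : G → ℂ) (f g)) (χ : G → ℂ) =
      (Nat.card {χ : Cfsg.IrrCharacter G // (fun g => (χ : G → ℂ) (f g)) = (χ : G → ℂ)} : ℂ) := by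
    rw [Nat.card_eq_fintype_card, Fintype.card_subtype, ← Finset.sum_boole]
    refine Finset.sum_congr rfl fun χ _ => ?_
    split_ifs with h
    · rw [h, classInner_isIrr_self χ.2]
    · exact classInner_isIrr_ne (hf χ) χ.2 h
  have hFmk : ∀ g, F (ConjClasses.mk g) ↔ IsConj g (f g) := fun g => by
    refine ⟨fun h => h g rfl, fun h x hx => ?_⟩
    have hx' : IsConj x g := ConjClasses.mk_eq_mk_iff_isConj.1 hx
    exact hx'.trans (h.trans (hfc g x hx'.symm))
  have h2 : ∑ χ : Cfsg.IrrCharacter G,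
      Cfsg.classInner (fun g => (χ : G → ℂ) (f g)) (χ : G → ℂ) =
      (Nat.card {C : ConjClasses G // F C} : ℂ) := by
    simp only [Cfsg.classInner, ← Finset.mul_sum]
    rw [Finset.sum_comm]
    have hterm : ∀ g : G, ∑ χ : Cfsg.IrrCharacter G, (χ : G → ℂ) (f g) * conj ((χ : G → ℂ) g) =
        if F (ConjClasses.mk g) then (Nat.card (Subgroup.centralizer ({g} : Set G)) : ℂ) else 0 := by
      intro g
      split_ifs with h
      · rw [← sum_irr_mul_conj_of_isConj (IsConj.refl g)]
        refine Finset.sum_congr rfl fun χ _ => ?_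
        rw [classFunction_isConj (isClassFunction_of_isIrr χ.2) ((hFmk g).1 h).symm]
      · exact sum_irr_mul_conj_of_not_isConj fun hc => h ((hFmk g).2 hc.symm)
    rw [Finset.sum_congr rfl fun g _ => hterm g, ← Finset.sum_filter,
      ← Finset.sum_fiberwise_of_maps_to (g := ConjClasses.mk) (t := Finset.univ.filter F)
        (fun g hg => Finset.mem_filter.2 ⟨Finset.mem_univ _, (Finset.mem_filter.1 hg).2⟩)]
    rw [Finset.sum_congr rfl (g := fun _ => (Nat.card G : ℂ)) fun C hC => ?_, Finset.sum_const,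
      nsmul_eq_mul, mul_comm ((Finset.univ.filter F).card : ℂ), ← mul_assoc,
      inv_mul_cancel₀ natCard_ne_zero, one_mul, Nat.card_eq_fintype_card, Fintype.card_subtype]
    obtain ⟨a, rfl⟩ := ConjClasses.mk_surjective C
    have hset : ((Finset.univ.filter fun g => F (ConjClasses.mk g)).filter
        fun g => ConjClasses.mk g = ConjClasses.mk a) = Finset.univ.filter (IsConj · a) := by
      ext x
      simp only [Finset.mem_filter, Finset.mem_univ, true_and, ConjClasses.mk_eq_mk_iff_isConj]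
      refine ⟨fun h => h.2, fun h => ⟨?_, h⟩⟩
      rw [ConjClasses.mk_eq_mk_iff_isConj.2 h]
      exact (Finset.mem_filter.1 hC).2
    rw [hset, Finset.sum_congr rfl (g := fun _ => (Nat.card (Subgroup.centralizer ({a} : Set G)) : ℂ))
      fun x hx => ?_, Finset.sum_const, nsmul_eq_mul, ← Fintype.card_subtype,
      ← Nat.card_eq_fintype_card, card_conjugates_eq_index, ← Nat.cast_mul,
      Subgroup.index_mul_card]
    rw [← sum_irr_mul_conj_of_isConj (IsConj.refl x), ← sum_irr_mul_conj_of_isConj (IsConj.refl a)]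
    refine Finset.sum_congr rfl fun χ _ => ?_
    rw [classFunction_isConj (isClassFunction_of_isIrr χ.2) (Finset.mem_filter.1 hx).2]
  exact_mod_cast h1.symm.trans h2

/-- Brauer's permutation lemma for an automorphism. -/
theorem card_fixed_irr_mulEquiv (α : G ≃* G) :
    Nat.card {C : ConjClasses G // ConjClasses.map α.toMonoidHom C = C} =
      Nat.card {χ : Cfsg.IrrCharacter G // (χ : G → ℂ) ∘ α = (χ : G → ℂ)} := by
  rw [show Nat.card {χ : Cfsg.IrrCharacter G // (χ : G → ℂ) ∘ α = (χ : G → ℂ)} =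
    Nat.card {χ : Cfsg.IrrCharacter G // (fun g => (χ : G → ℂ) (α g)) = (χ : G → ℂ)} from rfl,
    card_fixed_irr (fun g => α g)
      (fun χ => isIrr_comp α.toMonoidHom α.surjective χ.2)
      (fun a b h => α.toMonoidHom.map_isConj h)]
  refine Nat.card_congr (Equiv.subtypeEquivRight fun C => ?_)
  obtain ⟨g, rfl⟩ := ConjClasses.mk_surjective C
  change ConjClasses.mk (α g) = ConjClasses.mk g ↔ _
  rw [ConjClasses.mk_eq_mk_iff_isConj]
  refine ⟨fun h x hx => ?_, fun h => (h g rfl).symm⟩
  have hx' : IsConj x g := ConjClasses.mk_eq_mk_iff_isConj.1 hx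
  exact hx'.trans (h.symm.trans (α.toMonoidHom.map_isConj hx'.symm))

theorem isIrr_conj {χ : G → ℂ} (h : Cfsg.IsIrrCharacter G χ) :
    Cfsg.IsIrrCharacter G (fun g => conj (χ g)) := by
  refine isIrr_of_classInner_self (isCharacter_conj (isCharacter_of_isIrr h)) ?_
  rw [classInner_conj_conj, classInner_isIrr_self h, map_one]

/-- As many real characters as classes closed under inversion. -/
theorem card_real_irr :
    Nat.card {χ : Cfsg.IrrCharacter G // ∀ g : G, ((χ : G → ℂ) g).im = 0} =
      Nat.card {C : ConjClasses G // ∀ g : G, ConjClasses.mk g = C → IsConj g g⁻¹} := by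
  have hinv : ∀ χ : Cfsg.IrrCharacter G,
      (fun g => (χ : G → ℂ) g⁻¹) = fun g => conj ((χ : G → ℂ) g) := fun χ =>
    funext (character_inv (isCharacter_of_isIrr χ.2))
  rw [← card_fixed_irr (fun g : G => g⁻¹) (fun χ => hinv χ ▸ isIrr_conj χ.2)
    fun a b h => by
      obtain ⟨c, rfl⟩ := isConj_iff.1 h
      exact isConj_iff.2 ⟨c, by group⟩]
  refine Nat.card_congr (Equiv.subtypeEquivRight fun χ => ?_)
  rw [hinv, funext_iff]
  exact forall_congr' fun g => Complex.conj_eq_iff_im.symm

theorem eq_one_of_isConj_inv_of_odd (hodd : Odd (Nat.card G)) {g : G} (h : IsConj g g⁻¹) :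
    g = 1 := by
  obtain ⟨c, hc⟩ := isConj_iff.1 h
  -- the square of the conjugating element centralises `g`, hence so does the element
  have h1 : Commute (c ^ 2) g := by
    have h2 : c * (c * g * c⁻¹) * c⁻¹ = g := by
      rw [hc, show c * g⁻¹ * c⁻¹ = (c * g * c⁻¹)⁻¹ by group, hc, inv_inv]
    show c ^ 2 * g = g * c ^ 2
    calc c ^ 2 * g = c * (c * g * c⁻¹) * c⁻¹ * c ^ 2 := by rw [pow_two]; group
      _ = g * c ^ 2 := by rw [h2]
  have hcop : Nat.Coprime 2 (orderOf c) :=
    Nat.coprime_two_left.2 (hodd.of_dvd_nat (orderOf_dvd_natCard c))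
  obtain ⟨m, hm⟩ := exists_pow_eq_self_of_coprime hcop
  have h3 : Commute c g := hm ▸ h1.pow_left m
  rw [h3.eq, mul_inv_cancel_right] at hc
  have h4 : g ^ 2 = 1 := by rw [sq]; exact mul_eq_one_iff_eq_inv.2 hc
  obtain ⟨m', hm'⟩ := exists_pow_eq_self_of_coprime
    (Nat.coprime_two_left.2 (hodd.of_dvd_nat (orderOf_dvd_natCard g)) : Nat.Coprime 2 (orderOf g))
  rw [← hm', h4, one_pow]

theorem eq_one_of_real_of_odd (hodd : Odd (Nat.card G)) {χ : G → ℂ}
    (hχ : Cfsg.IsIrrCharacter G χ) (hreal : ∀ g : G, (χ g).im = 0) : χ = fun _ => 1 := by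
  haveI : Subsingleton {C : ConjClasses G // ∀ g : G, ConjClasses.mk g = C → IsConj g g⁻¹} := by
    refine ⟨fun C D => Subtype.ext ?_⟩
    have key : ∀ C : {C : ConjClasses G // ∀ g : G, ConjClasses.mk g = C → IsConj g g⁻¹},
        C.1 = ConjClasses.mk 1 := fun C => by
      obtain ⟨g, hg⟩ := ConjClasses.mk_surjective C.1
      rw [← hg, eq_one_of_isConj_inv_of_odd hodd (C.2 g hg)]
    rw [key C, key D]
  have hle : Nat.card {χ : Cfsg.IrrCharacter G // ∀ g : G, ((χ : G → ℂ) g).im = 0} ≤ 1 :=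
    card_real_irr (G := G) ▸ Finite.card_le_one_iff_subsingleton.2 inferInstance
  haveI := Finite.card_le_one_iff_subsingleton.1 hle
  exact congrArg (fun x : {χ : Cfsg.IrrCharacter G // ∀ g : G, ((χ : G → ℂ) g).im = 0} =>
    ((x.1 : Cfsg.IrrCharacter G) : G → ℂ))
    (Subsingleton.elim ⟨⟨χ, hχ⟩, hreal⟩ ⟨⟨_, isIrr_one⟩, fun _ => Complex.one_im⟩)

/-- The order and the class number of a group of odd order agree modulo sixteen. -/
theorem card_modEq_classes_of_odd (hodd : Odd (Nat.card G)) :
    Nat.card G ≡ Nat.card (ConjClasses G) [MOD 16] := by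
  classical
  choose d hdpos hd using fun χ : Cfsg.IrrCharacter G => exists_degree_pos χ.2
  have hdodd : ∀ χ, Odd (d χ) := fun χ => by
    obtain ⟨n, ρ, hρ, hρc⟩ := χ.2
    have h : (Module.finrank ℂ (Fin n → ℂ) : ℂ) = d χ := by
      rw [← Representation.char_one ρ, hρc, hd]
    rw [← Nat.cast_inj.1 h]
    exact hodd.of_dvd_nat (finrank_dvd_card ρ)
  have hsum : ∑ χ, d χ ^ 2 = Nat.card G := by
    have := sum_degree_sq (G := G)
    simp only [hd] at this
    exact_mod_cast this
  rw [← card_irrCharacter (G := G), ← hsum, Nat.card_eq_fintype_card,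
    ← ZMod.natCast_eq_natCast_iff, Nat.cast_sum, Fintype.card,
    ← mul_one ((Finset.univ : Finset (Cfsg.IrrCharacter G)).card : ℕ), ← smul_eq_mul,
    ← Finset.sum_const, Nat.cast_sum, ← sub_eq_zero, ← Finset.sum_sub_distrib]
  let cj : Cfsg.IrrCharacter G → Cfsg.IrrCharacter G := fun χ => ⟨_, isIrr_conj χ.2⟩
  have key : ∀ a : ℕ, Odd a → (2 : ZMod 16) * (((a ^ 2 : ℕ) : ZMod 16) - ((1 : ℕ) : ZMod 16)) = 0 := by
    rintro a ⟨b, rfl⟩
    obtain ⟨c, hc⟩ := Nat.two_dvd_mul_add_one b
    have h : (2 * b + 1) ^ 2 = 8 * c + 1 := by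
      have : (2 * b + 1) ^ 2 = 4 * (b * (b + 1)) + 1 := by ring
      omega
    rw [h]
    push_cast
    rw [add_sub_cancel_right, ← mul_assoc, show (2 : ZMod 16) * 8 = 0 by decide, zero_mul]
  set F : Cfsg.IrrCharacter G → ZMod 16 :=
    fun χ => ((d χ ^ 2 : ℕ) : ZMod 16) - ((1 : ℕ) : ZMod 16)
  refine Finset.sum_ninvolution cj (fun χ => ?_) (fun χ hχ => ?_) (fun χ => Finset.mem_univ _)
    (fun χ => Subtype.ext (funext fun g => Complex.conj_conj _))
  · have hdc : d (cj χ) = d χ := by
      have h : (d (cj χ) : ℂ) = d χ := by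
        rw [← hd]
        change conj ((χ : G → ℂ) 1) = _
        rw [hd, Complex.conj_natCast]
      exact_mod_cast h
    change F χ + F (cj χ) = 0
    rw [show F (cj χ) = F χ by simp only [F, hdc], ← two_mul]
    exact key _ (hdodd χ)
  · intro hfix
    have h1 : (χ : G → ℂ) = fun _ => 1 := eq_one_of_real_of_odd hodd χ.2
      fun g => Complex.conj_eq_iff_im.1 (congrFun (congrArg Subtype.val hfix) g)
    have : d χ = 1 := by
      have h2 := hd χ
      rw [h1] at h2
      exact_mod_cast (show (d χ : ℂ) = 1 from h2.symm)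
    exact hχ (by simp [this])

end CfsgLib.Characters
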