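import Cfsg.Agent.Characters.Classes
import Cfsg.Agent.Characters.Integrality
import Cfsg.Agent.Characters.Linear
import Mathlib.FieldTheory.AlgebraicClosure
import Mathlib.FieldTheory.Minpoly.IsIntegrallyClosed
import Mathlib.GroupTheory.SpecificGroups.Cyclic
import Mathlib.GroupTheory.Sylow
import Mathlib.GroupTheory.Solvable

/-!
# Burnside's class size theorem and the two-prime theorem
-/

set_option autoImplicit false
set_option linter.style.haveILetI false
set_option linter.unusedSectionVars false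

namespace CfsgLib.Characters

open scoped ComplexConjugate

universe u v

/-- A nonzero algebraic integer which is an average of roots of unity has absolute value one. -/
theorem eq_zero_or_norm_eq_one_of_avg {n : ℕ} (μ : Fin n → ℂ) (m : ℕ) (hm : 0 < m)
    (hμ : ∀ i, μ i ^ m = 1) (hint : IsIntegral ℤ ((∑ i, μ i) / (n : ℂ))) :
    (∑ i, μ i) / (n : ℂ) = 0 ∨ ‖(∑ i, μ i) / (n : ℂ)‖ = 1 := by
  rcases Nat.eq_zero_or_pos n with hn | hn
  · exact Or.inl (by simp [hn])
  set α := (∑ i, μ i) / (n : ℂ) with hα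
  let K := algebraicClosure ℚ ℂ
  have hμK : ∀ i, μ i ∈ K := fun i => by
    rw [mem_algebraicClosure_iff]
    exact (IsIntegral.of_pow hm (by rw [hμ i]; exact isIntegral_one)).isAlgebraic
  have hαK : α ∈ K := K.div_mem (K.toSubfield.sum_mem fun i _ => hμK i) (natCast_mem K n)
  -- every conjugate has absolute value at most one
  have hbound : ∀ β ∈ (minpoly ℚ α).rootSet ℂ, ‖β‖ ≤ 1 := by
    intro β hβ
    have h1 : β ∈ (minpoly ℚ (⟨α, hαK⟩ : K)).rootSet ℂ := by
      rwa [← minpoly.algebraMap_eq (algebraMap K ℂ).injective (⟨α, hαK⟩ : K)]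
    haveI : Algebra.IsAlgebraic ℚ K := algebraicClosure.isAlgebraic ℚ ℂ
    rw [← Algebra.IsAlgebraic.range_eval_eq_rootSet_minpoly ℂ (⟨α, hαK⟩ : K)] at h1
    obtain ⟨ψ, rfl⟩ := h1
    have hsum : (⟨α, hαK⟩ : K) = (∑ i, (⟨μ i, hμK i⟩ : K)) / (n : K) := by
      apply Subtype.ext
      push_cast
      rw [hα]
    simp only [hsum, map_div₀, map_sum, map_natCast, norm_div, Complex.norm_natCast]
    rw [div_le_one (by exact_mod_cast hn)]
    refine (norm_sum_le _ _).trans ?_
    rw [Finset.sum_congr rfl (g := fun _ => (1 : ℝ))]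
    · simp
    intro i _
    refine Complex.norm_eq_one_of_pow_eq_one ?_ hm.ne'
    rw [← map_pow, show (⟨μ i, hμK i⟩ : K) ^ m = 1 from Subtype.ext (by push_cast; exact hμ i),
      map_one]
  by_cases h0 : α = 0
  · exact Or.inl h0
  right
  have hintQ : IsIntegral ℚ α := hint.tower_top
  have hz : ∃ z : ℤ, (minpoly ℚ α).coeff 0 = z :=
    ⟨(minpoly ℤ α).coeff 0, by
      rw [minpoly.isIntegrallyClosed_eq_field_fractions' ℚ hint, Polynomial.coeff_map]; rfl⟩
  obtain ⟨z, hz⟩ := hz
  have hz0 : z ≠ 0 := by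
    rintro rfl
    exact h0 ((minpoly.coeff_zero_eq_zero hintQ).1 (by simpa using hz))
  set p := (minpoly ℚ α).map (algebraMap ℚ ℂ)
  have hprod := (IsAlgClosed.splits p).coeff_zero_eq_prod_roots_of_monic
    ((minpoly.monic hintQ).map _)
  rw [show p.coeff 0 = (z : ℂ) by rw [Polynomial.coeff_map, hz]; simp] at hprod
  have hnz : (1 : ℝ) ≤ ‖(p.roots.prod)‖ := by
    have := congrArg norm hprod
    rw [norm_mul, norm_pow, norm_neg, norm_one, one_pow, one_mul, Complex.norm_intCast] at this
    rw [← this]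
    exact_mod_cast Int.one_le_abs hz0
  have hαroot : α ∈ p.roots := by
    rw [Polynomial.mem_roots ((minpoly.monic hintQ).map _).ne_zero]
    simp [Polynomial.IsRoot, Polynomial.eval_map_algebraMap]
  have hroots : ∀ β ∈ p.roots, ‖β‖ ≤ 1 := by
    intro β hβ
    refine hbound β (Polynomial.mem_rootSet.2 ⟨minpoly.ne_zero hintQ, ?_⟩)
    have := Polynomial.isRoot_of_mem_roots hβ
    rwa [Polynomial.IsRoot, Polynomial.eval_map_algebraMap] at this
  refine le_antisymm (hroots α hαroot) ?_
  obtain ⟨s, hs⟩ := Multiset.exists_cons_of_mem hαroot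
  rw [hs, Multiset.prod_cons, norm_mul] at hnz
  have hsle : ‖s.prod‖ ≤ 1 := by
    have hs' : ∀ β ∈ s, ‖β‖ ≤ 1 := fun β hβ => hroots β (hs ▸ Multiset.mem_cons_of_mem hβ)
    clear hs hnz
    induction s using Multiset.induction_on with
    | empty => simp
    | cons a t ih =>
      rw [Multiset.prod_cons, norm_mul]
      exact mul_le_one₀ (hs' a (Multiset.mem_cons_self a t)) (norm_nonneg _)
        (ih fun β hβ => hs' β (Multiset.mem_cons_of_mem hβ))
  nlinarith [norm_nonneg α, norm_nonneg s.prod]

section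

variable {G : Type u} [Group G] [Fintype G] {V : Type v} [AddCommGroup V] [Module ℂ V]
  [FiniteDimensional ℂ V] (ρ : Representation ℂ G V)

/-- Degree coprime to the class size: the value is zero or has full absolute value. -/
theorem char_zero_or_norm_of_coprime [ρ.IsIrreducible] (g : G)
    (hcop : Nat.Coprime (Module.finrank ℂ V) (Subgroup.centralizer ({g} : Set G)).index) :
    ρ.character g = 0 ∨ ‖ρ.character g‖ = (Module.finrank ℂ V : ℝ) := by
  set n := Module.finrank ℂ V
  set k := (Subgroup.centralizer ({g} : Set G)).index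
  have hn : 0 < n := finrank_pos_of_isIrreducible ρ
  obtain ⟨μ, hμ, hj, -⟩ := exists_eigenvalues ρ g
  have hχ : ρ.character g = ∑ i, μ i := by simpa using hj 1
  have hint : IsIntegral ℤ (ρ.character g / (n : ℂ)) := by
    obtain ⟨a, b, hab⟩ := (Nat.isCoprime_iff_coprime.2 hcop : IsCoprime (n : ℤ) (k : ℤ))
    have h1 : ((a : ℂ) * n + b * k) = 1 := by exact_mod_cast hab
    have : ρ.character g / (n : ℂ) =
        (a : ℂ) * ρ.character g + b * ((k : ℂ) * ρ.character g / n) := by
      have hn' : (n : ℂ) ≠ 0 := Nat.cast_ne_zero.2 hn.ne'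
      field_simp
      linear_combination -(ρ.character g) * h1
    rw [this]
    exact ((isIntegral_algebraMap (x := a)).mul (char_isIntegral ρ g)).add
      ((isIntegral_algebraMap (x := b)).mul (isIntegral_index_mul_char_div ρ g))
  rw [hχ] at hint ⊢
  rcases eq_zero_or_norm_eq_one_of_avg μ (orderOf g) (orderOf_pos g) hμ hint with h | h
  · left
    rwa [div_eq_zero_iff, or_iff_left (Nat.cast_ne_zero.2 hn.ne')] at h
  · right
    rwa [norm_div, Complex.norm_natCast, div_eq_one_iff_eq (by exact_mod_cast hn.ne')] at h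

end

/-- A class of prime power size in a simple group forces prime order. -/
theorem prime_card_of_primePow_class {G : Type u} [Group G] [Finite G] [IsSimpleGroup G]
    (p k : ℕ) (hp : p.Prime) (g : G) (hg : g ≠ 1)
    (hclass : (Subgroup.centralizer ({g} : Set G)).index = p ^ k) : (Nat.card G).Prime := by
  classical
  haveI := Fintype.ofFinite G
  by_cases hcomm : ∀ a b : G, a * b = b * a
  · letI : CommGroup G := { ‹Group G› with mul_comm := hcomm }
    exact IsSimpleGroup.prime_card
  exfalso
  have hcent : g ∉ Subgroup.center G := fun h => by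
    rcases IsSimpleGroup.eq_bot_or_eq_top_of_normal (Subgroup.center G) inferInstance with hc | hc
    · exact hg (Subgroup.mem_bot.1 (hc ▸ h))
    · exact hcomm fun a b =>
        (Subgroup.mem_center_iff.1 (show a ∈ Subgroup.center G from hc ▸ Subgroup.mem_top a) b).symm
  let one : Cfsg.IrrCharacter G := ⟨fun _ => 1, isIrr_one⟩
  have hsum : ∑ χ : Cfsg.IrrCharacter G, (χ : G → ℂ) 1 * (χ : G → ℂ) g = 0 := by
    rw [sum_degree_mul g, if_neg hg]
  -- a nonprincipal character of degree prime to `p` not vanishing at `g`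
  obtain ⟨χ, hχ1, hχg, hχp⟩ : ∃ χ : Cfsg.IrrCharacter G, χ ≠ one ∧ (χ : G → ℂ) g ≠ 0 ∧
      ∀ n : ℕ, (χ : G → ℂ) 1 = n → ¬ p ∣ n := by
    by_contra hne
    push Not at hne
    have hint : IsIntegral ℤ ((1 : ℂ) / (p : ℂ)) := by
      rw [Fintype.sum_eq_add_sum_compl one] at hsum
      have h1 : (1 : ℂ) / (p : ℂ) =
          -∑ χ ∈ ({one} : Finset (Cfsg.IrrCharacter G))ᶜ,
            (χ : G → ℂ) 1 * (χ : G → ℂ) g / (p : ℂ) := by
        rw [← Finset.sum_div, ← neg_div, eq_neg_of_add_eq_zero_right hsum, neg_neg]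
        simp [one]
      rw [h1]
      refine IsIntegral.neg (IsIntegral.sum _ fun χ hχ => ?_)
      by_cases h0 : (χ : G → ℂ) g = 0
      · simpa [h0] using (isIntegral_zero : IsIntegral ℤ (0 : ℂ))
      obtain ⟨n, hn, m, rfl⟩ := hne χ (by simpa using hχ) h0
      rw [hn]
      have : ((p * m : ℕ) : ℂ) * (χ : G → ℂ) g / (p : ℂ) = (m : ℂ) * (χ : G → ℂ) g := by
        have hp0 : (p : ℂ) ≠ 0 := Nat.cast_ne_zero.2 hp.ne_zero
        push_cast
        field_simp
      rw [this]
      exact (isIntegral_algebraMap (x := (m : ℤ))).mul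
        (character_isIntegral (isCharacter_of_isIrr χ.2) g)
    exact hp.ne_one (Nat.dvd_one.1 (dvd_of_isIntegral_div hp.ne_zero (by simpa using hint)))
  obtain ⟨d, ρ, hρ, hρc⟩ := χ.2
  have hdeg : (χ : G → ℂ) 1 = (Module.finrank ℂ (Fin d → ℂ) : ℂ) := by
    rw [← hρc, Representation.char_one]
  have hcop : Nat.Coprime (Module.finrank ℂ (Fin d → ℂ))
      (Subgroup.centralizer ({g} : Set G)).index := by
    rw [hclass]
    exact Nat.Coprime.pow_right k ((hp.coprime_iff_not_dvd.2 (hχp _ hdeg)).symm)
  rcases char_zero_or_norm_of_coprime ρ g hcop with h | h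
  · exact hχg (by rw [← hρc]; exact h)
  obtain ⟨ω, hω, -⟩ := exists_scalar_of_norm_char_eq ρ g h
  rcases IsSimpleGroup.eq_bot_or_eq_top_of_normal (MonoidHom.ker ρ) inferInstance with hk | hk
  · refine hcent (Subgroup.mem_center_iff.2 fun x => (MonoidHom.ker_eq_bot_iff ρ).1 hk ?_)
    rw [map_mul, map_mul, hω]
    ext v; simp
  · have hconst : ∀ x : G, (χ : G → ℂ) x = (χ : G → ℂ) 1 := fun x => by
      rw [← hρc, Representation.character, Representation.character,
        MonoidHom.mem_ker.1 (show x ∈ MonoidHom.ker ρ from hk ▸ Subgroup.mem_top x), map_one ρ]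
    refine hχ1 (Subtype.ext ?_)
    by_contra hne
    have hfun : (χ : G → ℂ) = (χ : G → ℂ) 1 • (one : G → ℂ) := funext fun x => by
      simp [one, hconst x]
    have h1 := classInner_isIrr_ne χ.2 one.2 hne
    rw [hfun, classInner_smul_left, classInner_isIrr_self one.2, mul_one] at h1
    exact irr_one_ne_zero χ.2 h1

theorem burnside_paqb_aux (p q : ℕ) (hp : p.Prime) (hq : q.Prime) (n : ℕ) :
    ∀ (G : Type u) [Group G] [Finite G], Nat.card G = n → (∃ a b, n ∣ p ^ a * q ^ b) →
      Group.IsSolvable G := by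
  induction n using Nat.strong_induction_on with
  | _ n ih =>
    intro G _ _ hcard hdvd
    rcases subsingleton_or_nontrivial G with hG | hG
    · exact Group.isSolvable_of_comm fun a b => Subsingleton.elim _ _
    by_cases hs : IsSimpleGroup G
    · -- a central element of a Sylow subgroup has a prime power class
      obtain ⟨r, hr, hrd⟩ := Nat.exists_prime_and_dvd (n := Nat.card G) Finite.one_lt_card.ne'
      haveI := Fact.mk hr
      obtain ⟨a, b, hab⟩ := hdvd
      rw [← hcard] at hab
      obtain ⟨P⟩ : Nonempty (Sylow r G) := inferInstance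
      haveI : Nontrivial (P : Subgroup G) :=
        (Subgroup.nontrivial_iff_ne_bot _).2 fun h => P.not_dvd_index (by
          rwa [h, Subgroup.index_bot])
      haveI := (P.2).center_nontrivial
      obtain ⟨z, hz⟩ := exists_ne (1 : Subgroup.center (P : Subgroup G))
      have hPle : (P : Subgroup G) ≤ Subgroup.centralizer ({((z : (P : Subgroup G)) : G)} : Set G) := by
        intro x hx
        rw [Subgroup.mem_centralizer_singleton_iff]
        exact congrArg Subtype.val (Subgroup.mem_center_iff.1 z.2 ⟨x, hx⟩)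
      set k := (Subgroup.centralizer ({((z : (P : Subgroup G)) : G)} : Set G)).index
      have hk : ¬ r ∣ k := fun h =>
        P.not_dvd_index (h.trans (Subgroup.index_dvd_of_le hPle))
      have hk2 : k ∣ p ^ a * q ^ b := (Subgroup.index_dvd_card _).trans hab
      have hpp : ∃ l j, l.Prime ∧ k = l ^ j := by
        have hrpq : r = p ∨ r = q := by
          rcases (Nat.Prime.dvd_mul hr).1 (hrd.trans hab) with h | h
          · exact Or.inl ((Nat.prime_dvd_prime_iff_eq hr hp).1 (hr.dvd_of_dvd_pow h))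
          · exact Or.inr ((Nat.prime_dvd_prime_iff_eq hr hq).1 (hr.dvd_of_dvd_pow h))
        rcases hrpq with rfl | rfl
        · obtain ⟨j, -, hj⟩ := (Nat.dvd_prime_pow hq).1
            ((((hr.coprime_iff_not_dvd.2 hk).symm).pow_right a).dvd_of_dvd_mul_left hk2)
          exact ⟨q, j, hq, hj⟩
        · obtain ⟨j, -, hj⟩ := (Nat.dvd_prime_pow hp).1
            ((((hr.coprime_iff_not_dvd.2 hk).symm).pow_right b).dvd_of_dvd_mul_right hk2)
          exact ⟨p, j, hp, hj⟩
      obtain ⟨l, j, hl, hj⟩ := hpp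
      have hprime := prime_card_of_primePow_class l j hl ((z : (P : Subgroup G)) : G)
        (fun h => hz (Subtype.ext (Subtype.ext h))) hj
      haveI := Fact.mk hprime
      haveI : IsCyclic G := isCyclic_of_prime_card (α := G) rfl
      exact Group.isSolvable_of_comm mul_comm'
    · obtain ⟨N, hN, hN1, hN2⟩ : ∃ N : Subgroup G, N.Normal ∧ N ≠ ⊥ ∧ N ≠ ⊤ := by
        by_contra hne
        push Not at hne
        exact hs { eq_bot_or_eq_top_of_normal := fun N hN => or_iff_not_imp_left.2 (hne N hN) }
      haveI := hN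
      haveI : Nontrivial N := (Subgroup.nontrivial_iff_ne_bot _).2 hN1
      have hmul := Subgroup.card_eq_card_quotient_mul_card_subgroup N
      have h2 : 1 < Nat.card N := Finite.one_lt_card
      have h3 : 1 < Nat.card (G ⧸ N) := by
        rw [← Subgroup.index_eq_card]
        exact lt_of_le_of_ne (Nat.one_le_iff_ne_zero.2 Subgroup.index_ne_zero_of_finite)
          (fun h => hN2 (Subgroup.index_eq_one.1 h.symm))
      obtain ⟨a, b, hab⟩ := hdvd
      haveI : Group.IsSolvable N := ih (Nat.card N) (by rw [← hcard, hmul]; exact lt_mul_left Nat.card_pos h3)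
        N rfl ⟨a, b, (Subgroup.card_subgroup_dvd_card N).trans (hcard ▸ hab)⟩
      haveI : Group.IsSolvable (G ⧸ N) := ih (Nat.card (G ⧸ N))
        (by rw [← hcard, hmul]; exact lt_mul_right Nat.card_pos h2)
        (G ⧸ N) rfl ⟨a, b, (Subgroup.card_quotient_dvd_card N).trans (hcard ▸ hab)⟩
      exact Group.isSolvable_of_ker_le_range N.subtype (QuotientGroup.mk' N) (by simp)

/-- Burnside's two-prime theorem. -/
theorem isSolvable_of_card_eq_primePow_mul {G : Type u} [Group G] [Finite G] (p q a b : ℕ)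
    (hp : p.Prime) (hq : q.Prime) (hcard : Nat.card G ∣ p ^ a * q ^ b) : Group.IsSolvable G :=
  burnside_paqb_aux p q hp hq _ G rfl ⟨a, b, hcard⟩

end CfsgLib.Characters
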