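import Cfsg.Agent.Characters.Orthogonality
import Mathlib.Algebra.BigOperators.Finprod
import Mathlib.Algebra.Group.ConjFinite

/-!
# Counting irreducible characters, the regular character, and equivalence from characters
-/

set_option autoImplicit false
set_option linter.style.haveILetI false
set_option linter.unusedSectionVars false

namespace CfsgLib.Characters

open Representation
open scoped ComplexConjugate

universe u v w

/-! ### Counting -/

section Count

variable {G : Type u} [Group G] [Finite G]

/-- An irreducible character as a function of the conjugacy class. -/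
noncomputable def irrClassFun (χ : Cfsg.IrrCharacter G) : ConjClasses G → ℂ :=
  Quotient.lift (χ : G → ℂ) fun _ _ h => classFunction_isConj (isClassFunction_of_isIrr χ.2) h

theorem irrClassFun_mk (χ : Cfsg.IrrCharacter G) (g : G) :
    irrClassFun χ (ConjClasses.mk g) = (χ : G → ℂ) g := rfl

theorem irrClassFun_linearIndependent :
    LinearIndependent ℂ (irrClassFun : Cfsg.IrrCharacter G → ConjClasses G → ℂ) := by
  refine LinearIndependent.of_comp (LinearMap.funLeft ℂ ℂ (ConjClasses.mk : G → ConjClasses G)) ?_
  exact irr_linearIndependent

theorem irrClassFun_span :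
    ⊤ ≤ Submodule.span ℂ
      (Set.range (irrClassFun : Cfsg.IrrCharacter G → ConjClasses G → ℂ)) := by
  intro f _
  haveI := Fintype.ofFinite G
  have hcl : Cfsg.IsClassFunction G fun g => f (ConjClasses.mk g) := by
    intro g h
    simp only
    rw [ConjClasses.mk_eq_mk_iff_isConj.2 (isConj_iff.2 ⟨h, rfl⟩).symm]
  have hf : f = ∑ χ : Cfsg.IrrCharacter G,
      Cfsg.classInner (fun g => f (ConjClasses.mk g)) (χ : G → ℂ) • irrClassFun χ := by
    funext C
    obtain ⟨g, rfl⟩ := ConjClasses.mk_surjective C
    have h := congrFun (classFunction_expansion hcl) g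
    simpa [irrClassFun_mk] using h
  rw [hf]
  exact Submodule.sum_mem _ fun χ _ => Submodule.smul_mem _ _ (Submodule.subset_span ⟨χ, rfl⟩)

/-- The irreducible characters as a basis of the functions on conjugacy classes. -/
noncomputable def irrBasis : Module.Basis (Cfsg.IrrCharacter G) ℂ (ConjClasses G → ℂ) :=
  Module.Basis.mk irrClassFun_linearIndependent irrClassFun_span

theorem card_irrCharacter : Nat.card (Cfsg.IrrCharacter G) = Nat.card (ConjClasses G) := by
  haveI := Fintype.ofFinite (ConjClasses G)
  rw [Nat.card_eq_fintype_card, ← Module.finrank_eq_card_basis (irrBasis (G := G)),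
    Module.finrank_fintype_fun_eq_card, Nat.card_eq_fintype_card]

end Count

/-! ### The regular character -/

section Regular

variable {G : Type u} [Group G] [Fintype G]

theorem char_leftRegular (g : G) [Decidable (g = 1)] :
    (Representation.leftRegular ℂ G).character g = if g = 1 then (Nat.card G : ℂ) else 0 := by
  classical
  rw [Representation.character, LinearMap.trace_eq_matrix_trace ℂ (MonoidAlgebra.basis G ℂ),
    Matrix.trace]
  have h : ∀ i : G, (LinearMap.toMatrix (MonoidAlgebra.basis G ℂ) (MonoidAlgebra.basis G ℂ)
      (Representation.leftRegular ℂ G g)).diag i = if g = 1 then (1 : ℂ) else 0 := by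
    intro i
    simp [Matrix.diag, LinearMap.toMatrix_apply, MonoidAlgebra.basis, Finsupp.single_apply]
  rw [Finset.sum_congr rfl fun i _ => h i]
  split_ifs <;> simp [Nat.card_eq_fintype_card]

theorem char_leftRegular_eq_sum :
    (Representation.leftRegular ℂ G).character =
      ∑ χ : Cfsg.IrrCharacter G, (χ : G → ℂ) 1 • (χ : G → ℂ) := by
  classical
  funext g
  rw [char_leftRegular, Finset.sum_apply, ← sum_degree_mul g]
  rfl

end Regular

/-! ### Representations are determined by their characters -/

section Determined

variable {k : Type*} [Field k] {G : Type u} [Monoid G] {V : Type v} [AddCommGroup V] [Module k V]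
  {W : Type w} [AddCommGroup W] [Module k W]

/-- An injective intertwining map is an equivalence onto its range. -/
noncomputable def equivRangeOfInjective {ρ : Representation k G V} {σ : Representation k G W}
    (f : IntertwiningMap ρ σ) (hf : Function.Injective f) :
    ρ.Equiv f.range.toRepresentation :=
  Representation.Equiv.mk (LinearEquiv.ofInjective f.toLinearMap hf) fun g => by
    ext x
    exact LinearMap.congr_fun (f.isIntertwining' g) x

/-- Products of equivalences of representations. -/
noncomputable def equivProdCongr {V' W' : Type*} [AddCommGroup V'] [Module k V'] [AddCommGroup W']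
    [Module k W'] {ρ : Representation k G V} {σ : Representation k G W}
    {ρ' : Representation k G V'} {σ' : Representation k G W'} (φ : ρ.Equiv σ) (ψ : ρ'.Equiv σ') :
    (ρ.prod ρ').Equiv (σ.prod σ') :=
  Representation.Equiv.mk (φ.toLinearEquiv.prodCongr ψ.toLinearEquiv) fun g => by
    refine LinearMap.ext fun x => ?_
    exact Prod.ext (equiv_map φ g x.1) (equiv_map ψ g x.2)

end Determined

section Determined2

variable {G : Type u} [Group G] [Fintype G]

theorem equiv_of_char_eq_aux (n : ℕ) : ∀ (V : Type v) [AddCommGroup V] [Module ℂ V]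
    [FiniteDimensional ℂ V] (W : Type w) [AddCommGroup W] [Module ℂ W] [FiniteDimensional ℂ W]
    (ρ : Representation ℂ G V) (σ : Representation ℂ G W), Module.finrank ℂ V = n →
    ρ.character = σ.character → Nonempty (ρ.Equiv σ) := by
  induction n using Nat.strong_induction_on with
  | _ n ih =>
    intro V _ _ _ W _ _ _ ρ σ hn hchar
    have hdim : Module.finrank ℂ V = Module.finrank ℂ W := by
      have := congrFun hchar 1
      rw [Representation.char_one, Representation.char_one] at this
      exact_mod_cast this
    rcases subsingleton_or_nontrivial V with hV | hV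
    · haveI : Subsingleton W := Module.finrank_zero_iff.1 (hdim ▸ Module.finrank_zero_of_subsingleton)
      exact ⟨Representation.Equiv.mk (0 : V ≃ₗ[ℂ] W) fun g => Subsingleton.elim _ _⟩
    obtain ⟨S, hS⟩ := exists_irreducible_subrep ρ
    obtain ⟨T, hT⟩ := exists_compl ρ S
    have e₁ := prodEquivOfCompl ρ S T hT
    haveI := nontrivial_of_isIrreducible S.toRepresentation
    -- a nonzero map from the irreducible piece into the second representation
    have hpos : 0 < Module.finrank ℂ (IntertwiningMap S.toRepresentation σ) := by
      have h1 := classInner_char σ S.toRepresentation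
      rw [← hchar, classInner_char ρ S.toRepresentation] at h1
      rw [← Nat.cast_inj.1 h1]
      let incl : IntertwiningMap S.toRepresentation ρ :=
        ⟨S.toSubmodule.subtype, fun g => LinearMap.ext fun x => rfl⟩
      refine Module.finrank_pos_iff_exists_ne_zero.2 ⟨incl, fun h0 => ?_⟩
      obtain ⟨x, hx⟩ := exists_ne (0 : S.toSubmodule)
      exact hx (Subtype.ext (LinearMap.congr_fun (congrArg IntertwiningMap.toLinearMap h0) x))
    obtain ⟨f, hf⟩ := Module.finrank_pos_iff_exists_ne_zero.1 hpos
    have hinj : Function.Injective f :=
      (IsIrreducible.injective_or_eq_zero f).resolve_right hf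
    obtain ⟨T', hT'⟩ := exists_compl σ f.range
    have e₂ := prodEquivOfCompl σ f.range T' hT'
    have e₃ := equivRangeOfInjective f hinj
    have hrest : T.toRepresentation.character = T'.toRepresentation.character := by
      have h := hchar
      rw [← Representation.char_iso e₁, ← Representation.char_iso e₂, char_prod, char_prod,
        ← Representation.char_iso e₃] at h
      exact add_left_cancel h
    have hlt : Module.finrank ℂ T.toSubmodule < n := by
      have h1 := Submodule.finrank_add_eq_of_isCompl hT
      have h2 : 0 < Module.finrank ℂ S.toSubmodule := Module.finrank_pos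
      omega
    obtain ⟨e₄⟩ := ih _ hlt T.toSubmodule T'.toSubmodule T.toRepresentation T'.toRepresentation
      rfl hrest
    exact ⟨e₁.symm.trans ((equivProdCongr e₃ e₄).trans e₂)⟩

/-- Representations with the same character are equivalent. -/
theorem equiv_of_char_eq {V : Type v} [AddCommGroup V] [Module ℂ V] [FiniteDimensional ℂ V]
    {W : Type w} [AddCommGroup W] [Module ℂ W] [FiniteDimensional ℂ W]
    (ρ : Representation ℂ G V) (σ : Representation ℂ G W) (h : ρ.character = σ.character) :
    Nonempty (ρ.Equiv σ) :=
  equiv_of_char_eq_aux _ V W ρ σ rfl h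

/-- A representation is irreducible exactly when its character has norm one. -/
theorem isIrreducible_iff_classInner {V : Type v} [AddCommGroup V] [Module ℂ V]
    [FiniteDimensional ℂ V] (ρ : Representation ℂ G V) :
    ρ.IsIrreducible ↔ Cfsg.classInner ρ.character ρ.character = 1 := by
  refine ⟨fun h => classInner_isIrr_self (isIrrCharacter_character ρ), fun h => ?_⟩
  classical
  obtain ⟨m, hm⟩ := exists_nat_coeff (isCharacter_character ρ)
  have h1 : ((∑ χ, m χ ^ 2 : ℕ) : ℂ) = 1 := by
    rw [← h, classInner_eq_sum (isClassFunction_of_isCharacter (isCharacter_character ρ))]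
    push_cast
    refine Finset.sum_congr rfl fun χ _ => ?_
    rw [hm, classInner_irr_coeff, Complex.conj_natCast, sq]
  have h2 : ∑ χ, m χ ^ 2 = 1 := by exact_mod_cast h1
  obtain ⟨χ, -, hχ⟩ := Finset.exists_ne_zero_of_sum_ne_zero (h2.trans_ne one_ne_zero)
  have hχ1 : m χ = 1 := by
    have := Finset.single_le_sum (f := fun χ => m χ ^ 2) (fun _ _ => Nat.zero_le _)
      (Finset.mem_univ χ)
    rw [h2] at this
    have h3 : m χ ≠ 0 := fun h0 => hχ (by rw [h0]; rfl)
    nlinarith [Nat.pos_of_ne_zero h3]
  have hrest : ∀ ψ, ψ ≠ χ → m ψ = 0 := by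
    intro ψ hψ
    have := Finset.sum_le_sum_of_subset (f := fun χ => m χ ^ 2)
      (Finset.subset_univ ({χ, ψ} : Finset (Cfsg.IrrCharacter G)))
    rw [Finset.sum_pair hψ.symm, h2, hχ1] at this
    nlinarith
  have heq : ρ.character = (χ : G → ℂ) := by
    rw [hm, Finset.sum_eq_single χ (fun ψ _ hψ => by simp [hrest ψ hψ]) (by simp), hχ1]
    simp
  obtain ⟨k, σ, hσ, hσc⟩ := χ.2
  obtain ⟨e⟩ := equiv_of_char_eq ρ σ (heq.trans hσc.symm)
  exact (isIrreducible_congr e).2 hσ

theorem isIrr_of_classInner_self {θ : G → ℂ} (h : Cfsg.IsCharacter G θ)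
    (h1 : Cfsg.classInner θ θ = 1) : Cfsg.IsIrrCharacter G θ := by
  obtain ⟨n, ρ, rfl⟩ := h
  haveI := (isIrreducible_iff_classInner ρ).2 h1
  exact isIrrCharacter_character ρ

end Determined2

end CfsgLib.Characters
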