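import Cfsg.Agent.Characters.Classes
import Cfsg.Agent.Characters.Induction
import Cfsg.Agent.Characters.Linear

/-!
# Imprimitivity along a noncentral abelian normal subgroup
-/

set_option autoImplicit false
set_option linter.style.haveILetI false
set_option linter.unusedSectionVars false

namespace CfsgLib.Characters

open Representation
open scoped ComplexConjugate

universe u v w

/-- Traces of maps leaving a projection's range invariant are characters. -/
theorem isCharacter_trace_proj {T : Type u} [Group T] {V : Type v} [AddCommGroup V] [Module ℂ V]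
    [FiniteDimensional ℂ V] (ρ : Representation ℂ T V) (P : V →ₗ[ℂ] V) (hP : P * P = P)
    (hcomm : ∀ t, ρ t * P = P * ρ t) :
    Cfsg.IsCharacter T (fun t => LinearMap.trace ℂ V (ρ t * P)) := by
  let S : Subrepresentation ρ := ⟨LinearMap.range P, by
    rintro t _ ⟨x, rfl⟩
    exact ⟨ρ t x, (LinearMap.congr_fun (hcomm t) x).symm⟩⟩
  have h : (fun t => LinearMap.trace ℂ V (ρ t * P)) = S.toRepresentation.character := by
    funext t
    let Q : V →ₗ[ℂ] S.toSubmodule := P.rangeRestrict
    have h1 : ρ t * P = (S.toSubmodule.subtype.comp (S.toRepresentation t)).comp Q := by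
      ext x; rfl
    have h2 : Q.comp S.toSubmodule.subtype = LinearMap.id := by
      ext ⟨x, y, rfl⟩
      exact LinearMap.congr_fun hP y
    rw [h1, LinearMap.trace_comp_comm', ← LinearMap.comp_assoc, h2, LinearMap.id_comp]
    rfl
  rw [h]
  exact isCharacter_character _

/-- Inflation commutes with induction. -/
theorem indFun_comap {G : Type u} [Group G] [Fintype G] {Q : Type w} [Group Q] [Fintype Q]
    (f : G →* Q) (hf : Function.Surjective f) (T : Subgroup Q) (θ : T → ℂ) (g : G) :
    Cfsg.indFun (T.comap f) (fun x => θ ⟨f x, x.2⟩) g = Cfsg.indFun T θ (f g) := by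
  classical
  have hext : ∀ y : G, Cfsg.extendByZero (T.comap f) (fun x => θ ⟨f x, x.2⟩) y =
      Cfsg.extendByZero T θ (f y) := by
    intro y
    by_cases hy : f y ∈ T
    · rw [extendByZero_of_mem T θ hy, extendByZero_of_mem _ _ (show y ∈ T.comap f from hy)]
    · rw [extendByZero_of_not_mem T θ hy,
        extendByZero_of_not_mem _ _ (show y ∉ T.comap f from hy)]
  have hfib : ∀ q : Q, Nat.card {x : G // f x = q} = Nat.card f.ker := by
    intro q
    obtain ⟨x₀, rfl⟩ := hf q
    refine Nat.card_congr ⟨fun x => ⟨x₀⁻¹ * x.1, ?_⟩, fun k => ⟨x₀ * k.1, ?_⟩,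
      fun x => Subtype.ext (by group), fun k => Subtype.ext (by group)⟩
    · rw [MonoidHom.mem_ker, map_mul, x.2, ← map_mul, inv_mul_cancel, map_one]
    · rw [map_mul, MonoidHom.mem_ker.1 k.2, mul_one]
  have hcard : Nat.card (T.comap f) = Nat.card f.ker * Nat.card T := by
    have h1 := Subgroup.index_mul_card (T.comap f)
    rw [Subgroup.index_comap_of_surjective T hf] at h1
    have h2 := Subgroup.index_mul_card T
    have h3 : Nat.card G = Nat.card f.ker * Nat.card Q := by
      rw [← Subgroup.card_mul_index f.ker, Subgroup.index_ker, MonoidHom.range_eq_top.2 hf,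
        Subgroup.card_top]
    rw [h3, ← h2] at h1
    exact Nat.eq_of_mul_eq_mul_left (Nat.pos_of_ne_zero Subgroup.index_ne_zero_of_finite)
      (h1.trans (Nat.mul_left_comm _ _ _))
  simp only [Cfsg.indFun, hext, map_mul, map_inv]
  rw [← Finset.sum_fiberwise Finset.univ f,
    Finset.sum_congr rfl fun q _ => show
      (∑ x ∈ Finset.univ.filter (fun x => f x = q),
        Cfsg.extendByZero T θ ((f x)⁻¹ * f g * f x)) =
        (Nat.card f.ker : ℂ) * Cfsg.extendByZero T θ (q⁻¹ * f g * q) by
      rw [Finset.sum_congr rfl (g := fun _ => Cfsg.extendByZero T θ (q⁻¹ * f g * q))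
        (fun x hx => by rw [(Finset.mem_filter.1 hx).2]), Finset.sum_const, nsmul_eq_mul,
        ← hfib q, Nat.card_eq_fintype_card, Fintype.card_subtype],
    ← Finset.mul_sum, hcard, Nat.cast_mul, mul_inv_rev, mul_assoc, ← mul_assoc (Nat.card f.ker : ℂ)⁻¹,
    inv_mul_cancel₀ (Nat.cast_ne_zero.2 Nat.card_pos.ne'), one_mul]

section

variable {G : Type u} [Group G] [Fintype G] {V : Type v} [AddCommGroup V] [Module ℂ V]
  [FiniteDimensional ℂ V] (ρ : Representation ℂ G V)

/-- The projection on the weight space of a function on a subgroup. -/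
noncomputable def weightProj (A : Subgroup G) [Fintype A] (l : A → ℂ) : V →ₗ[ℂ] V :=
  (Nat.card A : ℂ)⁻¹ • ∑ a : A, conj (l a) • ρ (a : G)

/-- An irreducible representation is imprimitive along an abelian normal subgroup that does not
act by scalars. -/
theorem exists_induced_of_abelian_normal [ρ.IsIrreducible] (A : Subgroup G) [hA : A.Normal]
    (hcomm : ∀ a ∈ A, ∀ b ∈ A, a * b = b * a)
    (hns : ∃ a ∈ A, ∀ c : ℂ, ρ a ≠ c • LinearMap.id) :
    ∃ (T : Subgroup G) (ψ : T → ℂ), T ≠ ⊤ ∧ A ≤ T ∧ Cfsg.IsCharacter T ψ ∧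
      ρ.character = Cfsg.indFun T ψ := by
  classical
  haveI : IsMulCommutative A := ⟨⟨fun a b => Subtype.ext (hcomm a a.2 b b.2)⟩⟩
  have hdeg : ∀ l : Cfsg.IrrCharacter A, (l : A → ℂ) 1 = 1 := by
    intro l
    obtain ⟨n, σ, hσ, hl⟩ := l.2
    rw [← hl, Representation.char_one, IsIrreducible.finrank_eq_one_of_isMulCommutative σ,
      Nat.cast_one]
  have hmul : ∀ (l : Cfsg.IrrCharacter A) (a b : A),
      (l : A → ℂ) (a * b) = (l : A → ℂ) a * (l : A → ℂ) b := by
    intro l a b
    obtain ⟨f, hf⟩ := exists_hom_of_degree_one (isCharacter_of_isIrr l.2) (hdeg l)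
    simp [hf]
  set P : Cfsg.IrrCharacter A → (V →ₗ[ℂ] V) := fun l => weightProj ρ A (l : A → ℂ) with hP
  have hA0 : (Nat.card A : ℂ) ≠ 0 := subgroup_card_ne_zero A
  have hsum : ∑ l, P l = 1 := by
    simp only [hP, weightProj]
    rw [← Finset.smul_sum, Finset.sum_comm]
    have h : ∀ a : A, ∑ l : Cfsg.IrrCharacter A, conj ((l : A → ℂ) a) • ρ (a : G) =
        (if a = 1 then (Nat.card A : ℂ) else 0) • ρ (a : G) := by
      intro a
      rw [← Finset.sum_smul, ← sum_degree_mul a]
      congr 1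
      have h2 := sum_irr_mul_conj (1 : A) a
      have h3 := sum_degree_mul (G := A) a
      calc ∑ l : Cfsg.IrrCharacter A, conj ((l : A → ℂ) a)
          = conj (∑ l : Cfsg.IrrCharacter A, (l : A → ℂ) 1 * (l : A → ℂ) a) := by
            simp [map_sum, hdeg]
        _ = _ := by rw [h3]; split_ifs <;> simp
    rw [Finset.sum_congr rfl fun a _ => h a, Finset.sum_eq_single (1 : A)
      (fun b _ hb => by rw [if_neg hb, zero_smul]) (by simp), if_pos rfl, smul_smul,
      inv_mul_cancel₀ hA0, one_smul, Subgroup.coe_one, map_one]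
  have hweight : ∀ (l : Cfsg.IrrCharacter A) (b : A),
      ρ (b : G) * P l = (l : A → ℂ) b • P l := by
    intro l b
    simp only [hP, weightProj, mul_smul_comm, Finset.mul_sum, ← map_mul]
    rw [smul_comm]
    congr 1
    rw [Finset.smul_sum]
    refine Fintype.sum_equiv (Equiv.mulLeft b) _ _ fun a => ?_
    have hnorm : ‖(l : A → ℂ) b‖ = 1 := by
      obtain ⟨f, hf⟩ := exists_hom_of_degree_one (isCharacter_of_isIrr l.2) (hdeg l)
      rw [hf]
      refine Complex.norm_eq_one_of_pow_eq_one ?_ (orderOf_pos b).ne'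
      rw [← Units.val_pow_eq_pow_val, ← map_pow, pow_orderOf_eq_one, map_one, Units.val_one]
    simp only [Equiv.coe_mulLeft, smul_smul, hmul, map_mul, Subgroup.coe_mul, ← mul_assoc,
      Complex.mul_conj', hnorm]
    simp
  have hortho : ∀ l m : Cfsg.IrrCharacter A, P l * P m = if m = l then P m else 0 := by
    intro l m
    have h : P l * P m = Cfsg.classInner (m : A → ℂ) (l : A → ℂ) • P m := by
      conv_lhs => enter [1]; simp only [hP, weightProj]
      rw [smul_mul_assoc, Finset.sum_mul]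
      simp only [smul_mul_assoc, hweight, smul_smul]
      rw [← Finset.sum_smul, smul_smul, Cfsg.classInner]
      congr 2
      exact Finset.sum_congr rfl fun a _ => mul_comm _ _
    rw [h, classInner_irr, ite_smul, one_smul, zero_smul]
  -- the action of `G` on the weights
  let act : G → Cfsg.IrrCharacter A → Cfsg.IrrCharacter A := fun g l =>
    ⟨fun a => (l : A → ℂ) (MulAut.conjNormal g⁻¹ a),
      isIrr_comp (MulAut.conjNormal g⁻¹).toMonoidHom (MulAut.conjNormal g⁻¹).surjective l.2⟩
  have act_mul : ∀ g g' l, act (g * g') l = act g (act g' l) := by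
    intro g g' l
    refine Subtype.ext (funext fun a => ?_)
    simp only [act, mul_inv_rev, map_mul, MulAut.mul_apply]
  have act_one : ∀ l, act 1 l = l := fun l => Subtype.ext (funext fun a => by simp [act])
  have hconj : ∀ g l, ρ g * P l = P (act g l) * ρ g := by
    intro g l
    simp only [hP, weightProj, mul_smul_comm, smul_mul_assoc, Finset.mul_sum, Finset.sum_mul,
      ← map_mul]
    congr 1
    refine Fintype.sum_equiv (MulAut.conjNormal g).toEquiv _ _ fun a => ?_
    simp [act, MulAut.conjNormal_apply, mul_assoc]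
  obtain ⟨l₀, hl₀⟩ : ∃ l, P l ≠ 0 := by
    by_contra h
    push Not at h
    haveI := nontrivial_of_isIrreducible ρ
    exact one_ne_zero (α := Module.End ℂ V) (by rw [← hsum, Finset.sum_eq_zero fun l _ => h l])
  let T : Subgroup G :=
    { carrier := {g | act g l₀ = l₀}
      one_mem' := act_one l₀
      mul_mem' := fun {a b} ha hb => by
        simp only [Set.mem_ofPred_eq] at ha hb ⊢
        rw [act_mul, hb, ha]
      inv_mem' := fun {a} ha => by
        simp only [Set.mem_ofPred_eq] at ha ⊢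
        conv_lhs => rw [← ha]
        rw [← act_mul, inv_mul_cancel, act_one] }
  let O : Finset (Cfsg.IrrCharacter A) := Finset.univ.image fun g => act g l₀
  have hact : ∀ g, ∑ l ∈ O, P l * ρ g = ∑ l ∈ O, ρ g * P l := by
    intro g
    simp only [hconj]
    refine Finset.sum_bij' (fun l _ => act g⁻¹ l) (fun l _ => act g l) ?_ ?_ ?_ ?_ ?_
    · intro l hl
      obtain ⟨x, -, rfl⟩ := Finset.mem_image.1 hl
      exact Finset.mem_image.2 ⟨g⁻¹ * x, Finset.mem_univ _, act_mul _ _ _⟩
    · intro l hl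
      obtain ⟨x, -, rfl⟩ := Finset.mem_image.1 hl
      exact Finset.mem_image.2 ⟨g * x, Finset.mem_univ _, act_mul _ _ _⟩
    · intro l _; rw [← act_mul, mul_inv_cancel, act_one]
    · intro l _; rw [← act_mul, inv_mul_cancel, act_one]
    · intro l _; rw [← act_mul, mul_inv_cancel, act_one]
  obtain ⟨c, hc⟩ := schur_scalar ρ (∑ l ∈ O, P l) fun g x => by
    have := LinearMap.congr_fun (hact g) x
    simpa [Finset.sum_mul, Finset.mul_sum, LinearMap.sum_apply, map_sum] using this
  have hl₀O : l₀ ∈ O := Finset.mem_image.2 ⟨1, Finset.mem_univ _, act_one _⟩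
  have hc1 : c = 1 := by
    have h : P l₀ * ∑ l ∈ O, P l = P l₀ := by
      simp only [Finset.mul_sum, hortho]
      rw [Finset.sum_ite_eq' O l₀, if_pos hl₀O]
    rw [hc, mul_smul_comm, show P l₀ * (LinearMap.id : V →ₗ[ℂ] V) = P l₀ from mul_one _] at h
    have h2 : (c - 1) • P l₀ = 0 := by rw [sub_smul, one_smul, h, sub_self]
    exact sub_eq_zero.1 ((smul_eq_zero.1 h2).resolve_right hl₀)
  have hO1 : ∑ l ∈ O, P l = 1 := by rw [hc, hc1, one_smul]; rfl
  have hzero : ∀ l ∉ O, P l = 0 := by
    intro l hl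
    have h : P l * ∑ m ∈ O, P m = 0 := by
      simp only [Finset.mul_sum, hortho]
      rw [Finset.sum_ite_eq' O l, if_neg hl]
    rwa [hO1, mul_one] at h
  have htr : ∀ g l, act g l ≠ l → LinearMap.trace ℂ V (ρ g * P l) = 0 := by
    intro g l hne
    have hidem : P l * P l = P l := by rw [hortho, if_pos rfl]
    calc LinearMap.trace ℂ V (ρ g * P l) = LinearMap.trace ℂ V (ρ g * P l * P l) := by
          rw [mul_assoc, hidem]
      _ = LinearMap.trace ℂ V (P l * (ρ g * P l)) := LinearMap.trace_mul_comm ℂ _ _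
      _ = 0 := by
          rw [hconj, ← mul_assoc, hortho, if_neg hne, zero_mul, map_zero]
  let ψ : T → ℂ := fun t => LinearMap.trace ℂ V (ρ (t : G) * P l₀)
  have hψ : Cfsg.IsCharacter T ψ :=
    isCharacter_trace_proj (ρ.comp T.subtype) (P l₀) (by rw [hortho, if_pos rfl]) fun t => by
      have := hconj (t : G) l₀
      rwa [show act (t : G) l₀ = l₀ from t.2] at this
  have hAT : A ≤ T := by
    intro a ha
    refine Subtype.ext (funext fun b => congrArg (l₀ : A → ℂ) (Subtype.ext ?_))
    simp only [MulAut.conjNormal_apply, inv_inv]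
    rw [mul_assoc, hcomm b b.2 a ha, inv_mul_cancel_left]
  have hfixed : T = ⊤ → ∀ a ∈ A, ∃ c : ℂ, ρ a = c • LinearMap.id := by
    intro hT a ha
    have hO : O = {l₀} := by
      refine Finset.eq_singleton_iff_unique_mem.2 ⟨hl₀O, fun l hl => ?_⟩
      obtain ⟨x, -, rfl⟩ := Finset.mem_image.1 hl
      exact show x ∈ T from hT ▸ Subgroup.mem_top x
    rw [hO, Finset.sum_singleton] at hO1
    have := hweight l₀ ⟨a, ha⟩
    rw [hO1, mul_one] at this
    exact ⟨_, this⟩
  refine ⟨T, ψ, fun hT => ?_, hAT, hψ, funext fun g => ?_⟩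
  · obtain ⟨a, ha, hna⟩ := hns
    obtain ⟨c', hc'⟩ := hfixed hT a ha
    exact hna c' hc'
  have hterm : ∀ x : G, Cfsg.extendByZero T ψ (x⁻¹ * g * x) =
      LinearMap.trace ℂ V (ρ g * P (act x l₀)) := by
    intro x
    by_cases hx : x⁻¹ * g * x ∈ T
    · rw [extendByZero_of_mem T ψ hx]
      change LinearMap.trace ℂ V (ρ (x⁻¹ * g * x) * P l₀) = _
      rw [map_mul ρ, mul_assoc, hconj x l₀, ← mul_assoc, LinearMap.trace_mul_comm, map_mul ρ,
        ← mul_assoc, ← mul_assoc, ← map_mul ρ x, mul_inv_cancel, map_one ρ, one_mul]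
    · rw [extendByZero_of_not_mem T ψ hx, htr]
      intro hfix
      refine hx ?_
      show act (x⁻¹ * g * x) l₀ = l₀
      rw [act_mul, act_mul, hfix, ← act_mul, inv_mul_cancel, act_one]
  simp only [Cfsg.indFun, hterm]
  rw [← Finset.sum_fiberwise_of_maps_to (g := fun x => act x l₀) (t := O)
    fun x _ => Finset.mem_image_of_mem _ (Finset.mem_univ x)]
  have hfib : ∀ l ∈ O, (∑ x ∈ Finset.univ.filter (fun x => act x l₀ = l),
      LinearMap.trace ℂ V (ρ g * P (act x l₀))) =
        (Nat.card T : ℂ) * LinearMap.trace ℂ V (ρ g * P l) := by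
    intro l hl
    obtain ⟨d, -, rfl⟩ := Finset.mem_image.1 hl
    rw [Finset.sum_congr rfl (g := fun _ => LinearMap.trace ℂ V (ρ g * P (act d l₀)))
      (fun x hx => by rw [(Finset.mem_filter.1 hx).2]), Finset.sum_const, nsmul_eq_mul]
    congr 2
    rw [← Fintype.card_subtype, Fintype.card_eq_nat_card]
    refine Nat.card_congr ⟨fun x => ⟨d⁻¹ * x.1, ?_⟩, fun t => ⟨d * t.1, ?_⟩,
      fun x => Subtype.ext (by group), fun t => Subtype.ext (by group)⟩
    · show act (d⁻¹ * x.1) l₀ = l₀
      rw [act_mul, x.2, ← act_mul, inv_mul_cancel, act_one]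
    · rw [act_mul, show act t.1 l₀ = l₀ from t.2]
  rw [Finset.sum_congr rfl hfib, ← Finset.mul_sum, ← mul_assoc,
    inv_mul_cancel₀ (subgroup_card_ne_zero T), one_mul, ← map_sum, ← Finset.mul_sum, hO1, mul_one]
  rfl

end

/-- A group whose central quotient has nontrivial centre has a noncentral abelian normal
subgroup. -/
theorem exists_abelian_normal_of_center_quotient {G : Type u} [Group G]
    (h : Nontrivial (Subgroup.center (G ⧸ Subgroup.center G))) :
    ∃ A : Subgroup G, A.Normal ∧ (∀ a ∈ A, ∀ b ∈ A, a * b = b * a) ∧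
      ¬ A ≤ Subgroup.center G := by
  obtain ⟨⟨q, hq⟩, hq1⟩ := exists_ne (1 : Subgroup.center (G ⧸ Subgroup.center G))
  obtain ⟨x, rfl⟩ := QuotientGroup.mk'_surjective _ q
  have hx : x ∉ Subgroup.center G := fun hxc =>
    hq1 (Subtype.ext ((QuotientGroup.eq_one_iff x).2 hxc))
  refine ⟨Subgroup.zpowers x ⊔ Subgroup.center G, ?_, ?_, fun h => hx (h (Subgroup.mem_sup_left (Subgroup.mem_zpowers x)))⟩
  · refine ⟨fun n hn g => ?_⟩
    obtain ⟨a, ha, b, hb, rfl⟩ := Subgroup.mem_sup_of_normal_right.1 hn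
    obtain ⟨k, rfl⟩ := Subgroup.mem_zpowers_iff.1 ha
    have hz : (g * x * g⁻¹) * x⁻¹ ∈ Subgroup.center G := by
      rw [← QuotientGroup.eq_one_iff]
      simp only [QuotientGroup.mk_mul, QuotientGroup.mk_inv]
      rw [show (g : G ⧸ Subgroup.center G) * (x : G ⧸ Subgroup.center G) = x * g from
        Subgroup.mem_center_iff.1 hq (g : G ⧸ Subgroup.center G)]
      simp
    have hgx : g * x * g⁻¹ ∈ Subgroup.zpowers x ⊔ Subgroup.center G := by
      have := mul_mem (Subgroup.mem_sup_right (S := Subgroup.zpowers x) hz)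
        (Subgroup.mem_sup_left (T := Subgroup.center G) (Subgroup.mem_zpowers x))
      rwa [inv_mul_cancel_right] at this
    have : g * (x ^ k * b) * g⁻¹ = (g * x * g⁻¹) ^ k * b := by
      rw [conj_zpow, mul_assoc (g * x ^ k), Subgroup.mem_center_iff.1 hb g⁻¹]
      simp [mul_assoc]
    rw [this]
    exact mul_mem (zpow_mem hgx k) (Subgroup.mem_sup_right hb)
  · intro a ha b hb
    obtain ⟨a₁, ha₁, a₂, ha₂, rfl⟩ := Subgroup.mem_sup_of_normal_right.1 ha
    obtain ⟨b₁, hb₁, b₂, hb₂, rfl⟩ := Subgroup.mem_sup_of_normal_right.1 hb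
    obtain ⟨i, rfl⟩ := Subgroup.mem_zpowers_iff.1 ha₁
    obtain ⟨j, rfl⟩ := Subgroup.mem_zpowers_iff.1 hb₁
    have e1 : Commute (x ^ i) (x ^ j) := Commute.zpow_zpow_self x i j
    have e2 : ∀ y, Commute a₂ y := fun y => (Subgroup.mem_center_iff.1 ha₂ y).symm
    have e3 : ∀ y, Commute y b₂ := fun y => Subgroup.mem_center_iff.1 hb₂ y
    exact ((e1.mul_right (e3 _)).mul_left (e2 _)).eq

end CfsgLib.Characters
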