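import Cfsg.Agent.Characters.Solomon
import Cfsg.Agent.Characters.Imprimitive
import Mathlib.GroupTheory.Nilpotent

/-!
# Brauer's induction theorem and his characterisation of generalized characters
-/

set_option autoImplicit false
set_option linter.style.haveILetI false
set_option linter.unusedSectionVars false

namespace CfsgLib.Characters

universe u

open scoped IsMulCommutative

variable {G : Type u} [Group G] [Fintype G]

/-- The ℤ-span of the functions induced from linear characters of elementary subgroups. -/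
noncomputable def brauerSpan (G : Type u) [Group G] [Fintype G] : AddSubgroup (G → ℂ) :=
  AddSubgroup.closure {f | ∃ (E : Subgroup G) (l : E →* ℂˣ),
    (∃ p : ℕ, p.Prime ∧ Cfsg.IsElementary p E) ∧ f = Cfsg.indFun E (fun e => (l e : ℂ))}

theorem extendByZero_congr {A B : Subgroup G} (h : A = B) (θ : A → ℂ) (η : B → ℂ)
    (he : ∀ (a : G) (ha : a ∈ A) (hb : a ∈ B), θ ⟨a, ha⟩ = η ⟨a, hb⟩) :
    Cfsg.indFun A θ = Cfsg.indFun B η := by
  subst h
  rw [show θ = η from funext fun a => he a a.2 a.2]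

/-- Transitivity for subgroups of a subgroup. -/
theorem indFun_indFun (K : Subgroup G) [Fintype K] (E : Subgroup K) (θ : E → ℂ) :
    Cfsg.indFun K (Cfsg.indFun E θ) = Cfsg.indFun (E.map K.subtype)
      (fun x => θ ((Subgroup.equivMapOfInjective E K.subtype K.subtype_injective).symm x)) := by
  rw [← indFun_trans (E.map K.subtype) K (Subgroup.map_subtype_le E)]
  refine congrArg _ (extendByZero_congr
    (Subgroup.comap_map_eq_self_of_injective K.subtype_injective E).symm _ _ fun a ha hb => ?_)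
  refine congrArg θ ((Subgroup.equivMapOfInjective E K.subtype K.subtype_injective).injective ?_)
  rw [MulEquiv.apply_symm_apply]
  rfl

theorem indFun_mem_brauerSpan (K : Subgroup G) [Fintype K] {f : K → ℂ}
    (hf : f ∈ brauerSpan K) : Cfsg.indFun K f ∈ brauerSpan G := by
  induction hf using AddSubgroup.closure_induction with
  | mem f hf =>
    obtain ⟨E, l, ⟨p, hp, hE⟩, rfl⟩ := hf
    rw [indFun_indFun]
    exact AddSubgroup.subset_closure ⟨_, l.comp
      (Subgroup.equivMapOfInjective E K.subtype K.subtype_injective).symm.toMonoidHom,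
      ⟨p, hp, isElementary_of_mulEquiv
        (Subgroup.equivMapOfInjective E K.subtype K.subtype_injective) hE⟩, rfl⟩
  | zero => rw [indFun_zero]; exact zero_mem _
  | add a b _ _ ha hb => rw [indFun_add]; exact add_mem ha hb
  | neg a _ ha =>
    rw [show -a = (0 : K → ℂ) - a from (zero_sub a).symm, indFun_sub, indFun_zero, zero_sub]
    exact neg_mem ha

theorem indFun_top (f : (⊤ : Subgroup G) → ℂ) (g : G) :
    Cfsg.indFun (⊤ : Subgroup G) f g =
      (Nat.card G : ℂ)⁻¹ * ∑ x : G, f ⟨x⁻¹ * g * x, Subgroup.mem_top _⟩ := by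
  simp only [Cfsg.indFun, extendByZero_of_mem _ f (Subgroup.mem_top _), Subgroup.card_top]

theorem indFun_top_classFunction {θ : G → ℂ} (hθ : Cfsg.IsClassFunction G θ) :
    Cfsg.indFun (⊤ : Subgroup G) (fun x => θ x) = θ := by
  funext g
  rw [indFun_top, Finset.sum_congr rfl (g := fun _ => θ g)
    (fun x _ => by simpa using hθ g x⁻¹), Finset.sum_const, Finset.card_univ,
    ← Nat.card_eq_fintype_card, nsmul_eq_mul, ← mul_assoc, inv_mul_cancel₀ natCard_ne_zero, one_mul]

/-- A nonabelian quasi-elementary group has a noncentral abelian normal subgroup. -/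
theorem exists_abelian_normal_of_quasiElementary {p : ℕ} (hp : p.Prime) {Q : Type u} [Group Q]
    [Finite Q] (hQ : IsQuasiElementary p Q) (hnc : ¬ ∀ a b : Q, a * b = b * a) :
    ∃ A : Subgroup Q, A.Normal ∧ (∀ a ∈ A, ∀ b ∈ A, a * b = b * a) ∧
      ¬ A ≤ Subgroup.center Q := by
  obtain ⟨x, hn, -, k, hk⟩ := hQ
  by_cases hx : Subgroup.zpowers x ≤ Subgroup.center Q
  · refine exists_abelian_normal_of_center_quotient ?_
    haveI := Fact.mk hp
    obtain ⟨i, -, hi⟩ := (Nat.dvd_prime_pow hp).1 (hk ▸ Subgroup.index_dvd_of_le hx)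
    haveI : Nontrivial (Q ⧸ Subgroup.center Q) := by
      rw [← not_subsingleton_iff_nontrivial]
      intro h
      refine hnc fun a b => ?_
      have ha : a ∈ Subgroup.center Q := (QuotientGroup.eq_one_iff a).1 (Subsingleton.elim _ _)
      exact (Subgroup.mem_center_iff.1 ha b).symm
    exact (IsPGroup.of_card (n := i) (by rw [← Subgroup.index_eq_card, hi])).center_nontrivial
  · refine ⟨_, hn, fun a ha b hb => ?_, hx⟩
    obtain ⟨i, rfl⟩ := Subgroup.mem_zpowers_iff.1 ha
    obtain ⟨j, rfl⟩ := Subgroup.mem_zpowers_iff.1 hb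
    exact (Commute.zpow_zpow_self x i j).eq

theorem isQuasiElementary_of_surjective {p : ℕ} (hp : p.Prime) {E : Type u} [Group E] [Finite E]
    {F : Type u} [Group F] (f : E →* F) (hf : Function.Surjective f)
    (h : IsQuasiElementary p E) : IsQuasiElementary p F := by
  obtain ⟨x, hn, hcop, k, hk⟩ := h
  refine ⟨f x, ?_, hcop.coprime_dvd_left (orderOf_map_dvd f x), ?_⟩
  · rw [← MonoidHom.map_zpowers]; exact hn.map f hf
  · rw [← MonoidHom.map_zpowers]
    obtain ⟨i, -, hi⟩ := (Nat.dvd_prime_pow hp).1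
      (hk ▸ Subgroup.index_map_dvd (Subgroup.zpowers x) hf)
    exact ⟨i, hi⟩

/-- A nonlinear irreducible character of a quasi-elementary group is properly induced. -/
theorem exists_induced_of_quasiElementary {p : ℕ} (hp : p.Prime) (hG : IsQuasiElementary p G)
    {χ : G → ℂ} (hχ : Cfsg.IsIrrCharacter G χ) (h1 : χ 1 ≠ 1) :
    ∃ (T : Subgroup G) (ψ : T → ℂ), T ≠ ⊤ ∧ Cfsg.IsCharacter T ψ ∧ χ = Cfsg.indFun T ψ := by
  classical
  obtain ⟨n, ρ, hρ, rfl⟩ := hχ
  haveI : Fintype (G ⧸ MonoidHom.ker ρ) := Fintype.ofFinite _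
  let σ : Representation ℂ (G ⧸ MonoidHom.ker ρ) (Fin n → ℂ) :=
    QuotientGroup.lift (MonoidHom.ker ρ) ρ le_rfl
  haveI hσ : σ.IsIrreducible :=
    (isIrreducible_comp_iff (QuotientGroup.mk' (MonoidHom.ker ρ))
      (QuotientGroup.mk'_surjective _) σ).1 hρ
  have hσinj : Function.Injective σ := by
    intro a b h
    induction a using QuotientGroup.induction_on
    induction b using QuotientGroup.induction_on
    rename_i a b
    refine QuotientGroup.eq.2 (MonoidHom.mem_ker.2 ?_)
    have h' : ρ a = ρ b := h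
    rw [map_mul, ← h', ← map_mul, inv_mul_cancel, map_one]
  have hnc : ¬ ∀ a b : G ⧸ MonoidHom.ker ρ, a * b = b * a := by
    intro h
    haveI : IsMulCommutative (G ⧸ MonoidHom.ker ρ) := ⟨⟨h⟩⟩
    refine h1 ?_
    rw [Representation.char_one,
      Representation.IsIrreducible.finrank_eq_one_of_isMulCommutative σ, Nat.cast_one]
  obtain ⟨A, hA, hAc, hAn⟩ := exists_abelian_normal_of_quasiElementary hp
    (isQuasiElementary_of_surjective hp _ (QuotientGroup.mk'_surjective _) hG) hnc
  haveI := hA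
  obtain ⟨T, ψ, hT, -, hψ, hind⟩ := exists_induced_of_abelian_normal σ A hAc (by
    by_contra h
    push Not at h
    refine hAn fun a ha => Subgroup.mem_center_iff.2 fun b => hσinj ?_
    obtain ⟨c, hc⟩ := h a ha
    rw [map_mul, map_mul, hc]
    ext v; simp)
  refine ⟨T.comap (QuotientGroup.mk' _), fun x => ψ ⟨QuotientGroup.mk' _ x, x.2⟩, ?_,
    isCharacter_comp (((QuotientGroup.mk' (MonoidHom.ker ρ)).comp
      (T.comap (QuotientGroup.mk' (MonoidHom.ker ρ))).subtype).codRestrict T fun x => x.2) hψ,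
    funext fun g => ?_⟩
  · intro h
    refine hT ?_
    rw [← Subgroup.map_comap_eq_self_of_surjective (QuotientGroup.mk'_surjective _) T, h,
      Subgroup.map_top_of_surjective _ (QuotientGroup.mk'_surjective _)]
  · rw [indFun_comap _ (QuotientGroup.mk'_surjective _) T ψ, ← hind]
    rfl

theorem linear_mem_brauerSpan {p : ℕ} (hp : p.Prime) (hG : IsQuasiElementary p G) (l : G →* ℂˣ)
    (hnl : ∀ χ : Cfsg.IrrCharacter G, (χ : G → ℂ) 1 ≠ 1 → (χ : G → ℂ) ∈ brauerSpan G) :
    (fun g => (l g : ℂ)) ∈ brauerSpan G := by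
  classical
  haveI := Fact.mk hp
  have hG' := hG
  obtain ⟨x, hn, hcop, k, hk⟩ := hG
  haveI := hn
  set C := Subgroup.zpowers x
  obtain ⟨P⟩ : Nonempty (Sylow p G) := inferInstance
  set D := C ⊓ Subgroup.centralizer ((P : Subgroup G) : Set G)
  have hDC : D ≤ C := inf_le_left
  obtain ⟨y, hy⟩ : ∃ y, Subgroup.zpowers y = D := by
    haveI : IsCyclic D := isCyclic_of_injective (Subgroup.inclusion hDC)
      (Subgroup.inclusion_injective hDC)
    obtain ⟨d, hd⟩ := IsCyclic.exists_generator (α := D)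
    refine ⟨d, le_antisymm (Subgroup.zpowers_le.2 d.2) fun z hz => ?_⟩
    obtain ⟨i, hi⟩ := Subgroup.mem_zpowers_iff.1 (hd ⟨z, hz⟩)
    exact ⟨i, congrArg Subtype.val hi⟩
  haveI hDn : D.Normal := by
    refine ⟨fun d hd g => ?_⟩
    rw [← hy] at hd ⊢
    obtain ⟨i, hi⟩ := Subgroup.mem_zpowers_iff.1 (hDC (hy ▸ Subgroup.mem_zpowers y) : y ∈ C)
    obtain ⟨j, hj⟩ := Subgroup.mem_zpowers_iff.1 (hn.conj_mem x (Subgroup.mem_zpowers x) g)
    obtain ⟨r, rfl⟩ := Subgroup.mem_zpowers_iff.1 hd
    refine ⟨j * r, ?_⟩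
    show y ^ (j * r) = g * y ^ r * g⁻¹
    rw [← hi, ← zpow_mul, ← zpow_mul, ← conj_zpow, ← hj, ← zpow_mul]
    congr 1
    ring
  set E := D ⊔ (P : Subgroup G)
  have hED : E ⊓ C ≤ D := by
    intro e he
    obtain ⟨d, hd, q, hq, rfl⟩ := Subgroup.mem_sup_of_normal_left.1 (Subgroup.mem_inf.1 he).1
    have hqC : q ∈ C := by
      simpa using C.mul_mem (C.inv_mem (hDC hd)) (Subgroup.mem_inf.1 he).2
    have hq1 : q = 1 := by
      refine orderOf_eq_one_iff.1 (Nat.eq_one_of_dvd_coprimes hcop ?_ ?_ |>.trans rfl)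
      · rw [← Nat.card_zpowers x]
        exact Subgroup.orderOf_dvd_natCard _ hqC
      · obtain ⟨i, hi⟩ := P.2 ⟨q, hq⟩
        have : q ^ p ^ i = 1 := congrArg Subtype.val hi
        obtain ⟨j, -, hj⟩ := (Nat.dvd_prime_pow hp).1 (orderOf_dvd_of_pow_eq_one this)
        rcases Nat.eq_zero_or_pos j with hj0 | hj0
        · rw [hj, hj0, pow_zero]; exact one_dvd _
        · exfalso
          have h1 : orderOf q ∣ orderOf x := by
            rw [← Nat.card_zpowers x]
            exact Subgroup.orderOf_dvd_natCard _ hqC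
          rw [hj] at h1
          have hp1 : p ∣ orderOf x := (dvd_pow_self p hj0.ne').trans h1
          exact hp.ne_one (Nat.eq_one_of_dvd_coprimes hcop hp1 dvd_rfl)
    rw [hq1, mul_one]
    exact hd
  have hEe : Cfsg.IsElementary p E := by
    have hyE : y ∈ E := Subgroup.mem_sup_left (hy ▸ Subgroup.mem_zpowers y)
    have hyD : y ∈ D := hy ▸ Subgroup.mem_zpowers y
    refine ⟨⟨y, hyE⟩, Subgroup.mem_center_iff.2 fun e => Subtype.ext ?_, ?_, ?_⟩
    · obtain ⟨d, hd, q, hq, he⟩ := Subgroup.mem_sup_of_normal_left.1 e.2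
      change (e : G) * y = y * e
      rw [← he]
      have h1 : d * y = y * d := by
        rw [← hy] at hd
        obtain ⟨r, rfl⟩ := Subgroup.mem_zpowers_iff.1 hd
        exact (Commute.zpow_self y r).eq
      have h2 : q * y = y * q := Subgroup.mem_centralizer_iff.1 (Subgroup.mem_inf.1 hyD).2 q hq
      rw [mul_assoc, h2, ← mul_assoc, h1, mul_assoc]
    · rw [← Subgroup.orderOf_coe]
      exact hcop.coprime_dvd_left (by
        rw [← Nat.card_zpowers x]
        exact Subgroup.orderOf_dvd_natCard _ (hDC hyD))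
    · have h1 : (Subgroup.zpowers (⟨y, hyE⟩ : E)) = C.subgroupOf E := by
        refine le_antisymm (Subgroup.zpowers_le.2 (hDC hyD)) fun e he => ?_
        have := hED (Subgroup.mem_inf.2 ⟨e.2, he⟩)
        rw [← hy] at this
        obtain ⟨r, hr⟩ := Subgroup.mem_zpowers_iff.1 this
        exact ⟨r, Subtype.ext hr⟩
      rw [h1]
      obtain ⟨i, -, hi⟩ := (Nat.dvd_prime_pow hp).1
        (hk ▸ Subgroup.relIndex_dvd_index_of_normal C E)
      exact ⟨i, hi⟩
  -- the character induced from the restriction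
  set ψ : G → ℂ := Cfsg.indFun E (fun e : E => (l e : ℂ)) with hψ
  have hψmem : ψ ∈ brauerSpan G :=
    AddSubgroup.subset_closure ⟨E, l.comp E.subtype, ⟨p, hp, hEe⟩, rfl⟩
  obtain ⟨m, hm⟩ := exists_nat_coeff (isCharacter_indFun E
    (isCharacter_of_isIrr (isIrr_linChar (l.comp E.subtype))))
  let lc : Cfsg.IrrCharacter G := ⟨fun g => (l g : ℂ), isIrr_linChar l⟩
  haveI := Fintype.ofFinite E
  have hcoeff : ∀ (f : G →* ℂˣ), Cfsg.classInner ψ (fun g => (f g : ℂ)) ≠ 0 →
      ∀ e : E, f e = l e := by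
    intro f hf e
    rw [hψ, classInner_indFun E _ (isClassFunction_of_isIrr (isIrr_linChar f))] at hf
    by_contra hne
    refine hf (classInner_isIrr_ne (isIrr_linChar (l.comp E.subtype))
      (isIrr_linChar (f.comp E.subtype)) fun h => hne ?_)
    exact Units.ext (congrFun h e).symm
  have hml : m lc = 1 := by
    have h1 : Cfsg.classInner ψ (lc : G → ℂ) = 1 := by
      rw [hψ, classInner_indFun E _ (isClassFunction_of_isIrr lc.2)]
      exact classInner_isIrr_self (isIrr_linChar (l.comp E.subtype))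
    have h2 : ψ = ∑ χ, (m χ : ℂ) • (χ : G → ℂ) := hm
    rw [h2, classInner_irr_coeff] at h1
    exact_mod_cast h1
  -- a linear constituent equals `l`
  have honly : ∀ f : G →* ℂˣ, (∀ e : E, f e = l e) → f = l := by
    intro f hf
    set q : G →* ℂˣ := f * l⁻¹ with hq
    have hqE : E ≤ q.ker := fun e he => by
      rw [MonoidHom.mem_ker, hq, MonoidHom.mul_apply, MonoidHom.inv_apply, hf ⟨e, he⟩,
        mul_inv_cancel]
    have hqx : q x = 1 := by
      haveI hCc : IsMulCommutative C := ⟨⟨fun a b => by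
        obtain ⟨i, hi⟩ := Subgroup.mem_zpowers_iff.1 a.2
        obtain ⟨j, hj⟩ := Subgroup.mem_zpowers_iff.1 b.2
        exact Subtype.ext (by
          change (a : G) * b = b * a
          rw [← hi, ← hj]; exact (Commute.zpow_zpow_self x i j).eq)⟩⟩
      haveI := Fintype.ofFinite (P : Subgroup G)
      let cj : G → C →* C := fun g => (MulAut.conjNormal g).toMonoidHom
      let z : C := ∏ r : (P : Subgroup G), cj r ⟨x, Subgroup.mem_zpowers x⟩
      have hzfix : (z : G) ∈ Subgroup.centralizer ((P : Subgroup G) : Set G) := by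
        refine Subgroup.mem_centralizer_iff.2 fun r hr => ?_
        have h1 : cj r z = z := by
          simp only [z, map_prod]
          refine Fintype.prod_equiv (Equiv.mulLeft (⟨r, hr⟩ : (P : Subgroup G))) _ _ fun t => ?_
          apply Subtype.ext
          simp [cj, MulAut.conjNormal_apply, mul_assoc]
        have h2 : r * (z : G) * r⁻¹ = z := by
          simpa [cj, MulAut.conjNormal_apply] using congrArg Subtype.val h1
        calc r * (z : G) = r * z * r⁻¹ * r := by group
          _ = z * r := by rw [h2]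
      have h3 : q (z : G) = 1 :=
        MonoidHom.mem_ker.1 (hqE (Subgroup.mem_sup_left (Subgroup.mem_inf.2 ⟨z.2, hzfix⟩)))
      have h4 : q (z : G) = q x ^ Nat.card (P : Subgroup G) := by
        change (q.comp C.subtype) z = _
        rw [map_prod, Finset.prod_congr rfl (g := fun _ => q x)
          (fun t _ => by simp [cj, MulAut.conjNormal_apply]),
          Finset.prod_const, Finset.card_univ, Nat.card_eq_fintype_card]
      rw [h3] at h4
      obtain ⟨j, hj⟩ := P.2.exists_card_eq
      rw [hj] at h4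
      have h5 : orderOf (q x) = 1 := Nat.eq_one_of_dvd_coprimes (hcop.pow_right j)
        (orderOf_map_dvd q x) (orderOf_dvd_of_pow_eq_one h4.symm)
      exact orderOf_eq_one_iff.1 h5
    have htop : C ⊔ (P : Subgroup G) = ⊤ := by
      refine Subgroup.index_eq_one.1 (Nat.eq_one_of_dvd_coprimes (a := p ^ k) (b := (P : Subgroup G).index) ?_
        (hk ▸ Subgroup.index_dvd_of_le le_sup_left) (Subgroup.index_dvd_of_le le_sup_right))
      exact Nat.Coprime.pow_left k (hp.coprime_iff_not_dvd.2 P.not_dvd_index)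
    have hker : q.ker = ⊤ := by
      rw [eq_top_iff, ← htop, sup_le_iff]
      exact ⟨Subgroup.zpowers_le.2 hqx, le_sup_right.trans hqE⟩
    refine MonoidHom.ext fun g => ?_
    have hg : q g = 1 := MonoidHom.mem_ker.1 (hker ▸ Subgroup.mem_top g)
    rwa [hq, MonoidHom.mul_apply, MonoidHom.inv_apply, mul_inv_eq_one] at hg
  have hsplit : (fun g => (l g : ℂ)) =
      ψ - ∑ χ ∈ Finset.univ.erase lc, (m χ : ℂ) • (χ : G → ℂ) := by
    have h2 : ψ = ∑ χ, (m χ : ℂ) • (χ : G → ℂ) := hm
    rw [h2, ← Finset.add_sum_erase _ _ (Finset.mem_univ lc), hml, Nat.cast_one, one_smul,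
      add_sub_cancel_right]
  rw [hsplit]
  refine sub_mem hψmem (sum_mem fun χ hχ => ?_)
  by_cases hm0 : m χ = 0
  · rw [hm0, Nat.cast_zero, zero_smul]; exact zero_mem _
  rw [Nat.cast_smul_eq_nsmul]
  refine nsmul_mem (hnl χ fun h1 => ?_) _
  obtain ⟨f, hf⟩ := exists_hom_of_degree_one (isCharacter_of_isIrr χ.2) h1
  have hfl : f = l := honly f (hcoeff f (by
    have h2 : ψ = ∑ χ, (m χ : ℂ) • (χ : G → ℂ) := hm
    rw [h2, ← hf, classInner_irr_coeff]
    exact_mod_cast hm0))
  exact Finset.ne_of_mem_erase hχ (Subtype.ext (hf.trans (by rw [hfl])))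

theorem char_mem_brauerSpan_of_irr {χ : G → ℂ} (hχ : Cfsg.IsCharacter G χ)
    (h : ∀ ψ : Cfsg.IrrCharacter G, (ψ : G → ℂ) ∈ brauerSpan G) : χ ∈ brauerSpan G := by
  obtain ⟨m, rfl⟩ := exists_nat_coeff hχ
  refine sum_mem fun ψ _ => ?_
  rw [Nat.cast_smul_eq_nsmul]
  exact nsmul_mem (h ψ) _

theorem quasiElementary_mem_brauerSpan {p : ℕ} (hp : p.Prime) (n : ℕ) :
    ∀ (G : Type u) [Group G] [Fintype G], Nat.card G = n → IsQuasiElementary p G →
      ∀ χ : G → ℂ, Cfsg.IsCharacter G χ → χ ∈ brauerSpan G := by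
  induction n using Nat.strong_induction_on with
  | _ n ih =>
    intro G _ _ hcard hG χ hχ
    have hnl : ∀ ψ : Cfsg.IrrCharacter G, (ψ : G → ℂ) 1 ≠ 1 → (ψ : G → ℂ) ∈ brauerSpan G := by
      intro ψ h1
      obtain ⟨T, η, hT, hη, heq⟩ := exists_induced_of_quasiElementary hp hG ψ.2 h1
      haveI := Fintype.ofFinite T
      rw [heq]
      refine indFun_mem_brauerSpan T (ih (Nat.card T) ?_ T rfl (isQuasiElementary_subgroup hp T hG) η hη)
      rw [← hcard]
      exact lt_of_le_of_ne (Subgroup.card_le_card_group T) fun h => hT (Subgroup.eq_top_of_card_eq T h)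
    refine char_mem_brauerSpan_of_irr hχ fun ψ => ?_
    by_cases h1 : (ψ : G → ℂ) 1 = 1
    · obtain ⟨f, hf⟩ := exists_hom_of_degree_one (isCharacter_of_isIrr ψ.2) h1
      rw [hf]
      exact linear_mem_brauerSpan hp hG f hnl
    · exact hnl ψ h1

/-- Brauer's induction theorem, as membership in the span. -/
theorem isCharacter_mem_brauerSpan {χ : G → ℂ} (hχ : Cfsg.IsCharacter G χ) :
    χ ∈ brauerSpan G := by
  classical
  have key : ∀ f ∈ qeSpan (G := G) (fun _ => True),
      (fun g => (f g : ℂ) * χ g) ∈ brauerSpan G := by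
    intro f hf
    induction hf using AddSubgroup.closure_induction with
    | mem f hf =>
      obtain ⟨H, ⟨p, hp, -, hH⟩, rfl⟩ := hf
      haveI := Fintype.ofFinite H
      have h : (fun g => (cosetFix H g : ℂ) * χ g) = Cfsg.indFun H (fun h : H => χ h) := by
        have h1 := indFun_mul H (fun _ => 1) (isClassFunction_of_isCharacter hχ)
        simp only [one_mul] at h1
        rw [h1]
        funext g
        rw [cosetFix_eq_indFun]
      rw [h]
      exact indFun_mem_brauerSpan H
        (quasiElementary_mem_brauerSpan hp _ H rfl hH _ (isCharacter_restrict H hχ))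
    | zero =>
      convert! zero_mem (brauerSpan G) using 1
      funext g; simp
    | add a b _ _ ha hb =>
      convert! add_mem ha hb using 1
      funext g; simp [add_mul]
    | neg a _ ha =>
      convert! neg_mem ha using 1
      funext g; simp
  simpa using key 1 one_mem_qeSpan

theorem closure_smul_list {ι : Type*} (F : ι → G → ℂ) (s : Set ι) {f : G → ℂ}
    (hf : f ∈ AddSubgroup.closure (F '' s)) :
    ∃ l : List (ι × ℤ), (∀ t ∈ l, t.1 ∈ s) ∧ f = (l.map fun t => (t.2 : ℂ) • F t.1).sum := by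
  induction hf using AddSubgroup.closure_induction with
  | mem f hf =>
    obtain ⟨i, hi, rfl⟩ := hf
    exact ⟨[(i, 1)], by simpa using hi, by simp⟩
  | zero => exact ⟨[], by simp, by simp⟩
  | add a b _ _ ha hb =>
    obtain ⟨l, hl, rfl⟩ := ha
    obtain ⟨l', hl', rfl⟩ := hb
    exact ⟨l ++ l', fun t ht => (List.mem_append.1 ht).elim (hl t) (hl' t), by simp⟩
  | neg a _ ha =>
    obtain ⟨l, hl, rfl⟩ := ha
    refine ⟨l.map fun t => (t.1, -t.2), ?_, ?_⟩
    · intro t ht
      obtain ⟨t', ht', rfl⟩ := List.mem_map.1 ht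
      exact hl t' ht'
    · rw [List.map_map, List.sum_neg, List.map_map]
      congr 1
      refine List.map_congr_left fun t _ => ?_
      simp

/-- Brauer's induction theorem with an explicit list. -/
theorem brauer_induction {χ : G → ℂ} (hχ : Cfsg.IsCharacter G χ) :
    ∃ l : List ((E : Subgroup G) × ((E →* ℂˣ) × ℤ)),
      (∀ t ∈ l, ∃ p : ℕ, p.Prime ∧ Cfsg.IsElementary p t.1) ∧
      χ = (l.map fun t => (t.2.2 : ℂ) • Cfsg.indFun t.1 (fun e => (t.2.1 e : ℂ))).sum := by
  obtain ⟨l, hl, hsum⟩ := closure_smul_list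
    (fun t : (E : Subgroup G) × (E →* ℂˣ) => Cfsg.indFun t.1 (fun e => (t.2 e : ℂ)))
    {t | ∃ p : ℕ, p.Prime ∧ Cfsg.IsElementary p t.1} (f := χ) (by
      refine AddSubgroup.closure_mono ?_ (isCharacter_mem_brauerSpan hχ)
      rintro f ⟨E, f', hE, rfl⟩
      exact ⟨⟨E, f'⟩, hE, rfl⟩)
  refine ⟨l.map fun t => ⟨t.1.1, t.1.2, t.2⟩, ?_, ?_⟩
  · intro t ht
    obtain ⟨t', ht', rfl⟩ := List.mem_map.1 ht
    exact hl t' ht'
  · rw [hsum, List.map_map]
    rfl

/-- Brauer's characterisation of generalized characters. -/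
theorem isGen_of_elementary {θ : G → ℂ} (hθ : Cfsg.IsClassFunction G θ)
    (hE : ∀ (E : Subgroup G) (p : ℕ), p.Prime → Cfsg.IsElementary p E →
      Cfsg.IsGeneralizedCharacter E (fun e : E => θ e)) :
    Cfsg.IsGeneralizedCharacter G θ := by
  have key : ∀ f ∈ brauerSpan G, Cfsg.IsGeneralizedCharacter G (θ * f) := by
    intro f hf
    induction hf using AddSubgroup.closure_induction with
    | mem f hf =>
      obtain ⟨E, l, ⟨p, hp, hEl⟩, rfl⟩ := hf
      have h : θ * Cfsg.indFun E (fun e => (l e : ℂ)) =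
          Cfsg.indFun E (fun e : E => (l e : ℂ) * θ e) := by
        rw [indFun_mul E _ hθ]
        funext g
        exact mul_comm _ _
      rw [h]
      exact isGen_indFun E (isGen_mul (isGen_of_isIrr (isIrr_linChar l)) (hE E p hp hEl))
    | zero => rw [mul_zero]; exact isGen_zero
    | add a b _ _ ha hb => rw [mul_add]; exact isGen_add ha hb
    | neg a _ ha => rw [mul_neg]; exact isGen_neg ha
  have h1 := key _ (isCharacter_mem_brauerSpan (isCharacter_one (G := G)))
  convert! h1 using 1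
  funext g; simp

end CfsgLib.Characters
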