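import Cfsg.Agent.Characters.RepBasic

/-!
# Orthogonality relations and completeness of irreducible characters
-/

set_option autoImplicit false
set_option linter.style.haveILetI false
set_option linter.unusedSectionVars false

namespace CfsgLib.Characters

open Representation
open scoped ComplexConjugate

universe u v w

/-! ### The class inner product -/

section Inner

variable {G : Type u} [Group G] [Fintype G]

theorem classInner_congr (i : Fintype G) (φ ψ : G → ℂ) :
    @Cfsg.classInner G _ i φ ψ = Cfsg.classInner φ ψ := by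
  rw [Subsingleton.elim i ‹Fintype G›]

theorem natCard_ne_zero : (Nat.card G : ℂ) ≠ 0 := Nat.cast_ne_zero.2 Nat.card_pos.ne'

theorem classInner_add_left (φ φ' ψ : G → ℂ) :
    Cfsg.classInner (φ + φ') ψ = Cfsg.classInner φ ψ + Cfsg.classInner φ' ψ := by
  simp [Cfsg.classInner, add_mul, Finset.sum_add_distrib, mul_add]

theorem classInner_add_right (φ ψ ψ' : G → ℂ) :
    Cfsg.classInner φ (ψ + ψ') = Cfsg.classInner φ ψ + Cfsg.classInner φ ψ' := by
  simp [Cfsg.classInner, mul_add, Finset.sum_add_distrib]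

theorem classInner_smul_left (c : ℂ) (φ ψ : G → ℂ) :
    Cfsg.classInner (c • φ) ψ = c * Cfsg.classInner φ ψ := by
  simp only [Cfsg.classInner, Pi.smul_apply, smul_eq_mul, Finset.mul_sum]
  exact Finset.sum_congr rfl fun _ _ => by ring

theorem classInner_smul_right (c : ℂ) (φ ψ : G → ℂ) :
    Cfsg.classInner φ (c • ψ) = conj c * Cfsg.classInner φ ψ := by
  simp only [Cfsg.classInner, Pi.smul_apply, smul_eq_mul, Finset.mul_sum, map_mul]
  exact Finset.sum_congr rfl fun _ _ => by ring

theorem classInner_zero_left (ψ : G → ℂ) : Cfsg.classInner (0 : G → ℂ) ψ = 0 := by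
  simp [Cfsg.classInner]

theorem classInner_zero_right (φ : G → ℂ) : Cfsg.classInner φ (0 : G → ℂ) = 0 := by
  simp [Cfsg.classInner]

theorem classInner_sub_left (φ φ' ψ : G → ℂ) :
    Cfsg.classInner (φ - φ') ψ = Cfsg.classInner φ ψ - Cfsg.classInner φ' ψ := by
  simp [Cfsg.classInner, sub_mul, Finset.sum_sub_distrib, mul_sub]

theorem classInner_sub_right (φ ψ ψ' : G → ℂ) :
    Cfsg.classInner φ (ψ - ψ') = Cfsg.classInner φ ψ - Cfsg.classInner φ ψ' := by
  simp [Cfsg.classInner, mul_sub, Finset.sum_sub_distrib]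

theorem classInner_sum_left {ι : Type*} (s : Finset ι) (f : ι → G → ℂ) (ψ : G → ℂ) :
    Cfsg.classInner (∑ i ∈ s, f i) ψ = ∑ i ∈ s, Cfsg.classInner (f i) ψ := by
  simp only [Cfsg.classInner, Finset.sum_apply, Finset.sum_mul, Finset.mul_sum]
  exact Finset.sum_comm

theorem classInner_sum_right {ι : Type*} (s : Finset ι) (φ : G → ℂ) (f : ι → G → ℂ) :
    Cfsg.classInner φ (∑ i ∈ s, f i) = ∑ i ∈ s, Cfsg.classInner φ (f i) := by
  simp only [Cfsg.classInner, Finset.sum_apply, map_sum, Finset.mul_sum]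
  exact Finset.sum_comm

theorem classInner_conj_symm (φ ψ : G → ℂ) :
    Cfsg.classInner ψ φ = conj (Cfsg.classInner φ ψ) := by
  simp [Cfsg.classInner, map_sum, mul_comm]

theorem classInner_conj_conj (φ ψ : G → ℂ) :
    Cfsg.classInner (fun g => conj (φ g)) (fun g => conj (ψ g)) =
      conj (Cfsg.classInner φ ψ) := by
  simp [Cfsg.classInner, map_sum]

/-- The inner product of two characters is a dimension of intertwining maps. -/
theorem classInner_char {V : Type v} [AddCommGroup V] [Module ℂ V] [FiniteDimensional ℂ V]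
    {W : Type w} [AddCommGroup W] [Module ℂ W] [FiniteDimensional ℂ W]
    (ρ : Representation ℂ G V) (σ : Representation ℂ G W) :
    Cfsg.classInner ρ.character σ.character =
      (Module.finrank ℂ (IntertwiningMap σ ρ) : ℂ) := by
  letI := invertibleOfNonzero (natCard_ne_zero (G := G))
  rw [← card_inv_mul_sum_char_mul_char_eq_finrank σ ρ]
  simp only [Cfsg.classInner, char_inv]

theorem classInner_char_irr {V : Type v} [AddCommGroup V] [Module ℂ V] [FiniteDimensional ℂ V]
    {W : Type w} [AddCommGroup W] [Module ℂ W] [FiniteDimensional ℂ W]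
    (ρ : Representation ℂ G V) (σ : Representation ℂ G W) [ρ.IsIrreducible] [σ.IsIrreducible]
    [Decidable (ρ.character = σ.character)] :
    Cfsg.classInner ρ.character σ.character =
      if ρ.character = σ.character then 1 else 0 := by
  classical
  letI := invertibleOfNonzero (natCard_ne_zero (G := G))
  split_ifs with h
  · have hs := char_orthonormal σ σ
    rw [if_pos ⟨Representation.Equiv.refl σ⟩] at hs
    rw [h, Cfsg.classInner]
    simpa [char_inv] using hs
  · have hs := char_orthonormal ρ σ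
    rw [if_neg (fun ⟨φ⟩ => h (Representation.char_iso φ).symm)] at hs
    rw [Cfsg.classInner]
    simpa [char_inv] using hs

theorem classInner_isIrr_self {χ : G → ℂ} (h : Cfsg.IsIrrCharacter G χ) :
    Cfsg.classInner χ χ = 1 := by
  classical
  obtain ⟨n, ρ, hρ, rfl⟩ := h
  rw [classInner_char_irr, if_pos rfl]

theorem classInner_isIrr_ne {χ ψ : G → ℂ} (h₁ : Cfsg.IsIrrCharacter G χ)
    (h₂ : Cfsg.IsIrrCharacter G ψ) (hne : χ ≠ ψ) : Cfsg.classInner χ ψ = 0 := by
  classical
  obtain ⟨n, ρ, hρ, rfl⟩ := h₁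
  obtain ⟨m, σ, hσ, rfl⟩ := h₂
  rw [classInner_char_irr, if_neg hne]

/-- Orthonormality of the irreducible characters. -/
theorem classInner_irr (χ ψ : Cfsg.IrrCharacter G) [Decidable (χ = ψ)] :
    Cfsg.classInner (χ : G → ℂ) (ψ : G → ℂ) = if χ = ψ then 1 else 0 := by
  split_ifs with h
  · rw [h]; exact classInner_isIrr_self ψ.2
  · exact classInner_isIrr_ne χ.2 ψ.2 fun h' => h (Subtype.ext h')

theorem classInner_sum_smul_irr (c : Cfsg.IrrCharacter G → ℂ) (s : Finset (Cfsg.IrrCharacter G))
    (ψ : Cfsg.IrrCharacter G) [Decidable (ψ ∈ s)] :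
    Cfsg.classInner (∑ χ ∈ s, c χ • (χ : G → ℂ)) (ψ : G → ℂ) = if ψ ∈ s then c ψ else 0 := by
  classical
  simp only [classInner_sum_left, classInner_smul_left, classInner_irr, mul_ite, mul_one, mul_zero]
  rw [Finset.sum_ite_eq' s ψ c]
  split_ifs <;> rfl

end Inner

/-! ### Linear independence and finiteness -/

section Finite

variable {G : Type u} [Group G] [Finite G]

theorem irr_linearIndependent :
    LinearIndependent ℂ (fun χ : Cfsg.IrrCharacter G => (χ : G → ℂ)) := by
  classical
  haveI := Fintype.ofFinite G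
  rw [linearIndependent_iff']
  intro s c hsum χ hχ
  have := classInner_sum_smul_irr c s χ
  rwa [hsum, classInner_zero_left, if_pos hχ, eq_comm] at this

/-- There are only finitely many irreducible characters. -/
instance finite_irrCharacter : Finite (Cfsg.IrrCharacter G) :=
  (irr_linearIndependent (G := G)).finite

/-- A chosen enumeration of the irreducible characters. -/
noncomputable instance fintypeIrrCharacter : Fintype (Cfsg.IrrCharacter G) := Fintype.ofFinite _

end Finite

/-! ### Decomposition of characters -/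

section Decomposition

variable {G : Type u} [Group G] [Fintype G]

theorem classInner_irr_coeff (c : Cfsg.IrrCharacter G → ℂ) (ψ : Cfsg.IrrCharacter G) :
    Cfsg.classInner (∑ χ : Cfsg.IrrCharacter G, c χ • (χ : G → ℂ)) (ψ : G → ℂ) = c ψ := by
  classical
  rw [classInner_sum_smul_irr, if_pos (Finset.mem_univ ψ)]

theorem exists_nat_coeff {θ : G → ℂ} (h : Cfsg.IsCharacter G θ) :
    ∃ m : Cfsg.IrrCharacter G → ℕ, θ = ∑ χ, (m χ : ℂ) • (χ : G → ℂ) := by
  classical
  obtain ⟨l, rfl⟩ := exists_list_irr h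
  clear h
  induction l with
  | nil => exact ⟨0, by simp⟩
  | cons a l ih =>
    obtain ⟨m, hm⟩ := ih
    refine ⟨fun χ => (if χ = a then 1 else 0) + m χ, ?_⟩
    rw [List.map_cons, List.sum_cons, hm]
    simp [add_smul, Finset.sum_add_distrib]

theorem classInner_character_irr {θ : G → ℂ} (h : Cfsg.IsCharacter G θ) {χ : G → ℂ}
    (hχ : Cfsg.IsIrrCharacter G χ) : ∃ m : ℕ, Cfsg.classInner θ χ = m := by
  obtain ⟨n, ρ, rfl⟩ := h
  obtain ⟨k, σ, -, rfl⟩ := hχ
  exact ⟨_, classInner_char ρ σ⟩

theorem classInner_characters {θ η : G → ℂ} (h : Cfsg.IsCharacter G θ)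
    (hη : Cfsg.IsCharacter G η) : ∃ m : ℕ, Cfsg.classInner θ η = m := by
  obtain ⟨n, ρ, rfl⟩ := h
  obtain ⟨k, σ, rfl⟩ := hη
  exact ⟨_, classInner_char ρ σ⟩

theorem character_expansion {θ : G → ℂ} (h : Cfsg.IsCharacter G θ) :
    θ = ∑ χ : Cfsg.IrrCharacter G, Cfsg.classInner θ (χ : G → ℂ) • (χ : G → ℂ) := by
  obtain ⟨m, hm⟩ := exists_nat_coeff h
  conv_lhs => rw [hm]
  refine Finset.sum_congr rfl fun χ _ => ?_
  rw [hm, classInner_irr_coeff]

end Decomposition

/-! ### Schur's lemma and completeness -/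

section Completeness

variable {G : Type u} [Group G] {V : Type v} [AddCommGroup V] [Module ℂ V] [FiniteDimensional ℂ V]

/-- Schur: an endomorphism commuting with an irreducible representation is a scalar. -/
theorem schur_scalar (ρ : Representation ℂ G V) [ρ.IsIrreducible] (T : V →ₗ[ℂ] V)
    (hT : ∀ g x, T (ρ g x) = ρ g (T x)) : ∃ c : ℂ, T = c • LinearMap.id := by
  let f : IntertwiningMap ρ ρ := ⟨T, fun g => LinearMap.ext fun x => hT g x⟩
  obtain ⟨c, hc⟩ :=
    (IsIrreducible.algebraMap_intertwiningMap_bijective_of_isAlgClosed (ρ := ρ)).2 f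
  refine ⟨c, ?_⟩
  have := congrArg (fun φ : IntertwiningMap ρ ρ => φ.toLinearMap) hc
  simp only [Algebra.algebraMap_eq_smul_one] at this
  exact this.symm

theorem central_scalar (ρ : Representation ℂ G V) [ρ.IsIrreducible] {z : G}
    (hz : z ∈ Subgroup.center G) : ∃ c : ℂ, ρ z = c • LinearMap.id := by
  refine schur_scalar ρ _ fun g x => ?_
  rw [← Module.End.mul_apply, ← map_mul, ← Subgroup.mem_center_iff.1 hz g, map_mul,
    Module.End.mul_apply]

variable [Fintype G]

/-- The operator attached to a function on the group. -/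
noncomputable def avgOp (θ : G → ℂ) (ρ : Representation ℂ G V) : V →ₗ[ℂ] V :=
  ∑ g : G, θ g • ρ g⁻¹

theorem avgOp_comm {θ : G → ℂ} (hθ : Cfsg.IsClassFunction G θ) (ρ : Representation ℂ G V)
    (h : G) (x : V) : avgOp θ ρ (ρ h x) = ρ h (avgOp θ ρ x) := by
  simp only [avgOp, LinearMap.sum_apply, LinearMap.smul_apply, map_sum, map_smul]
  simp only [← Module.End.mul_apply, ← map_mul]
  refine Fintype.sum_bijective (fun g => h⁻¹ * g * h) ?_ _ _ fun g => ?_
  · exact ((Equiv.mulLeft h⁻¹).trans (Equiv.mulRight h)).bijective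
  · rw [show θ (h⁻¹ * g * h) = θ g by simpa using hθ g h⁻¹]
    congr 3
    group

theorem trace_avgOp (θ : G → ℂ) (ρ : Representation ℂ G V) :
    LinearMap.trace ℂ V (avgOp θ ρ) = (Nat.card G : ℂ) * Cfsg.classInner θ ρ.character := by
  rw [avgOp, map_sum, Cfsg.classInner, ← mul_assoc, mul_inv_cancel₀ natCard_ne_zero, one_mul]
  refine Finset.sum_congr rfl fun g _ => ?_
  rw [map_smul, ← char_inv]
  rfl

theorem avgOp_eq_zero_of_irreducible {θ : G → ℂ} (hθ : Cfsg.IsClassFunction G θ)
    (h0 : ∀ χ : Cfsg.IrrCharacter G, Cfsg.classInner θ (χ : G → ℂ) = 0)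
    (ρ : Representation ℂ G V) [ρ.IsIrreducible] : avgOp θ ρ = 0 := by
  obtain ⟨c, hc⟩ := schur_scalar ρ _ (avgOp_comm hθ ρ)
  have ht := trace_avgOp θ ρ
  rw [show Cfsg.classInner θ ρ.character = 0 from h0 (irrOf ρ), mul_zero, hc, map_smul,
    show (LinearMap.id : V →ₗ[ℂ] V) = 1 from rfl, LinearMap.trace_one, smul_eq_mul,
    mul_eq_zero] at ht
  rcases ht with h | h
  · rw [hc, h, zero_smul]
  · exact absurd h (Nat.cast_ne_zero.2 (finrank_pos_of_isIrreducible ρ).ne')

theorem avgOp_eq_zero_aux {θ : G → ℂ} (hθ : Cfsg.IsClassFunction G θ)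
    (h0 : ∀ χ : Cfsg.IrrCharacter G, Cfsg.classInner θ (χ : G → ℂ) = 0) (n : ℕ) :
    ∀ (U : Type v) [AddCommGroup U] [Module ℂ U] [FiniteDimensional ℂ U]
      (ρ : Representation ℂ G U), Module.finrank ℂ U = n → avgOp θ ρ = 0 := by
  induction n using Nat.strong_induction_on with
  | _ n ih =>
    intro U _ _ _ ρ hn
    rcases subsingleton_or_nontrivial U with hU | hU
    · exact Subsingleton.elim _ _
    by_cases hirr : ρ.IsIrreducible
    · exact avgOp_eq_zero_of_irreducible hθ h0 ρ
    obtain ⟨S, T, hST, hS, hT⟩ := exists_split ρ hirr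
    have key : ∀ R : Subrepresentation ρ, Module.finrank ℂ R.toSubmodule < Module.finrank ℂ U →
        ∀ x ∈ R.toSubmodule, avgOp θ ρ x = 0 := by
      intro R hR x hx
      have h := ih _ (hn ▸ hR) _ R.toRepresentation rfl
      have h' := congrArg (fun f => ((f ⟨x, hx⟩ : R.toSubmodule) : U)) h
      simpa [avgOp, Subrepresentation.toRepresentation] using h'
    ext x
    obtain ⟨a, ha, b, hb, rfl⟩ := Submodule.mem_sup.1
      (show x ∈ S.toSubmodule ⊔ T.toSubmodule from hST.sup_eq_top ▸ Submodule.mem_top)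
    rw [map_add, key S hS a ha, key T hT b hb, add_zero, LinearMap.zero_apply]

end Completeness

section Completeness2

variable {G : Type u} [Group G] [Fintype G]

/-- A class function orthogonal to all irreducible characters vanishes. -/
theorem classFunction_eq_zero {θ : G → ℂ} (hθ : Cfsg.IsClassFunction G θ)
    (h0 : ∀ χ : Cfsg.IrrCharacter G, Cfsg.classInner θ (χ : G → ℂ) = 0) : θ = 0 := by
  classical
  have h := avgOp_eq_zero_aux hθ h0 _ _ (Representation.leftRegular ℂ G) rfl
  funext g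
  have h' := congrArg (fun f => (f (MonoidAlgebra.single (1 : G) (1 : ℂ))).coeff g⁻¹) h
  simpa [avgOp, MonoidAlgebra.coeff_sum, Finsupp.single_apply] using h'

/-- Every class function is the combination of irreducible characters given by inner products. -/
theorem classFunction_expansion {θ : G → ℂ} (hθ : Cfsg.IsClassFunction G θ) :
    θ = ∑ χ : Cfsg.IrrCharacter G, Cfsg.classInner θ (χ : G → ℂ) • (χ : G → ℂ) := by
  refine sub_eq_zero.1 (classFunction_eq_zero ?_ fun χ => ?_)
  · intro g h
    simp only [Pi.sub_apply, Finset.sum_apply, Pi.smul_apply]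
    rw [hθ g h]
    congr 1
    exact Finset.sum_congr rfl fun χ _ => by rw [isClassFunction_of_isIrr χ.2 g h]
  · rw [classInner_sub_left, classInner_irr_coeff, sub_self]

theorem classFunction_ext {θ η : G → ℂ} (hθ : Cfsg.IsClassFunction G θ)
    (hη : Cfsg.IsClassFunction G η)
    (h : ∀ χ : Cfsg.IrrCharacter G,
      Cfsg.classInner θ (χ : G → ℂ) = Cfsg.classInner η (χ : G → ℂ)) : θ = η := by
  rw [classFunction_expansion hθ, classFunction_expansion hη]
  simp only [h]

/-- Parseval's identity. -/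
theorem classInner_eq_sum {θ : G → ℂ} (hθ : Cfsg.IsClassFunction G θ) (η : G → ℂ) :
    Cfsg.classInner θ η = ∑ χ : Cfsg.IrrCharacter G,
      Cfsg.classInner θ (χ : G → ℂ) * conj (Cfsg.classInner η (χ : G → ℂ)) := by
  conv_lhs => rw [classFunction_expansion hθ]
  rw [classInner_sum_left]
  refine Finset.sum_congr rfl fun χ _ => ?_
  rw [classInner_smul_left, ← classInner_conj_symm]

/-- A class function whose multiplicities are natural numbers is a character. -/
theorem isCharacter_of_classInner {θ : G → ℂ} (hθ : Cfsg.IsClassFunction G θ)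
    (h : ∀ χ : Cfsg.IrrCharacter G, ∃ m : ℕ, Cfsg.classInner θ (χ : G → ℂ) = m) :
    Cfsg.IsCharacter G θ := by
  choose m hm using h
  rw [classFunction_expansion hθ]
  simp only [hm]
  exact isCharacter_sum _ _ fun χ _ => isCharacter_natCast_smul (isCharacter_of_isIrr χ.2) _

end Completeness2

/-! ### Columns -/

section Columns

variable {G : Type u} [Group G] [Fintype G]

/-- Column orthogonality. -/
theorem sum_irr_mul_conj (g h : G) :
    ∑ χ : Cfsg.IrrCharacter G, (χ : G → ℂ) g * conj ((χ : G → ℂ) h) =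
      (Nat.card {x : G // x * g * x⁻¹ = h} : ℂ) := by
  classical
  set δ : G → ℂ := fun y => ∑ x : G, if x * y * x⁻¹ = h then 1 else 0 with hδ
  have hcl : Cfsg.IsClassFunction G δ := by
    intro y c
    simp only [hδ]
    refine Fintype.sum_bijective (· * c) (Group.mulRight_bijective c) _ _ fun x => ?_
    simp [mul_assoc]
  have hinner : ∀ χ : Cfsg.IrrCharacter G,
      Cfsg.classInner δ (χ : G → ℂ) = conj ((χ : G → ℂ) h) := by
    intro χ
    simp only [hδ, Cfsg.classInner, Finset.sum_mul]
    rw [Finset.sum_comm]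
    have : ∀ x : G, (∑ y : G, (if x * y * x⁻¹ = h then (1 : ℂ) else 0) * conj ((χ : G → ℂ) y)) =
        conj ((χ : G → ℂ) h) := by
      intro x
      rw [Finset.sum_eq_single (x⁻¹ * h * x)]
      · rw [if_pos (by group), one_mul]
        congr 1
        simpa using isClassFunction_of_isIrr χ.2 h x⁻¹
      · intro y _ hy
        rw [if_neg, zero_mul]
        rintro rfl
        exact hy (by group)
      · intro hh; exact absurd (Finset.mem_univ _) hh
    rw [Finset.sum_congr rfl fun x _ => this x, Finset.sum_const, Finset.card_univ, nsmul_eq_mul,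
      ← mul_assoc, Nat.card_eq_fintype_card, inv_mul_cancel₀ (by simp), one_mul]
  have := congrFun (classFunction_expansion hcl) g
  simp only [hinner, Finset.sum_apply, Pi.smul_apply, smul_eq_mul] at this
  rw [Nat.card_eq_fintype_card, Fintype.card_subtype]
  simp only [hδ, Finset.sum_boole] at this
  rw [this]
  exact Finset.sum_congr rfl fun χ _ => mul_comm _ _

theorem sum_irr_mul_conj_of_isConj {g h : G} (hgh : IsConj g h) :
    ∑ χ : Cfsg.IrrCharacter G, (χ : G → ℂ) g * conj ((χ : G → ℂ) h) =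
      (Nat.card (Subgroup.centralizer ({g} : Set G)) : ℂ) := by
  obtain ⟨c, hc⟩ := isConj_iff.1 hgh
  rw [sum_irr_mul_conj]
  congr 1
  refine Nat.card_congr ⟨fun x => ⟨c⁻¹ * x.1, ?_⟩, fun y => ⟨c * y.1, ?_⟩, fun x => ?_, fun y => ?_⟩
  · rw [Subgroup.mem_centralizer_singleton_iff]
    have hx : x.1 * g * x.1⁻¹ = c * g * c⁻¹ := x.2.trans hc.symm
    calc c⁻¹ * x.1 * g = c⁻¹ * (x.1 * g * x.1⁻¹) * x.1 := by group
      _ = g * (c⁻¹ * x.1) := by rw [hx]; group
  · have hy := Subgroup.mem_centralizer_singleton_iff.1 y.2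
    calc c * y.1 * g * (c * y.1)⁻¹ = c * (y.1 * g) * y.1⁻¹ * c⁻¹ := by group
      _ = c * g * c⁻¹ := by rw [hy]; group
      _ = h := hc
  · exact Subtype.ext (by group)
  · exact Subtype.ext (by group)

theorem sum_irr_mul_conj_of_not_isConj {g h : G} (hgh : ¬ IsConj g h) :
    ∑ χ : Cfsg.IrrCharacter G, (χ : G → ℂ) g * conj ((χ : G → ℂ) h) = 0 := by
  rw [sum_irr_mul_conj]
  haveI : IsEmpty {x : G // x * g * x⁻¹ = h} := ⟨fun x => hgh (isConj_iff.2 ⟨x.1, x.2⟩)⟩
  simp

theorem isConj_of_irr_eq {g h : G}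
    (H : ∀ χ : Cfsg.IrrCharacter G, (χ : G → ℂ) g = (χ : G → ℂ) h) : IsConj g h := by
  by_contra hne
  have h1 := sum_irr_mul_conj_of_not_isConj hne
  simp only [← H] at h1
  rw [sum_irr_mul_conj_of_isConj (IsConj.refl g)] at h1
  exact Nat.cast_ne_zero.2 Nat.card_pos.ne' h1

theorem sum_degree_sq :
    ∑ χ : Cfsg.IrrCharacter G, (χ : G → ℂ) 1 ^ 2 = (Nat.card G : ℂ) := by
  have h := sum_irr_mul_conj (1 : G) 1
  rw [Nat.card_congr (Equiv.subtypeUnivEquiv fun x : G => by group)] at h
  rw [← h]
  refine Finset.sum_congr rfl fun χ _ => ?_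
  obtain ⟨n, -, hn⟩ := exists_degree_pos χ.2
  rw [sq, hn, Complex.conj_natCast]

theorem sum_degree_mul (g : G) [Decidable (g = 1)] :
    ∑ χ : Cfsg.IrrCharacter G, (χ : G → ℂ) 1 * (χ : G → ℂ) g =
      if g = 1 then (Nat.card G : ℂ) else 0 := by
  split_ifs with h
  · rw [h, ← sum_degree_sq]
    exact Finset.sum_congr rfl fun χ _ => (sq _).symm
  · rw [← sum_irr_mul_conj_of_not_isConj (g := g) (h := 1) fun hc => h (isConj_one_right.1 hc.symm)]
    refine Finset.sum_congr rfl fun χ _ => ?_
    obtain ⟨n, -, hn⟩ := exists_degree_pos χ.2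
    rw [hn, Complex.conj_natCast, mul_comm]

end Columns

end CfsgLib.Characters
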