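import Cfsg.Prelude.Def_Characters
import Mathlib.RepresentationTheory.Maschke
import Mathlib.RepresentationTheory.Semisimple
import Mathlib.LinearAlgebra.Eigenspace.Semisimple
import Mathlib.LinearAlgebra.Semisimple
import Mathlib.LinearAlgebra.Trace
import Mathlib.RingTheory.IntegralClosure.IsIntegralClosure.Basic
import Mathlib.FieldTheory.Separable
import Mathlib.Analysis.Complex.Polynomial.Basic

/-!
# Representations and characters: basic facts

Transport of representations to coordinate spaces, closure properties of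
`Cfsg.IsCharacter`, complete reducibility, eigenbases of single group elements and the
resulting facts on character values.
-/

set_option autoImplicit false
set_option linter.style.haveILetI false
set_option linter.unusedSectionVars false

namespace CfsgLib.Characters

open Representation
open scoped ComplexConjugate

universe u v w

/-! ### Transport -/

section Transport

variable {k : Type*} [Field k] {G : Type u} [Monoid G] {V : Type v} [AddCommGroup V] [Module k V]
  {W : Type w} [AddCommGroup W] [Module k W]

/-- A representation moved along a linear equivalence. -/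
noncomputable def transport (ρ : Representation k G V) (e : V ≃ₗ[k] W) : Representation k G W where
  toFun g := e.toLinearMap ∘ₗ ρ g ∘ₗ e.symm.toLinearMap
  map_one' := by ext x; simp
  map_mul' g h := by ext x; simp

theorem transport_apply (ρ : Representation k G V) (e : V ≃ₗ[k] W) (g : G) (x : W) :
    transport ρ e g x = e (ρ g (e.symm x)) := rfl

/-- A representation is equivalent to each of its transports. -/
noncomputable def transportEquiv (ρ : Representation k G V) (e : V ≃ₗ[k] W) :
    ρ.Equiv (transport ρ e) :=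
  Representation.Equiv.mk e fun g => by ext x; simp [transport_apply]

variable {ρ : Representation k G V} {σ : Representation k G W}

theorem equiv_map (φ : ρ.Equiv σ) (g : G) (x : V) :
    φ.toLinearEquiv (ρ g x) = σ g (φ.toLinearEquiv x) :=
  LinearMap.congr_fun (φ.toIntertwiningMap.isIntertwining' g) x

/-- The lattices of subrepresentations of equivalent representations are isomorphic. -/
noncomputable def subrepOrderIso (φ : ρ.Equiv σ) :
    Subrepresentation ρ ≃o Subrepresentation σ where
  toFun S := ⟨S.toSubmodule.map φ.toLinearEquiv.toLinearMap, by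
    rintro g _ ⟨x, hx, rfl⟩
    exact ⟨ρ g x, S.apply_mem_toSubmodule g hx, equiv_map φ g x⟩⟩
  invFun T := ⟨T.toSubmodule.comap φ.toLinearEquiv.toLinearMap, fun g x hx => by
    have h := T.apply_mem_toSubmodule g (Submodule.mem_comap.1 hx)
    exact Submodule.mem_comap.2 ((equiv_map φ g x).symm ▸ h)⟩
  left_inv S := Subrepresentation.toSubmodule_injective
    (Submodule.comap_map_eq_of_injective φ.toLinearEquiv.injective _)
  right_inv T := Subrepresentation.toSubmodule_injective
    (Submodule.map_comap_eq_of_surjective φ.toLinearEquiv.surjective _)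
  map_rel_iff' := by
    intro S T
    exact Submodule.map_le_map_iff_of_injective φ.toLinearEquiv.injective _ _

theorem isIrreducible_congr (φ : ρ.Equiv σ) : ρ.IsIrreducible ↔ σ.IsIrreducible :=
  (subrepOrderIso φ).isSimpleOrder_iff

theorem finrank_congr (φ : ρ.Equiv σ) : Module.finrank k V = Module.finrank k W :=
  φ.toLinearEquiv.finrank_eq

theorem nontrivial_of_isIrreducible (ρ : Representation k G V) [ρ.IsIrreducible] :
    Nontrivial V := by
  by_contra h
  rw [not_nontrivial_iff_subsingleton] at h
  obtain ⟨S, T, hST⟩ := exists_pair_ne (Subrepresentation ρ)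
  exact hST (Subrepresentation.toSubmodule_injective (Subsingleton.elim _ _))

theorem finrank_pos_of_isIrreducible (ρ : Representation k G V) [ρ.IsIrreducible]
    [FiniteDimensional k V] : 0 < Module.finrank k V :=
  haveI := nontrivial_of_isIrreducible ρ
  Module.finrank_pos

/-- Criterion for irreducibility through invariant subspaces. -/
theorem isIrreducible_of_forall (ρ : Representation k G V) [Nontrivial V]
    (h : ∀ U : Submodule k V, (∀ g x, x ∈ U → ρ g x ∈ U) → U = ⊥ ∨ U = ⊤) : ρ.IsIrreducible where
  exists_pair_ne := ⟨⊥, ⊤, fun hbt => by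
    have : (⊥ : Submodule k V) = ⊤ := congrArg Subrepresentation.toSubmodule hbt
    exact bot_ne_top this⟩
  eq_bot_or_eq_top S := (h S.toSubmodule fun g x hx => S.apply_mem_toSubmodule g hx).imp
    (fun hS => Subrepresentation.toSubmodule_injective hS)
    (fun hS => Subrepresentation.toSubmodule_injective hS)

theorem isIrreducible_of_finrank_eq_one (ρ : Representation k G V) (h : Module.finrank k V = 1) :
    ρ.IsIrreducible := by
  haveI : Nontrivial V := Module.nontrivial_of_finrank_eq_succ h
  exact isIrreducible_of_forall ρ fun U _ =>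
    (is_simple_module_of_finrank_eq_one h).eq_bot_or_eq_top U

theorem char_transport [FiniteDimensional k V] (ρ : Representation k G V) (e : V ≃ₗ[k] W) :
    (transport ρ e).character = ρ.character :=
  (Representation.char_iso (transportEquiv ρ e)).symm

theorem char_prod [FiniteDimensional k V] [FiniteDimensional k W] (ρ : Representation k G V)
    (σ : Representation k G W) : (ρ.prod σ).character = ρ.character + σ.character := by
  funext g
  exact LinearMap.trace_prodMap' (ρ g) (σ g)

end Transport

/-! ### Complete reducibility -/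

section Reducible

variable {k : Type*} [Field k] {G : Type u} [Group G] {V : Type v} [AddCommGroup V] [Module k V]

/-- A complementary pair of subrepresentations gives a product decomposition. -/
noncomputable def prodEquivOfCompl (ρ : Representation k G V) (S T : Subrepresentation ρ)
    (h : IsCompl S.toSubmodule T.toSubmodule) :
    (S.toRepresentation.prod T.toRepresentation).Equiv ρ :=
  Representation.Equiv.mk (Submodule.prodEquivOfIsCompl _ _ h) fun g => by
    refine LinearMap.ext fun x => ?_
    simp [Subrepresentation.toRepresentation]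

variable [Finite G] [NeZero (Nat.card G : k)]

/-- Maschke: every subrepresentation has an invariant complement. -/
theorem exists_compl (ρ : Representation k G V) (S : Subrepresentation ρ) :
    ∃ T : Subrepresentation ρ, IsCompl S.toSubmodule T.toSubmodule := by
  obtain ⟨T, hd, hc⟩ := exists_isCompl S
  exact ⟨T, disjoint_iff.2 (congrArg Subrepresentation.toSubmodule hd.eq_bot),
    codisjoint_iff.2 (congrArg Subrepresentation.toSubmodule hc.eq_top)⟩

/-- A nonzero reducible representation splits into two smaller invariant pieces. -/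
theorem exists_split (ρ : Representation k G V) [FiniteDimensional k V] [Nontrivial V]
    (h : ¬ ρ.IsIrreducible) :
    ∃ S T : Subrepresentation ρ, IsCompl S.toSubmodule T.toSubmodule ∧
      Module.finrank k S.toSubmodule < Module.finrank k V ∧
      Module.finrank k T.toSubmodule < Module.finrank k V := by
  by_contra hne
  push Not at hne
  refine h (isIrreducible_of_forall ρ fun U hU => ?_)
  by_contra hU'
  push Not at hU'
  obtain ⟨T, hT⟩ := exists_compl ρ ⟨U, fun g x hx => hU g x hx⟩
  have h1 : Module.finrank k U < Module.finrank k V := Submodule.finrank_lt hU'.2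
  have h2 := Submodule.finrank_add_eq_of_isCompl hT
  have h3 : 0 < Module.finrank k U := Submodule.one_le_finrank_iff.2 hU'.1
  have h4 := hne _ T hT h1
  simp only at h2 h4
  omega

/-- A nonzero representation has an irreducible subrepresentation. -/
theorem exists_irreducible_subrep (ρ : Representation k G V) [FiniteDimensional k V]
    [Nontrivial V] : ∃ S : Subrepresentation ρ, S.toRepresentation.IsIrreducible := by
  classical
  have hex : ∃ n, ∃ S : Subrepresentation ρ, 0 < Module.finrank k S.toSubmodule ∧
      Module.finrank k S.toSubmodule = n :=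
    ⟨_, ⊤, by rw [show (⊤ : Subrepresentation ρ).toSubmodule = ⊤ from rfl, finrank_top]
              exact Module.finrank_pos, rfl⟩
  obtain ⟨S, hpos, hS⟩ := Nat.find_spec hex
  refine ⟨S, ?_⟩
  haveI : Nontrivial S.toSubmodule := Module.finrank_pos_iff.1 hpos
  refine isIrreducible_of_forall _ fun U hU => ?_
  rcases Nat.eq_zero_or_pos (Module.finrank k U) with h0 | h0
  · exact Or.inl (Submodule.finrank_eq_zero.1 h0)
  · refine Or.inr (Submodule.eq_top_of_finrank_eq ?_)
    have hle := U.finrank_le
    have hmap : Module.finrank k (U.map S.toSubmodule.subtype) = Module.finrank k U :=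
      (Submodule.equivMapOfInjective _ S.toSubmodule.injective_subtype U).finrank_eq.symm
    have := Nat.find_min' hex (m := Module.finrank k U)
      ⟨⟨U.map S.toSubmodule.subtype, by
        rintro g _ ⟨x, hx, rfl⟩
        exact ⟨_, hU g x hx, rfl⟩⟩, by rw [hmap]; exact h0, hmap⟩
    omega

end Reducible

/-! ### Characters as functions -/

section IsCharacter

variable {G : Type u} [Group G] {V : Type v} [AddCommGroup V] [Module ℂ V] [FiniteDimensional ℂ V]

theorem isCharacter_character (ρ : Representation ℂ G V) : Cfsg.IsCharacter G ρ.character :=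
  ⟨_, transport ρ (Module.finBasis ℂ V).equivFun, char_transport ρ _⟩

theorem isIrrCharacter_character (ρ : Representation ℂ G V) [h : ρ.IsIrreducible] :
    Cfsg.IsIrrCharacter G ρ.character :=
  ⟨_, transport ρ (Module.finBasis ℂ V).equivFun, (isIrreducible_congr (transportEquiv ρ _)).1 h,
    char_transport ρ _⟩

/-- The irreducible character of an irreducible representation. -/
noncomputable def irrOf (ρ : Representation ℂ G V) [ρ.IsIrreducible] : Cfsg.IrrCharacter G :=
  ⟨ρ.character, isIrrCharacter_character ρ⟩

theorem isCharacter_of_isIrr {χ : G → ℂ} (h : Cfsg.IsIrrCharacter G χ) :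
    Cfsg.IsCharacter G χ := by
  obtain ⟨n, ρ, -, hρ⟩ := h
  exact ⟨n, ρ, hρ⟩

theorem isCharacter_zero : Cfsg.IsCharacter G (0 : G → ℂ) :=
  ⟨0, 1, by funext g; simp [Representation.character]⟩

theorem isCharacter_add {χ ψ : G → ℂ} (h₁ : Cfsg.IsCharacter G χ) (h₂ : Cfsg.IsCharacter G ψ) :
    Cfsg.IsCharacter G (χ + ψ) := by
  obtain ⟨n, ρ, rfl⟩ := h₁
  obtain ⟨m, σ, rfl⟩ := h₂
  rw [← char_prod]
  exact isCharacter_character _

theorem isCharacter_mul {χ ψ : G → ℂ} (h₁ : Cfsg.IsCharacter G χ) (h₂ : Cfsg.IsCharacter G ψ) :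
    Cfsg.IsCharacter G (χ * ψ) := by
  obtain ⟨n, ρ, rfl⟩ := h₁
  obtain ⟨m, σ, rfl⟩ := h₂
  rw [← Representation.char_tensor]
  exact isCharacter_character _

theorem isCharacter_nsmul {χ : G → ℂ} (h : Cfsg.IsCharacter G χ) (m : ℕ) :
    Cfsg.IsCharacter G (m • χ) := by
  induction m with
  | zero => rw [zero_nsmul]; exact isCharacter_zero
  | succ m ih => rw [succ_nsmul]; exact isCharacter_add ih h

theorem isCharacter_natCast_smul {χ : G → ℂ} (h : Cfsg.IsCharacter G χ) (m : ℕ) :
    Cfsg.IsCharacter G ((m : ℂ) • χ) := by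
  rw [Nat.cast_smul_eq_nsmul]; exact isCharacter_nsmul h m

theorem isCharacter_sum {ι : Type*} (s : Finset ι) (f : ι → G → ℂ)
    (h : ∀ i ∈ s, Cfsg.IsCharacter G (f i)) : Cfsg.IsCharacter G (∑ i ∈ s, f i) :=
  Finset.sum_induction f (Cfsg.IsCharacter G) (fun _ _ => isCharacter_add) isCharacter_zero h

theorem isCharacter_comp {H : Type w} [Group H] (f : H →* G) {χ : G → ℂ}
    (h : Cfsg.IsCharacter G χ) : Cfsg.IsCharacter H (fun x => χ (f x)) := by
  obtain ⟨n, ρ, rfl⟩ := h
  exact ⟨n, ρ.comp f, rfl⟩

theorem isCharacter_restrict (H : Subgroup G) {χ : G → ℂ} (h : Cfsg.IsCharacter G χ) :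
    Cfsg.IsCharacter H (fun x : H => χ x) :=
  isCharacter_comp H.subtype h

theorem isClassFunction_of_isCharacter {χ : G → ℂ} (h : Cfsg.IsCharacter G χ) :
    Cfsg.IsClassFunction G χ := by
  obtain ⟨n, ρ, rfl⟩ := h
  exact fun g x => Representation.char_conj ρ g x

theorem isClassFunction_of_isIrr {χ : G → ℂ} (h : Cfsg.IsIrrCharacter G χ) :
    Cfsg.IsClassFunction G χ :=
  isClassFunction_of_isCharacter (isCharacter_of_isIrr h)

theorem classFunction_mul_comm {θ : G → ℂ} (h : Cfsg.IsClassFunction G θ) (x y : G) :
    θ (x * y) = θ (y * x) := by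
  have := h (y * x) x
  simpa [mul_assoc] using this

theorem classFunction_isConj {θ : G → ℂ} (h : Cfsg.IsClassFunction G θ) {x y : G}
    (hxy : IsConj x y) : θ x = θ y := by
  obtain ⟨c, rfl⟩ := isConj_iff.1 hxy
  exact (h x c).symm

theorem exists_degree {χ : G → ℂ} (h : Cfsg.IsCharacter G χ) : ∃ n : ℕ, χ 1 = n := by
  obtain ⟨n, ρ, rfl⟩ := h
  exact ⟨_, Representation.char_one ρ⟩

theorem exists_degree_pos {χ : G → ℂ} (h : Cfsg.IsIrrCharacter G χ) :
    ∃ n : ℕ, 0 < n ∧ χ 1 = n := by
  obtain ⟨n, ρ, hρ, rfl⟩ := h
  exact ⟨_, finrank_pos_of_isIrreducible ρ, Representation.char_one ρ⟩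

theorem irr_one_ne_zero {χ : G → ℂ} (h : Cfsg.IsIrrCharacter G χ) : χ 1 ≠ 0 := by
  obtain ⟨n, hn, hχ⟩ := exists_degree_pos h
  rw [hχ]
  exact_mod_cast hn.ne'

theorem irr_ne_zero {χ : G → ℂ} (h : Cfsg.IsIrrCharacter G χ) : χ ≠ 0 :=
  fun h0 => irr_one_ne_zero h (congrFun h0 1)

theorem char_eq_sum_irr_aux [Finite G] (n : ℕ) : ∀ (V : Type v) [AddCommGroup V] [Module ℂ V]
    [FiniteDimensional ℂ V] (ρ : Representation ℂ G V), Module.finrank ℂ V = n →
    ∃ l : List (Cfsg.IrrCharacter G), ρ.character = (l.map Subtype.val).sum := by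
  induction n using Nat.strong_induction_on with
  | _ n ih =>
    intro V _ _ _ ρ hn
    rcases subsingleton_or_nontrivial V with hV | hV
    · refine ⟨[], funext fun g => ?_⟩
      simp [Representation.character, Subsingleton.elim (ρ g) 0]
    by_cases hirr : ρ.IsIrreducible
    · exact ⟨[irrOf ρ], by simp [irrOf]⟩
    obtain ⟨S, T, hST, hS, hT⟩ := exists_split ρ hirr
    obtain ⟨l₁, h₁⟩ := ih _ (hn ▸ hS) _ S.toRepresentation rfl
    obtain ⟨l₂, h₂⟩ := ih _ (hn ▸ hT) _ T.toRepresentation rfl
    refine ⟨l₁ ++ l₂, ?_⟩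
    rw [← Representation.char_iso (prodEquivOfCompl ρ S T hST), char_prod, h₁, h₂,
      List.map_append, List.sum_append]

/-- Every character is a sum of irreducible characters. -/
theorem exists_list_irr [Finite G] {χ : G → ℂ} (h : Cfsg.IsCharacter G χ) :
    ∃ l : List (Cfsg.IrrCharacter G), χ = (l.map Subtype.val).sum := by
  obtain ⟨n, ρ, rfl⟩ := h
  exact char_eq_sum_irr_aux _ _ ρ rfl

end IsCharacter

/-! ### Eigenbases and values -/

section Values

variable {G : Type u} [Group G] [Finite G] {V : Type v} [AddCommGroup V] [Module ℂ V]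
  [FiniteDimensional ℂ V] (ρ : Representation ℂ G V)

/-- Each element acts diagonally, with roots of unity as eigenvalues. -/
theorem exists_eigenbasis (g : G) :
    ∃ (b : Module.Basis (Fin (Module.finrank ℂ V)) ℂ V) (μ : Fin (Module.finrank ℂ V) → ℂ),
      ∀ i, ρ g (b i) = μ i • b i ∧ μ i ^ orderOf g = 1 := by
  classical
  set m := orderOf g
  have hm : 0 < m := orderOf_pos g
  set T : Module.End ℂ V := ρ g
  have hpow : T ^ m = 1 := by rw [← map_pow, pow_orderOf_eq_one, map_one]
  have hsep : (Polynomial.X ^ m - Polynomial.C (1 : ℂ)).Separable :=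
    Polynomial.separable_X_pow_sub_C 1 (by exact_mod_cast hm.ne') one_ne_zero
  have hss : T.IsSemisimple :=
    Module.End.isSemisimple_of_squarefree_aeval_eq_zero hsep.squarefree (by simp [hpow])
  have hint : DirectSum.IsInternal T.eigenspace :=
    (DirectSum.isInternal_submodule_iff_iSupIndep_and_iSup_eq_top _).2
      ⟨T.eigenspaces_iSupIndep, hss.iSup_eigenspace_eq_top⟩
  set b := hint.collectedBasis fun μ : ℂ => Module.finBasis ℂ (T.eigenspace μ)
  haveI : Fintype (Σ μ : ℂ, Fin (Module.finrank ℂ (T.eigenspace μ))) :=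
    FiniteDimensional.fintypeBasisIndex b
  let e := Fintype.equivFinOfCardEq (Module.finrank_eq_card_basis b).symm
  refine ⟨b.reindex e, fun i => (e.symm i).1, fun i => ?_⟩
  have hT : T ((b.reindex e) i) = (e.symm i).1 • (b.reindex e) i := by
    rw [Module.Basis.reindex_apply]
    exact Module.End.mem_eigenspace_iff.1
      (hint.collectedBasis_mem (fun μ : ℂ => Module.finBasis ℂ (T.eigenspace μ)) (e.symm i))
  refine ⟨hT, ?_⟩
  have hk : ∀ j : ℕ, (T ^ j) ((b.reindex e) i) = (e.symm i).1 ^ j • (b.reindex e) i := by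
    intro j
    induction j with
    | zero => simp
    | succ j ihj => rw [pow_succ', Module.End.mul_apply, ihj, map_smul, hT, smul_smul, ← pow_succ]
  have h1 := hk m
  rw [hpow, Module.End.one_apply] at h1
  have h2 : ((e.symm i).1 ^ m - 1) • (b.reindex e) i = 0 := by
    rw [sub_smul, one_smul, ← h1, sub_self]
  exact sub_eq_zero.1 ((smul_eq_zero.1 h2).resolve_right ((b.reindex e).ne_zero i))

/-- The eigenvalue form of a character value and of its value at the inverse. -/
theorem exists_eigenvalues (g : G) :
    ∃ μ : Fin (Module.finrank ℂ V) → ℂ, (∀ i, μ i ^ orderOf g = 1) ∧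
      (∀ j : ℕ, ρ.character (g ^ j) = ∑ i, μ i ^ j) ∧
      ρ.character g⁻¹ = ∑ i, conj (μ i) := by
  obtain ⟨b, μ, h⟩ := exists_eigenbasis ρ g
  have hj : ∀ j : ℕ, ρ.character (g ^ j) = ∑ i, μ i ^ j := by
    intro j
    have hk : ∀ i, ρ (g ^ j) (b i) = μ i ^ j • b i := by
      intro i
      induction j with
      | zero => simp
      | succ j ihj =>
        rw [pow_succ', map_mul, Module.End.mul_apply, ihj, map_smul, (h i).1, smul_smul,
          ← pow_succ]
    rw [Representation.character, LinearMap.trace_eq_matrix_trace ℂ b, Matrix.trace]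
    refine Finset.sum_congr rfl fun i _ => ?_
    rw [Matrix.diag, LinearMap.toMatrix_apply, hk i]; simp
  refine ⟨μ, fun i => (h i).2, hj, ?_⟩
  have hinv : g⁻¹ = g ^ (orderOf g - 1) := by
    refine inv_eq_of_mul_eq_one_right ?_
    rw [← pow_succ', Nat.sub_add_cancel (orderOf_pos g), pow_orderOf_eq_one]
  rw [hinv, hj]
  refine Finset.sum_congr rfl fun i _ => ?_
  have hn : ‖μ i‖ = 1 :=
    Complex.norm_eq_one_of_pow_eq_one (h i).2 (orderOf_pos g).ne'
  rw [← Complex.inv_eq_conj hn]
  refine eq_inv_of_mul_eq_one_left ?_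
  rw [← pow_succ, Nat.sub_add_cancel (orderOf_pos g), (h i).2]

theorem char_inv (g : G) : ρ.character g⁻¹ = conj (ρ.character g) := by
  obtain ⟨μ, -, hj, hinv⟩ := exists_eigenvalues ρ g
  have := hj 1
  rw [pow_one] at this
  rw [hinv, this, map_sum]
  simp

theorem char_isIntegral (g : G) : IsIntegral ℤ (ρ.character g) := by
  obtain ⟨μ, hμ, hj, -⟩ := exists_eigenvalues ρ g
  have := hj 1
  rw [pow_one] at this
  rw [this]
  refine IsIntegral.sum _ fun i _ => ?_
  rw [pow_one]
  exact IsIntegral.of_pow (orderOf_pos g) (by rw [hμ i]; exact isIntegral_one)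

theorem norm_char_le (g : G) : ‖ρ.character g‖ ≤ (Module.finrank ℂ V : ℝ) := by
  obtain ⟨μ, hμ, hj, -⟩ := exists_eigenvalues ρ g
  have := hj 1
  rw [pow_one] at this
  rw [this]
  refine (norm_sum_le _ _).trans ?_
  simp [Complex.norm_eq_one_of_pow_eq_one (hμ _) (orderOf_pos g).ne']

omit ρ in
theorem character_inv {χ : G → ℂ} (h : Cfsg.IsCharacter G χ) (g : G) : χ g⁻¹ = conj (χ g) := by
  obtain ⟨n, ρ, rfl⟩ := h
  exact char_inv ρ g

omit ρ in
theorem character_isIntegral {χ : G → ℂ} (h : Cfsg.IsCharacter G χ) (g : G) :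
    IsIntegral ℤ (χ g) := by
  obtain ⟨n, ρ, rfl⟩ := h
  exact char_isIntegral ρ g

omit ρ in
theorem isCharacter_conj {χ : G → ℂ} (h : Cfsg.IsCharacter G χ) :
    Cfsg.IsCharacter G (fun g => conj (χ g)) := by
  obtain ⟨n, ρ, rfl⟩ := h
  have : (fun g => conj (ρ.character g)) = ρ.dual.character := by
    funext g
    rw [Representation.char_dual, char_inv]
  rw [this]
  exact isCharacter_character _

end Values

end CfsgLib.Characters
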