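import Cfsg.Agent.Characters.BrauerInduction

/-!
# Degree bounds, nilpotent groups are M-groups, Artin's induction theorem
-/

set_option autoImplicit false
set_option linter.style.haveILetI false
set_option linter.unusedSectionVars false

namespace CfsgLib.Characters

universe u v

section

variable {G : Type u} [Group G] [Fintype G]

/-- A constituent has at most the degree of the character. -/
theorem degree_constituent_le {F χ : G → ℂ} (hF : Cfsg.IsCharacter G F)
    (hχ : Cfsg.IsIrrCharacter G χ) (hne : Cfsg.classInner F χ ≠ 0) {a b : ℕ}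
    (ha : F 1 = a) (hb : χ 1 = b) : b ≤ a := by
  classical
  obtain ⟨m, hm⟩ := exists_nat_coeff hF
  choose d _hdpos hd using fun ψ : Cfsg.IrrCharacter G => exists_degree_pos ψ.2
  let χ' : Cfsg.IrrCharacter G := ⟨χ, hχ⟩
  have hsum : a = ∑ ψ, m ψ * d ψ := by
    apply Nat.cast_injective (R := ℂ)
    rw [← ha, hm, Finset.sum_apply]
    push_cast
    exact Finset.sum_congr rfl fun ψ _ => by rw [Pi.smul_apply, smul_eq_mul, hd]
  have hpos : m χ' ≠ 0 := fun h0 => hne (by
    rw [hm]
    exact (classInner_irr_coeff (fun ψ => (m ψ : ℂ)) χ').trans (by rw [h0, Nat.cast_zero]))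
  have hbd : d χ' = b := Nat.cast_injective (R := ℂ) ((hd χ').symm.trans hb)
  rw [hsum, ← hbd]
  exact (Nat.le_mul_of_pos_left _ (Nat.pos_of_ne_zero hpos)).trans
    (Finset.single_le_sum (f := fun ψ => m ψ * d ψ) (fun _ _ => Nat.zero_le _) (Finset.mem_univ χ'))

/-- The degree is at most the index of every abelian subgroup. -/
theorem finrank_le_index_of_abelian {V : Type v} [AddCommGroup V] [Module ℂ V]
    [FiniteDimensional ℂ V] (ρ : Representation ℂ G V) [ρ.IsIrreducible] (A : Subgroup G)
    (hA : ∀ a ∈ A, ∀ b ∈ A, a * b = b * a) : Module.finrank ℂ V ≤ A.index := by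
  classical
  haveI : IsMulCommutative A := ⟨⟨fun a b => Subtype.ext (hA a a.2 b b.2)⟩⟩
  haveI := Fintype.ofFinite A
  have hχ := isIrrCharacter_character ρ
  obtain ⟨m, hm⟩ := exists_nat_coeff (isCharacter_restrict A (isCharacter_of_isIrr hχ))
  obtain ⟨l, hl⟩ : ∃ l, m l ≠ 0 := by
    by_contra h
    push Not at h
    have h1 := congrFun hm 1
    simp [h, (finrank_pos_of_isIrreducible ρ).ne'] at h1
  obtain ⟨n, σ, hσ, hσl⟩ := l.2
  have hl1 : (l : A → ℂ) 1 = 1 := by
    rw [← hσl, Representation.char_one,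
      Representation.IsIrreducible.finrank_eq_one_of_isMulCommutative σ, Nat.cast_one]
  refine degree_constituent_le (isCharacter_indFun A (isCharacter_of_isIrr l.2)) hχ ?_
    (by rw [indFun_one, hl1, mul_one]) (Representation.char_one ρ)
  rw [classInner_indFun A _ (isClassFunction_of_isIrr hχ), classInner_conj_symm, hm,
    classInner_irr_coeff, Complex.conj_natCast]
  exact_mod_cast hl

/-- An inducing character of an irreducible character is irreducible. -/
theorem isIrr_of_indFun_irr (T : Subgroup G) [Fintype T] {ψ : T → ℂ} (hψ : Cfsg.IsCharacter T ψ)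
    (hχ : Cfsg.IsIrrCharacter G (Cfsg.indFun T ψ)) : Cfsg.IsIrrCharacter T ψ := by
  classical
  obtain ⟨m, hm⟩ := exists_nat_coeff hψ
  obtain ⟨φ, hφ⟩ : ∃ φ, m φ ≠ 0 := by
    by_contra h
    push Not at h
    refine irr_ne_zero hχ ?_
    rw [show ψ = 0 by rw [hm]; simp [h], indFun_zero]
  have hres := isCharacter_restrict T (isCharacter_of_isIrr hχ)
  set R : T → ℂ := fun t => Cfsg.indFun T ψ t
  have hR : Cfsg.classInner ψ R = 1 := by
    rw [← classInner_indFun T ψ (isClassFunction_of_isIrr hχ), classInner_isIrr_self hχ]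
  -- every constituent of `ψ` meets the restriction
  have hge : ∀ φ' : Cfsg.IrrCharacter T, m φ' ≠ 0 →
      ∃ k : ℕ, 0 < k ∧ Cfsg.classInner (φ' : T → ℂ) R = k := by
    intro φ' h'
    obtain ⟨k, hk⟩ := classInner_characters (isCharacter_of_isIrr φ'.2) hres
    refine ⟨k, Nat.pos_of_ne_zero fun h0 => ?_, hk⟩
    rw [h0, Nat.cast_zero, ← classInner_indFun T _ (isClassFunction_of_isIrr hχ)] at hk
    -- the induced pieces are characters adding up to an irreducible one
    have hF := isCharacter_indFun T (isCharacter_of_isIrr φ'.2)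
    obtain ⟨j, hj⟩ := classInner_characters hF hF
    have hsub : Cfsg.classInner (Cfsg.indFun T (φ' : T → ℂ)) (Cfsg.indFun T ψ) = 0 := hk
    rw [hm, indFun_sum] at hsub
    simp only [indFun_smul, classInner_sum_right, classInner_smul_right, Complex.conj_natCast] at hsub
    choose c hc using fun φ'' : Cfsg.IrrCharacter T =>
      classInner_characters hF (isCharacter_indFun T (isCharacter_of_isIrr φ''.2))
    simp only [hc, ← Nat.cast_mul, ← Nat.cast_sum, Nat.cast_eq_zero, Finset.sum_eq_zero_iff] at hsub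
    have h2 := hsub φ' (Finset.mem_univ _)
    rw [Nat.mul_eq_zero, or_iff_right h'] at h2
    have h3 : Cfsg.classInner (Cfsg.indFun T (φ' : T → ℂ)) (Cfsg.indFun T (φ' : T → ℂ)) = 0 := by
      rw [hc, h2, Nat.cast_zero]
    rw [classInner_eq_sum (isClassFunction_indFun T _)] at h3
    choose e he using fun η : Cfsg.IrrCharacter G => classInner_character_irr hF η.2
    simp only [he, Complex.conj_natCast, ← Nat.cast_mul, ← Nat.cast_sum, Nat.cast_eq_zero,
      Finset.sum_eq_zero_iff, mul_self_eq_zero] at h3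
    have h4 := character_expansion hF
    rw [Finset.sum_eq_zero fun η _ => by rw [he, h3 η (Finset.mem_univ _), Nat.cast_zero, zero_smul]] at h4
    have h5 := congrFun h4 1
    rw [indFun_one, Pi.zero_apply, mul_eq_zero, or_iff_left (irr_one_ne_zero φ'.2)] at h5
    exact Subgroup.index_ne_zero_of_finite (Nat.cast_eq_zero.1 h5)
  choose a ha using fun φ' : Cfsg.IrrCharacter T =>
    classInner_characters (isCharacter_of_isIrr φ'.2) hres
  have hsum : ∑ φ', m φ' * a φ' = 1 := by
    have h1 := hR
    rw [hm, classInner_sum_left] at h1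
    simp only [classInner_smul_left, ha] at h1
    exact_mod_cast h1
  have hapos : ∀ φ', m φ' ≠ 0 → 0 < a φ' := fun φ' h' => by
    obtain ⟨k, hk, hk'⟩ := hge φ' h'
    rw [ha, Nat.cast_inj] at hk'
    omega
  rw [← Finset.add_sum_erase _ _ (Finset.mem_univ φ)] at hsum
  have h1 : 0 < m φ * a φ := Nat.mul_pos (Nat.pos_of_ne_zero hφ) (hapos φ hφ)
  have hm1 : m φ = 1 := Nat.eq_one_of_mul_eq_one_right (show m φ * a φ = 1 by omega)
  have hzero : ∀ φ' ∈ Finset.univ.erase φ, m φ' = 0 := by
    intro φ' h'
    have h2 : ∑ x ∈ Finset.univ.erase φ, m x * a x = 0 := by omega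
    by_contra h0
    rcases Nat.mul_eq_zero.1 (Finset.sum_eq_zero_iff.1 h2 φ' h') with h | h
    · exact h0 h
    · exact (hapos φ' h0).ne' h
  have : ψ = (φ : T → ℂ) := by
    rw [hm, ← Finset.add_sum_erase _ _ (Finset.mem_univ φ), hm1, Nat.cast_one, one_smul,
      Finset.sum_eq_zero fun φ' h' => by rw [hzero φ' h', Nat.cast_zero, zero_smul], add_zero]
  rw [this]
  exact φ.2

end

/-- Nilpotent groups are M-groups. -/
theorem monomial_of_nilpotent_aux (n : ℕ) : ∀ (G : Type u) [Group G] [Fintype G]
    [Group.IsNilpotent G], Nat.card G = n → ∀ χ : G → ℂ, Cfsg.IsIrrCharacter G χ →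
      ∃ (H : Subgroup G) (lam : H →* ℂˣ), χ = Cfsg.indFun H (fun h => (lam h : ℂ)) := by
  induction n using Nat.strong_induction_on with
  | _ n ih =>
    intro G _ _ _ hcard χ hχ
    classical
    by_cases h1 : χ 1 = 1
    · obtain ⟨f, hf⟩ := exists_hom_of_degree_one (isCharacter_of_isIrr hχ) h1
      refine ⟨⊤, f.comp (⊤ : Subgroup G).subtype, ?_⟩
      conv_lhs => rw [← indFun_top_classFunction (isClassFunction_of_isIrr hχ)]
      simp [hf]
    obtain ⟨d, ρ, hρ, rfl⟩ := hχ
    haveI : Fintype (G ⧸ MonoidHom.ker ρ) := Fintype.ofFinite _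
    let σ : Representation ℂ (G ⧸ MonoidHom.ker ρ) (Fin d → ℂ) :=
      QuotientGroup.lift (MonoidHom.ker ρ) ρ le_rfl
    haveI hσ : σ.IsIrreducible :=
      (isIrreducible_comp_iff (QuotientGroup.mk' (MonoidHom.ker ρ))
        (QuotientGroup.mk'_surjective _) σ).1 hρ
    have hσinj : Function.Injective σ := by
      intro a b h
      induction a using QuotientGroup.induction_on
      induction b using QuotientGroup.induction_on
      rename_i a b
      refine QuotientGroup.eq.2 (MonoidHom.mem_ker.2 ?_)
      have h' : ρ a = ρ b := h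
      rw [map_mul, ← h', ← map_mul, inv_mul_cancel, map_one]
    haveI : Group.IsNilpotent (G ⧸ MonoidHom.ker ρ) := inferInstance
    have hnc : ¬ ∀ a b : G ⧸ MonoidHom.ker ρ, a * b = b * a := by
      intro h
      haveI : IsMulCommutative (G ⧸ MonoidHom.ker ρ) := ⟨⟨h⟩⟩
      refine h1 ?_
      rw [Representation.char_one,
        Representation.IsIrreducible.finrank_eq_one_of_isMulCommutative σ, Nat.cast_one]
    haveI : Nontrivial ((G ⧸ MonoidHom.ker ρ) ⧸ Subgroup.center (G ⧸ MonoidHom.ker ρ)) := by
      rw [← not_subsingleton_iff_nontrivial]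
      intro h
      refine hnc fun a b => ?_
      have ha : a ∈ Subgroup.center (G ⧸ MonoidHom.ker ρ) :=
        (QuotientGroup.eq_one_iff a).1 (Subsingleton.elim _ _)
      exact (Subgroup.mem_center_iff.1 ha b).symm
    have hZnt : Nontrivial (Subgroup.center
        ((G ⧸ MonoidHom.ker ρ) ⧸ Subgroup.center (G ⧸ MonoidHom.ker ρ))) := by
      rw [Subgroup.nontrivial_iff_ne_bot]
      exact Group.IsNilpotent.center_ne_bot _
    obtain ⟨A, hA, hAc, hAn⟩ := exists_abelian_normal_of_center_quotient hZnt
    haveI := hA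
    obtain ⟨T, ψ, hT, -, hψ, hind⟩ := exists_induced_of_abelian_normal σ A hAc (by
      by_contra h
      push Not at h
      refine hAn fun a ha => Subgroup.mem_center_iff.2 fun b => hσinj ?_
      obtain ⟨c, hc⟩ := h a ha
      rw [map_mul, map_mul, hc]
      ext v; simp)
    set K := T.comap (QuotientGroup.mk' (MonoidHom.ker ρ))
    haveI := Fintype.ofFinite K
    have hη : Cfsg.IsCharacter K (fun x => ψ ⟨QuotientGroup.mk' _ (x : G), x.2⟩) :=
      isCharacter_comp (((QuotientGroup.mk' (MonoidHom.ker ρ)).comp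
        K.subtype).codRestrict T fun x => x.2) hψ
    have hK : ρ.character = Cfsg.indFun K (fun x => ψ ⟨QuotientGroup.mk' _ (x : G), x.2⟩) :=
      funext fun g => by
        rw [indFun_comap _ (QuotientGroup.mk'_surjective _) T ψ, ← hind]
        rfl
    have hKtop : K ≠ ⊤ := fun h => hT (by
      rw [← Subgroup.map_comap_eq_self_of_surjective (QuotientGroup.mk'_surjective _) T,
        show T.comap (QuotientGroup.mk' (MonoidHom.ker ρ)) = ⊤ from h,
        Subgroup.map_top_of_surjective _ (QuotientGroup.mk'_surjective _)])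
    obtain ⟨H, lam, hlam⟩ := ih (Nat.card K) (by
      rw [← hcard]
      exact lt_of_le_of_ne (Subgroup.card_le_card_group K)
        fun h => hKtop (Subgroup.eq_top_of_card_eq K h)) K rfl _
      (isIrr_of_indFun_irr K hη (hK ▸ isIrrCharacter_character ρ))
    refine ⟨H.map K.subtype, lam.comp
      (Subgroup.equivMapOfInjective H K.subtype K.subtype_injective).symm.toMonoidHom, ?_⟩
    rw [hK, hlam, indFun_indFun]
    rfl

section Artin

variable {G : Type u} [Group G] [Fintype G]

/-- Artin: the constant `|G|` is an integer combination of permutation characters of cyclic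
subgroups. -/
theorem card_mem_cyclic_span : (fun _ : G => (Nat.card G : ℤ)) ∈
    AddSubgroup.closure (cosetFix '' {A : Subgroup G | IsCyclic A}) := by
  classical
  set S := AddSubgroup.closure (cosetFix '' {A : Subgroup G | IsCyclic A})
  let F : Subgroup G → G → ℤ := fun D g =>
    ((Finset.univ.filter fun x : G => Subgroup.zpowers (x⁻¹ * g * x) = D).card : ℤ)
  haveI := Fintype.ofFinite (Subgroup G)
  have hmain : ∀ D : Subgroup G, (Nat.card D : ℤ) • cosetFix D =
      ∑ D' ∈ Finset.univ.filter (fun D' => D' ≤ D), F D' := by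
    intro D
    funext g
    rw [Pi.smul_apply, smul_eq_mul, Finset.sum_apply]
    have h1 : (Nat.card D : ℂ) * Cfsg.indFun D (fun _ => 1) g =
        ((Finset.univ.filter fun x : G => x⁻¹ * g * x ∈ D).card : ℂ) := by
      rw [Cfsg.indFun, ← mul_assoc, mul_inv_cancel₀ (subgroup_card_ne_zero D), one_mul,
        ← Finset.sum_boole]
      refine Finset.sum_congr rfl fun x _ => ?_
      split_ifs with hx
      · rw [extendByZero_of_mem D _ hx]
      · rw [extendByZero_of_not_mem D _ hx]
    rw [← cosetFix_eq_indFun] at h1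
    have h2 : (Nat.card D : ℤ) * cosetFix D g =
        ((Finset.univ.filter fun x : G => x⁻¹ * g * x ∈ D).card : ℤ) := by exact_mod_cast h1
    rw [h2]
    simp only [F]
    rw [← Nat.cast_sum, Nat.cast_inj,
      Finset.card_eq_sum_card_fiberwise (f := fun x => Subgroup.zpowers (x⁻¹ * g * x))
        (t := Finset.univ.filter (fun D' => D' ≤ D))
        (fun x hx => Finset.mem_filter.2 ⟨Finset.mem_univ _,
          Subgroup.zpowers_le.2 (Finset.mem_filter.1 hx).2⟩)]
    refine Finset.sum_congr rfl fun D' hD' => congrArg Finset.card ?_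
    ext x
    simp only [Finset.mem_filter, Finset.mem_univ, true_and]
    exact ⟨fun h => h.2, fun h =>
      ⟨(Finset.mem_filter.1 hD').2 (h ▸ Subgroup.mem_zpowers _), h⟩⟩
  have hF0 : ∀ D : Subgroup G, ¬ IsCyclic D → F D = 0 := by
    intro D hD
    funext g
    simp only [F, Pi.zero_apply, Nat.cast_eq_zero, Finset.card_eq_zero, Finset.filter_eq_empty_iff]
    intro x _ hx
    exact hD (hx ▸ inferInstance)
  have hmem : ∀ n : ℕ, ∀ D : Subgroup G, Nat.card D = n → F D ∈ S := by
    intro n
    induction n using Nat.strong_induction_on with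
    | _ n ih =>
      intro D hn
      by_cases hD : IsCyclic D
      · have h := hmain D
        have hmemD : D ∈ Finset.univ.filter (fun D' => D' ≤ D) :=
          Finset.mem_filter.2 ⟨Finset.mem_univ D, le_refl D⟩
        rw [← Finset.add_sum_erase _ F hmemD] at h
        rw [eq_sub_of_add_eq h.symm]
        refine sub_mem (zsmul_mem (AddSubgroup.subset_closure ⟨D, hD, rfl⟩ : cosetFix D ∈ S) _)
          (sum_mem fun D' hD' => ?_)
        obtain ⟨hne, hle⟩ := Finset.mem_erase.1 hD'
        refine ih _ ?_ D' rfl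
        rw [← hn]
        exact lt_of_le_of_ne (Subgroup.card_le_of_le (Finset.mem_filter.1 hle).2)
          fun h => hne (Subgroup.eq_of_le_of_card_ge (Finset.mem_filter.1 hle).2 h.ge)
      · rw [hF0 D hD]; exact zero_mem _
  have htot : (fun _ : G => (Nat.card G : ℤ)) = ∑ D : Subgroup G, F D := by
    funext g
    simp only [F, Finset.sum_apply, ← Nat.cast_sum, Nat.cast_inj]
    rw [← Finset.card_eq_sum_card_fiberwise (f := fun x => Subgroup.zpowers (x⁻¹ * g * x))
      (fun x _ => Finset.mem_univ _), Finset.card_univ, Nat.card_eq_fintype_card]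
  rw [htot]
  exact sum_mem fun D _ => hmem _ D rfl

/-- Artin's induction theorem with an explicit list. -/
theorem artin_induction {χ : G → ℂ} (hχ : Cfsg.IsCharacter G χ) :
    ∃ l : List ((A : Subgroup G) × ((A →* ℂˣ) × ℤ)), (∀ t ∈ l, IsCyclic t.1) ∧
      (Nat.card G : ℂ) • χ =
        (l.map fun t => (t.2.2 : ℂ) • Cfsg.indFun t.1 (fun a => (t.2.1 a : ℂ))).sum := by
  classical
  set F : ((A : Subgroup G) × (A →* ℂˣ)) → G → ℂ :=
    fun t => Cfsg.indFun t.1 (fun a => (t.2 a : ℂ))
  set S := AddSubgroup.closure (F '' {t | IsCyclic t.1})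
  have key : ∀ f ∈ AddSubgroup.closure (cosetFix '' {A : Subgroup G | IsCyclic A}),
      (fun g => (f g : ℂ) * χ g) ∈ S := by
    intro f hf
    induction hf using AddSubgroup.closure_induction with
    | mem f hf =>
      obtain ⟨A, hA, rfl⟩ := hf
      haveI : IsCyclic A := hA
      haveI := Fintype.ofFinite A
      obtain ⟨m, hm⟩ := exists_nat_coeff (isCharacter_restrict A hχ)
      have h1 := indFun_mul A (fun _ => 1) (isClassFunction_of_isCharacter hχ)
      simp only [one_mul] at h1
      have h : (fun g => (cosetFix A g : ℂ) * χ g) = Cfsg.indFun A (fun a : A => χ a) := by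
        rw [h1]; funext g; rw [cosetFix_eq_indFun]
      rw [h, hm, indFun_sum]
      refine sum_mem fun l _ => ?_
      rw [indFun_smul, Nat.cast_smul_eq_nsmul]
      refine nsmul_mem (AddSubgroup.subset_closure ?_) _
      obtain ⟨k, σ, hσ, hσl⟩ := l.2
      haveI : IsMulCommutative A := ⟨⟨fun a b => mul_comm' a b⟩⟩
      obtain ⟨f', hf'⟩ := exists_hom_of_degree_one (isCharacter_of_isIrr l.2) (by
        rw [← hσl, Representation.char_one,
          Representation.IsIrreducible.finrank_eq_one_of_isMulCommutative σ, Nat.cast_one])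
      exact ⟨⟨A, f'⟩, hA, by simp [F, hf']⟩
    | zero =>
      convert! zero_mem S using 1
      funext g; simp
    | add a b _ _ ha hb =>
      convert! add_mem ha hb using 1
      funext g; simp [add_mul]
    | neg a _ ha =>
      convert! neg_mem ha using 1
      funext g; simp
  have hmem : (Nat.card G : ℂ) • χ ∈ S := by
    convert! key _ card_mem_cyclic_span using 1
  obtain ⟨l, hl, hsum⟩ := closure_smul_list F {t | IsCyclic t.1} hmem
  refine ⟨l.map fun t => ⟨t.1.1, t.1.2, t.2⟩, ?_, ?_⟩
  · intro t ht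
    obtain ⟨t', ht', rfl⟩ := List.mem_map.1 ht
    exact hl t' ht'
  · rw [hsum, List.map_map]
    rfl

end Artin

end CfsgLib.Characters
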