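import Cfsg.Agent.Characters.Generalized

/-!
# Exceptional characters: the isometry lemma
-/

set_option autoImplicit false
set_option linter.style.haveILetI false
set_option linter.unusedSectionVars false

namespace CfsgLib.Characters

universe u

variable {G : Type u} [Group G] [Fintype G]

/-- A generalized character of norm two vanishing at the identity is a difference of two
irreducible characters. -/
theorem gen_norm_two {θ : G → ℂ} (h : Cfsg.IsGeneralizedCharacter G θ)
    (h2 : Cfsg.classInner θ θ = 2) (h1 : θ 1 = 0) :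
    ∃ a b : Cfsg.IrrCharacter G, a ≠ b ∧ θ = (a : G → ℂ) - (b : G → ℂ) := by
  classical
  obtain ⟨m, hm, hmi⟩ := exists_int_coeff h
  have hsq : ∑ χ, m χ ^ 2 = 2 := by
    have := (classInner_self_eq_sum_sq (isClassFunction_of_isGen h) m hmi).symm.trans h2
    exact_mod_cast this
  have hle : ∀ χ, m χ ≠ 0 → m χ ^ 2 = 1 := by
    intro χ hχ
    have hb : m χ ^ 2 ≤ 2 := hsq ▸ Finset.single_le_sum (f := fun χ => m χ ^ 2)
      (fun _ _ => sq_nonneg _) (Finset.mem_univ χ)
    have hlo : -1 ≤ m χ := by nlinarith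
    have hhi : m χ ≤ 1 := by nlinarith
    have : m χ = -1 ∨ m χ = 1 := by omega
    rcases this with e | e <;> rw [e] <;> norm_num
  set s : Finset (Cfsg.IrrCharacter G) := Finset.univ.filter fun χ => m χ ≠ 0 with hs
  have hcard : s.card = 2 := by
    have : ∑ χ ∈ s, m χ ^ 2 = 2 := by
      rw [← hsq]
      exact Finset.sum_subset (Finset.subset_univ s) fun χ _ hχ => by
        have : m χ = 0 := by simpa [s] using hχ
        simp [this]
    rw [Finset.sum_congr rfl (fun χ hχ => hle χ (by simpa [s] using hχ))] at this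
    exact_mod_cast (by simpa using this : ((s.card : ℤ) = 2))
  obtain ⟨a, b, hab, hsab⟩ := Finset.card_eq_two.1 hcard
  have hθ : θ = (m a : ℂ) • (a : G → ℂ) + (m b : ℂ) • (b : G → ℂ) := by
    rw [hm, ← Finset.sum_subset (Finset.subset_univ s) fun χ _ hχ => ?_, hsab, Finset.sum_pair hab]
    have : m χ = 0 := by simpa [s] using hχ
    simp [this]
  have ha : m a ≠ 0 := by
    have : a ∈ s := by simp [hsab]
    simpa [s] using this
  have hb : m b ≠ 0 := by
    have : b ∈ s := by simp [hsab]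
    simpa [s] using this
  obtain ⟨da, hda, ea⟩ := exists_degree_pos a.2
  obtain ⟨db, hdb, eb⟩ := exists_degree_pos b.2
  have hdeg : (m a * da + m b * db : ℤ) = 0 := by
    have := congrFun hθ 1
    rw [h1] at this
    simp [ea, eb] at this
    exact_mod_cast this.symm
  have hda' : (0 : ℤ) < da := by exact_mod_cast hda
  have hdb' : (0 : ℤ) < db := by exact_mod_cast hdb
  rcases sq_eq_one_iff.1 (hle a ha) with ea' | ea' <;>
    rcases sq_eq_one_iff.1 (hle b hb) with eb' | eb' <;> rw [ea', eb'] at hdeg hθ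
  · omega
  · exact ⟨a, b, hab, by rw [hθ]; simp [sub_eq_add_neg]⟩
  · exact ⟨b, a, hab.symm, by rw [hθ]; simp [sub_eq_add_neg, add_comm]⟩
  · omega

/-- Two differences of irreducible characters with inner product one share exactly one end. -/
theorem share_end {a b c d : Cfsg.IrrCharacter G} (hab : a ≠ b) (hcd : c ≠ d)
    (h : Cfsg.classInner ((a : G → ℂ) - (b : G → ℂ)) ((c : G → ℂ) - (d : G → ℂ)) = 1) :
    (a = c ∧ b ≠ d) ∨ (a ≠ c ∧ b = d) := by
  classical
  rw [classInner_sub_left, classInner_sub_right, classInner_sub_right, classInner_irr,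
    classInner_irr, classInner_irr, classInner_irr] at h
  by_cases h1 : a = c <;> by_cases h2 : b = d
  · exfalso
    subst h1; subst h2
    simp [hab, Ne.symm hab] at h
  · exact Or.inl ⟨h1, h2⟩
  · exact Or.inr ⟨h1, h2⟩
  · exfalso
    simp [h1, h2] at h
    split_ifs at h <;> norm_num at h

/-- The isometry lemma behind exceptional characters. -/
theorem exists_exceptional {ι : Type*} [DecidableEq ι] (i₀ : ι) (τ : ι → G → ℂ) (h0 : τ i₀ = 0)
    (hgen : ∀ i, Cfsg.IsGeneralizedCharacter G (τ i)) (hone : ∀ i, τ i 1 = 0)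
    (hgram : ∀ i j, i ≠ i₀ → j ≠ i₀ → Cfsg.classInner (τ i) (τ j) = if i = j then 2 else 1) :
    ∃ ε : ℂ, (ε = 1 ∨ ε = -1) ∧ ∃ μ : ι → G → ℂ, (∀ i, Cfsg.IsIrrCharacter G (μ i)) ∧
      Function.Injective μ ∧ ∀ i, τ i = ε • (μ i - μ i₀) := by
  classical
  by_cases hne : ∃ i, i ≠ i₀
  swap
  · push Not at hne
    refine ⟨1, Or.inl rfl, fun _ _ => 1, fun _ => isIrr_one, fun i j _ => ?_, fun i => ?_⟩
    · rw [hne i, hne j]
    · rw [hne i, h0]; simp
  obtain ⟨k, hk⟩ := hne
  have hd : ∀ i : {i // i ≠ i₀}, ∃ a b : Cfsg.IrrCharacter G, a ≠ b ∧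
      τ i = (a : G → ℂ) - (b : G → ℂ) := fun i =>
    gen_norm_two (hgen i) (by rw [hgram i i i.2 i.2, if_pos rfl]) (hone i)
  choose a b hab hτ using hd
  have hsh : ∀ i j : {i // i ≠ i₀}, i ≠ j → (a i = a j ∧ b i ≠ b j) ∨ (a i ≠ a j ∧ b i = b j) :=
    fun i j hij => share_end (hab i) (hab j) (by
      rw [← hτ, ← hτ, hgram i j i.2 j.2, if_neg fun e => hij (Subtype.ext e)])
  set k' : {i // i ≠ i₀} := ⟨k, hk⟩
  have hall : (∀ i, a i = a k') ∨ (∀ i, b i = b k') := by
    by_contra hcon
    push Not at hcon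
    obtain ⟨⟨i, hi⟩, ⟨j, hj⟩⟩ := hcon
    have h1 := (hsh i k' fun e => hi (by rw [e])).resolve_left fun h => hi h.1
    have h2 := (hsh j k' fun e => hj (by rw [e])).resolve_right fun h => hj h.2
    have hij : i ≠ j := fun e => hi (e ▸ h2.1)
    rcases hsh i j hij with h | h
    · exact hi (h.1.trans h2.1)
    · exact hj (h.2 ▸ h1.2)
  rcases hall with hall | hall
  · refine ⟨-1, Or.inr rfl, fun i => if h : i = i₀ then (a k' : G → ℂ) else (b ⟨i, h⟩ : G → ℂ),
      fun i => ?_, fun i j hij => ?_, fun i => ?_⟩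
    · dsimp only; split_ifs with h
      exacts [(a k').2, (b ⟨i, h⟩).2]
    · dsimp only at hij
      split_ifs at hij with hi hj hj
      · rw [hi, hj]
      · exact absurd (Subtype.ext hij) (hall ⟨j, hj⟩ ▸ hab ⟨j, hj⟩)
      · exact absurd (Subtype.ext hij).symm (hall ⟨i, hi⟩ ▸ hab ⟨i, hi⟩)
      · by_contra hne
        have hne' : (⟨i, hi⟩ : {i // i ≠ i₀}) ≠ ⟨j, hj⟩ := fun e => hne (congrArg Subtype.val e)
        rcases hsh _ _ hne' with h | h
        · exact h.2 (Subtype.ext hij)
        · exact h.1 ((hall _).trans (hall _).symm)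
    · by_cases h : i = i₀
      · simp [h, h0]
      · simp only [dif_pos, dif_neg h]
        rw [hτ ⟨i, h⟩, hall ⟨i, h⟩]
        simp
  · refine ⟨1, Or.inl rfl, fun i => if h : i = i₀ then (b k' : G → ℂ) else (a ⟨i, h⟩ : G → ℂ),
      fun i => ?_, fun i j hij => ?_, fun i => ?_⟩
    · dsimp only; split_ifs with h
      exacts [(b k').2, (a ⟨i, h⟩).2]
    · dsimp only at hij
      split_ifs at hij with hi hj hj
      · rw [hi, hj]
      · exact absurd (Subtype.ext hij).symm (hall ⟨j, hj⟩ ▸ hab ⟨j, hj⟩)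
      · exact absurd (Subtype.ext hij) (hall ⟨i, hi⟩ ▸ hab ⟨i, hi⟩)
      · by_contra hne
        have hne' : (⟨i, hi⟩ : {i // i ≠ i₀}) ≠ ⟨j, hj⟩ := fun e => hne (congrArg Subtype.val e)
        rcases hsh _ _ hne' with h | h
        · exact h.2 ((hall _).trans (hall _).symm)
        · exact h.1 (Subtype.ext hij)
    · by_cases h : i = i₀
      · simp [h, h0]
      · simp only [dif_pos, dif_neg h]
        rw [hτ ⟨i, h⟩, hall ⟨i, h⟩]
        simp

end CfsgLib.Characters
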