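import Cfsg.Agent.Characters.Orthogonality
import Cfsg.Agent.GaloisConj.Basic
import Mathlib.FieldTheory.Galois.Basic

/-!
# Groups with rational character tables
-/

set_option autoImplicit false
set_option linter.style.haveILetI false
set_option linter.unusedSectionVars false

namespace CfsgLib.Characters

universe u

variable {G : Type u} [Group G] [Finite G]

/-- A character value fixed under all coprime power maps is rational. -/
theorem rat_of_pow_invariant {χ : G → ℂ} (h : Cfsg.IsCharacter G χ) (g : G)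
    (hfix : ∀ k : ℕ, k.Coprime (Nat.card G) → χ (g ^ k) = χ g) : ∃ q : ℚ, χ g = (q : ℂ) := by
  obtain ⟨d, ρ, rfl⟩ := h
  obtain ⟨μ, hμ, hj, -⟩ := exists_eigenvalues ρ g
  set N := Nat.card G
  haveI : NeZero N := ⟨Nat.card_pos.ne'⟩
  let R := CyclotomicField N ℚ
  haveI : IsCyclotomicExtension {N} ℚ R := CyclotomicField.isCyclotomicExtension N ℚ
  haveI : IsGalois ℚ R := IsCyclotomicExtension.isGalois {N} ℚ R
  haveI : FiniteDimensional ℚ R := IsCyclotomicExtension.finiteDimensional {N} ℚ R
  let i : R →ₐ[ℚ] ℂ := IsAlgClosed.lift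
  have hζ : IsPrimitiveRoot (IsCyclotomicExtension.zeta N ℚ R) N :=
    IsCyclotomicExtension.zeta_spec N ℚ R
  set ζ := IsCyclotomicExtension.zeta N ℚ R
  have hiζ : IsPrimitiveRoot (i ζ) N := hζ.map_of_injective i.injective
  have hexp : ∀ j, ∃ a : ℕ, i ζ ^ a = μ j := fun j => by
    obtain ⟨c, hc⟩ := orderOf_dvd_natCard g
    obtain ⟨a, -, ha⟩ := hiζ.eq_pow_of_pow_eq_one (show μ j ^ N = 1 by
      rw [show N = orderOf g * c from hc, pow_mul, hμ j, one_pow])
    exact ⟨a, ha⟩
  choose a ha using hexp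
  set x : R := ∑ j, ζ ^ a j with hx
  have hix : ∀ k : ℕ, i (∑ j, (ζ ^ k) ^ a j) = ρ.character (g ^ k) := fun k => by
    rw [hj k, map_sum]
    exact Finset.sum_congr rfl fun j _ => by
      rw [map_pow, map_pow, ← ha j, ← pow_mul, ← pow_mul, mul_comm]
  have hx1 : i x = ρ.character g := by
    have := hix 1
    simpa [hx] using this
  have hfx : ∀ s : Gal(R/ℚ), s x = x := fun s => by
    have hs : s ζ = ζ ^ (hζ.autToPow ℚ s : ZMod N).val := (hζ.autToPow_spec ℚ s).symm
    have hco : (hζ.autToPow ℚ s : ZMod N).val.Coprime N := ZMod.val_coe_unit_coprime _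
    refine i.injective (show i (s x) = i x from ?_)
    rw [hx1, hx, map_sum]
    simp only [map_pow s, hs]
    rw [hix, hfix _ hco]
  obtain ⟨q, hq⟩ := (IsGalois.mem_range_algebraMap_iff_fixed x).2 hfx
  exact ⟨q, by rw [← hx1, ← hq, AlgHom.commutes, eq_ratCast]⟩

end CfsgLib.Characters
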