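import Cfsg.Agent.Characters.BrauerInduction
import Cfsg.Agent.Characters.Integrality
import Mathlib.GroupTheory.Transfer
import Mathlib.Analysis.Complex.Order

/-!
# Characters of p-defect zero
-/

set_option autoImplicit false
set_option linter.style.haveILetI false
set_option linter.unusedSectionVars false

namespace CfsgLib.Characters

open scoped ComplexConjugate

universe u v

/-- The elements of order prime to `p` of an elementary group form a subgroup. -/
theorem exists_pRegular_subgroup {E : Type u} [Group E] [Finite E] {p q : ℕ} (hp : p.Prime)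
    (hq : q.Prime) (hE : Cfsg.IsElementary q E) :
    ∃ Q : Subgroup E, (∀ e, e ∈ Q ↔ ¬ p ∣ orderOf e) ∧ ∃ j, Q.index = p ^ j ∧
      ∀ e ∈ Q, p ^ j ∣ Nat.card (Subgroup.centralizer ({e} : Set E)) := by
  classical
  haveI := Fact.mk hp
  obtain ⟨x, hx, hcop, k, hk⟩ := hE
  have hzc : Subgroup.zpowers x ≤ Subgroup.center E := Subgroup.zpowers_le.2 hx
  by_cases hpq : q = p
  · subst hpq
    refine ⟨Subgroup.zpowers x, fun e => ⟨fun he hdvd => ?_, fun he => ?_⟩, k, hk, fun e he => ?_⟩
    · have h1 : orderOf e ∣ orderOf x := by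
        rw [← Nat.card_zpowers x]; exact Subgroup.orderOf_dvd_natCard _ he
      exact hq.ne_one (Nat.eq_one_of_dvd_coprimes hcop (hdvd.trans h1) dvd_rfl)
    · haveI : (Subgroup.zpowers x).Normal := ⟨fun z hz c => by
        rw [Subgroup.mem_center_iff.1 (hzc hz) c, mul_inv_cancel_right]; exact hz⟩
      have h1 : e ^ q ^ k ∈ Subgroup.zpowers x := hk ▸ Subgroup.pow_index_mem _ e
      obtain ⟨a, ha⟩ := exists_pow_eq_self_of_coprime
        ((Nat.Coprime.pow_left k ((hq.coprime_iff_not_dvd).2 he)))
      exact ha ▸ Subgroup.pow_mem _ h1 a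
    · have h1 : Subgroup.centralizer ({e} : Set E) = ⊤ := eq_top_iff.2 fun c _ =>
        Subgroup.mem_centralizer_singleton_iff.2 (Subgroup.mem_center_iff.1 (hzc he) c)
      rw [h1, Subgroup.card_top, ← hk]
      exact Subgroup.index_dvd_card _
  · set a := (Nat.card E).factorization p
    set m := Nat.card E / p ^ a
    have hm : ¬ p ∣ m := Nat.not_dvd_ordCompl hp Nat.card_pos.ne'
    have hcard : p ^ a * m = Nat.card E := Nat.ordProj_mul_ordCompl_eq_self _ p
    have hind : ¬ p ∣ (Subgroup.center E).index := fun h => by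
      have h1 : p ∣ q ^ k := hk ▸ h.trans (Subgroup.index_dvd_of_le hzc)
      exact hpq ((Nat.prime_dvd_prime_iff_eq hp hq).1 (hp.dvd_of_dvd_pow h1)).symm
    let φ : E →* Subgroup.center E :=
      (⟨⟨fun z => z ^ m, one_pow m⟩, fun z w =>
        (show Commute z w from Subtype.ext (Subgroup.mem_center_iff.1 w.2 z)).mul_pow m⟩ :
        Subgroup.center E →* Subgroup.center E).comp (MonoidHom.transferCenterPow E)
    have hφ : ∀ e, (φ e : E) = e ^ ((Subgroup.center E).index * m) := fun e => by
      simp [φ, MonoidHom.transferCenterPow_apply, pow_mul]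
    have hP : IsPGroup p φ.range := by
      rintro ⟨z, e, rfl⟩
      refine ⟨a, Subtype.ext (Subtype.ext ?_)⟩
      simp only [SubmonoidClass.coe_pow, hφ, OneMemClass.coe_one]
      rw [← pow_mul, mul_assoc, mul_comm m, hcard, pow_mul', pow_card_eq_one', one_pow]
    obtain ⟨j, hj⟩ := IsPGroup.iff_card.1 hP
    refine ⟨φ.ker, fun e => ?_, j, by rw [Subgroup.index_ker, hj], fun e _ => ?_⟩
    · rw [MonoidHom.mem_ker, ← Subtype.coe_inj (a := φ e), hφ, OneMemClass.coe_one,
        ← orderOf_dvd_iff_pow_eq_one]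
      refine ⟨fun h hdvd => ?_, fun h => ?_⟩
      · exact (hp.dvd_mul.1 (hdvd.trans h)).elim hind hm
      · refine dvd_mul_of_dvd_right ?_ _
        exact (Nat.Coprime.pow_right a ((hp.coprime_iff_not_dvd).2 h).symm).dvd_of_dvd_mul_left
          (hcard ▸ orderOf_dvd_natCard e)
    · have h1 : Nat.card (φ.range.map (Subgroup.center E).subtype) = p ^ j := by
        rw [← hj]
        exact (Nat.card_congr (Subgroup.equivMapOfInjective _ _
          (Subgroup.center E).subtype_injective).toEquiv).symm
      rw [← h1]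
      refine Subgroup.card_dvd_of_le fun z hz => ?_
      obtain ⟨y, -, rfl⟩ := Subgroup.mem_map.1 hz
      exact Subgroup.mem_centralizer_singleton_iff.2
        (Subgroup.mem_center_iff.1 y.2 e).symm

variable {G : Type u} [Group G] [Fintype G] {V : Type v} [AddCommGroup V] [Module ℂ V]
  [FiniteDimensional ℂ V]

open Classical in
/-- The `p`-regular part of a class function. -/
noncomputable def regularPart (p : ℕ) (θ : G → ℂ) : G → ℂ :=
  fun g => if p ∣ orderOf g then 0 else θ g

theorem isGen_regularPart (ρ : Representation ℂ G V) [ρ.IsIrreducible] {p n : ℕ} (hp : p.Prime)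
    (hn : p ^ n ∣ Nat.card G) (hn' : ¬ p ^ (n + 1) ∣ Nat.card G)
    (hdeg : p ^ n ∣ Module.finrank ℂ V) :
    Cfsg.IsGeneralizedCharacter G (regularPart p ρ.character) := by
  classical
  haveI := Fact.mk hp
  have hcl : Cfsg.IsClassFunction G (regularPart p ρ.character) := fun g c => by
    simp only [regularPart]
    rw [show orderOf (c * g * c⁻¹) = orderOf g from
      (MulAut.conj c).orderOf_eq g,
      isClassFunction_of_isCharacter (isCharacter_character ρ) g c]
  refine isGen_of_elementary hcl fun E q hq hE => ?_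
  haveI := Fintype.ofFinite E
  obtain ⟨Q, hQ, j, hj, hdvd⟩ := exists_pRegular_subgroup hp hq hE
  haveI := Fintype.ofFinite Q
  refine isGen_of_classInner (fun e c => hcl (e : G) (c : G)) fun ψ => ?_
  obtain ⟨m, hm⟩ := hn
  have hpm : ¬ p ∣ m := fun h => hn' (by rw [hm, pow_succ]; exact Nat.mul_dvd_mul_left _ h)
  obtain ⟨d, hd⟩ := hdeg
  -- the sum over the regular elements
  set s : ℂ := ∑ e : Q, ρ.character ((e : E) : G) * conj ((ψ : E → ℂ) (e : E)) with hs
  obtain ⟨a, ha⟩ : ∃ a : ℤ, (Nat.card Q : ℂ)⁻¹ * s = a :=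
    classInner_gen (G := Q)
      (isGen_restrict Q (isGen_restrict E (isGen_of_isCharacter (isCharacter_character ρ))))
      (isGen_restrict Q (isGen_of_isIrr ψ.2))
  have hinner : Cfsg.classInner (fun e : E => regularPart p ρ.character e) (ψ : E → ℂ) =
      (a : ℂ) / (p ^ j : ℕ) := by
    rw [← ha, Cfsg.classInner]
    have h1 : ∑ e : E, regularPart p ρ.character (e : G) * conj ((ψ : E → ℂ) e) = s := by
      rw [hs, ← Finset.sum_subtype (Finset.univ.filter fun e : E => e ∈ Q) (by simp)
          (fun e : E => ρ.character (e : G) * conj ((ψ : E → ℂ) e))]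
      rw [Finset.sum_filter]
      refine Finset.sum_congr rfl fun e _ => ?_
      simp only [regularPart, Subgroup.orderOf_coe, hQ]
      split_ifs <;> simp
    rw [h1, ← Subgroup.index_mul_card Q, hj, Nat.cast_mul, mul_inv]
    ring
  have hint : IsIntegral ℤ ((m : ℂ) * (Nat.card Q : ℂ) * a / (p ^ j : ℕ)) := by
    have h1 : (m : ℂ) * (Nat.card Q : ℂ) * a / (p ^ j : ℕ) =
        ∑ e : Q, ((m : ℂ) * ρ.character ((e : E) : G) / (p ^ j : ℕ)) *
          conj ((ψ : E → ℂ) (e : E)) := by
      rw [← ha, mul_assoc (m : ℂ), ← mul_assoc (Nat.card Q : ℂ),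
        mul_inv_cancel₀ (Nat.cast_ne_zero.2 Nat.card_pos.ne'), one_mul, hs, Finset.mul_sum,
        Finset.sum_div]
      exact Finset.sum_congr rfl fun e _ => by ring
    rw [h1]
    refine IsIntegral.sum _ fun e _ => IsIntegral.mul ?_ ?_
    · obtain ⟨r, hr⟩ : p ^ j ∣ Nat.card (Subgroup.centralizer ({((e : E) : G)} : Set G)) := by
        refine (hdvd e e.2).trans ?_
        let f : Subgroup.centralizer ({(e : E)} : Set E) →*
            Subgroup.centralizer ({((e : E) : G)} : Set G) :=
          (E.subtype.comp (Subgroup.centralizer ({(e : E)} : Set E)).subtype).codRestrict _ fun c =>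
            Subgroup.mem_centralizer_singleton_iff.2
              (congrArg Subtype.val (Subgroup.mem_centralizer_singleton_iff.1 c.2))
        exact Subgroup.card_dvd_of_injective f fun a b h => by
          apply Subtype.ext; apply Subtype.ext
          exact congrArg (fun z : Subgroup.centralizer ({((e : E) : G)} : Set G) => (z : G)) h
      have h2 := isIntegral_index_mul_char_div ρ ((e : E) : G)
      have h3 : ((Subgroup.centralizer ({((e : E) : G)} : Set G)).index * (p ^ j * r) : ℂ) =
          (p ^ n * m : ℂ) := by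
        have := Subgroup.index_mul_card (Subgroup.centralizer ({((e : E) : G)} : Set G))
        rw [hm, hr] at this
        exact_mod_cast this
      have h4 : (m : ℂ) * ρ.character ((e : E) : G) / (p ^ j : ℕ) = (r * d : ℕ) *
          (((Subgroup.centralizer ({((e : E) : G)} : Set G)).index : ℂ) *
            ρ.character ((e : E) : G) / (Module.finrank ℂ V : ℂ)) := by
        have hn0 : (Module.finrank ℂ V : ℂ) ≠ 0 :=
          Nat.cast_ne_zero.2 (finrank_pos_of_isIrreducible ρ).ne'
        rw [hd] at hn0 ⊢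
        push_cast at hn0 ⊢
        have hp0 : (p : ℂ) ≠ 0 := Nat.cast_ne_zero.2 hp.ne_zero
        have hd0 : (d : ℂ) ≠ 0 := right_ne_zero_of_mul hn0
        field_simp
        linear_combination (norm := ring_nf) -(ρ.character ((e : E) : G)) * h3
      rw [h4]
      exact (isIntegral_algebraMap (R := ℤ) (x := ((r * d : ℕ) : ℤ))).mul h2 |>
        (fun h => by simpa using h)
    · exact (character_isIntegral (isCharacter_of_isIrr ψ.2) (e : E)).map
        (starRingEnd ℂ).toIntAlgHom
  have hnat : p ^ j ∣ m * Nat.card Q * a.natAbs := by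
    refine dvd_of_isIntegral_div (pow_ne_zero _ hp.ne_zero) ?_
    rcases Int.natAbs_eq a with h | h <;> rw [h] at hint
    · simpa using hint
    · simpa [neg_div] using hint.neg
  have hQp : ¬ p ∣ Nat.card Q := fun h => by
    obtain ⟨e, he⟩ := exists_prime_orderOf_dvd_card' p h
    exact (hQ e).1 e.2 (by rw [Subgroup.orderOf_coe, he])
  obtain ⟨b, hb⟩ : ((p ^ j : ℕ) : ℤ) ∣ a := Int.natCast_dvd.2
    ((Nat.Coprime.pow_left j (Nat.Coprime.mul_right ((hp.coprime_iff_not_dvd).2 hpm)
      ((hp.coprime_iff_not_dvd).2 hQp))).dvd_of_dvd_mul_left hnat)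
  refine ⟨b, ?_⟩
  rw [hinner, hb, Int.cast_mul, Int.cast_natCast,
    mul_div_cancel_left₀ _ (Nat.cast_ne_zero.2 (pow_ne_zero _ hp.ne_zero))]

/-- A character of `p`-defect zero vanishes at the `p`-singular elements. -/
theorem char_eq_zero_of_defect_zero (ρ : Representation ℂ G V) [ρ.IsIrreducible] {p n : ℕ}
    (hp : p.Prime) (hn : p ^ n ∣ Nat.card G) (hn' : ¬ p ^ (n + 1) ∣ Nat.card G)
    (hdeg : p ^ n ∣ Module.finrank ℂ V) (x : G) (hx : p ∣ orderOf x) : ρ.character x = 0 := by
  classical
  have hirr := isIrrCharacter_character ρ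
  obtain ⟨z, hz⟩ := classInner_gen (isGen_regularPart ρ hp hn hn' hdeg) (isGen_of_isIrr hirr)
  set F : G → ℝ := fun g => Complex.normSq (ρ.character g) with hF
  have h1 : (z : ℝ) * Nat.card G = ∑ g : G, if p ∣ orderOf g then 0 else F g := by
    have e : (Nat.card G : ℂ) * (z : ℂ) = ∑ g : G, ((if p ∣ orderOf g then 0 else F g : ℝ) : ℂ) := by
      rw [← hz, Cfsg.classInner, ← mul_assoc, mul_inv_cancel₀ natCard_ne_zero, one_mul]
      refine Finset.sum_congr rfl fun g _ => ?_
      simp only [regularPart, hF]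
      split_ifs <;> simp [Complex.mul_conj]
    rw [mul_comm]; exact_mod_cast e
  have h2 : (Nat.card G : ℝ) = ∑ g : G, F g := by
    have h := classInner_isIrr_self hirr
    rw [Cfsg.classInner, inv_mul_eq_one₀ natCard_ne_zero] at h
    have e : (Nat.card G : ℂ) = ((∑ g : G, F g : ℝ) : ℂ) := by
      rw [h, Complex.ofReal_sum]
      exact Finset.sum_congr rfl fun g _ => Complex.mul_conj _
    exact_mod_cast e
  have hpos : (0 : ℝ) < ∑ g : G, if p ∣ orderOf g then 0 else F g := by
    refine Finset.sum_pos' (fun g _ => ?_) ⟨1, Finset.mem_univ _, ?_⟩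
    · split_ifs
      exacts [le_rfl, Complex.normSq_nonneg _]
    · rw [orderOf_one, if_neg hp.not_dvd_one]
      exact Complex.normSq_pos.2 (irr_one_ne_zero hirr)
  have hN : (0 : ℝ) < Nat.card G := Nat.cast_pos.2 Nat.card_pos
  have hz1 : 1 ≤ z := by
    have : (0 : ℝ) < z := pos_of_mul_pos_left (h1 ▸ hpos) hN.le
    have : 0 < z := by exact_mod_cast this
    omega
  have h3 : ∑ g : G, (if p ∣ orderOf g then F g else 0) ≤ 0 := by
    have h4 : ∑ g : G, F g = ∑ g : G, (if p ∣ orderOf g then F g else 0) +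
        ∑ g : G, (if p ∣ orderOf g then 0 else F g) := by
      rw [← Finset.sum_add_distrib]
      exact Finset.sum_congr rfl fun g _ => by split_ifs <;> simp
    have : (Nat.card G : ℝ) ≤ (z : ℝ) * Nat.card G :=
      le_mul_of_one_le_left hN.le (by exact_mod_cast hz1)
    linarith
  have h5 : F x ≤ 0 := le_trans (by
    have := Finset.single_le_sum (f := fun g => if p ∣ orderOf g then F g else 0)
      (fun g _ => by split_ifs; exacts [Complex.normSq_nonneg _, le_rfl]) (Finset.mem_univ x)
    simpa [hx] using this) h3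
  exact Complex.normSq_eq_zero.1 (le_antisymm h5 (Complex.normSq_nonneg _))

end CfsgLib.Characters
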