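import Cfsg.Agent.Characters.CAFamily
import Cfsg.Agent.Characters.FixedPoints
import Mathlib.Algebra.CharP.Two
import Mathlib.Data.ZMod.Basic

/-!
# Counting in a simple group of odd order with abelian centralizers
-/

set_option autoImplicit false
set_option linter.style.haveILetI false
set_option linter.unusedSectionVars false

namespace CfsgLib.Characters.CA

open scoped ComplexConjugate

universe u

variable {G : Type u} [Group G] [Fintype G]

open Classical in
/-- The non-identity elements of a subgroup. -/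
noncomputable def punct (A : Subgroup G) : Finset G :=
  Finset.univ.filter fun z => z ∈ A ∧ z ≠ 1

theorem mem_punct {A : Subgroup G} {z : G} : z ∈ punct A ↔ z ∈ A ∧ z ≠ 1 := by
  simp [punct]

theorem card_punct (A : Subgroup G) : (punct A).card = Nat.card A - 1 := by
  classical
  have h : punct A = (Finset.univ.filter fun z => z ∈ A).erase 1 := by
    ext z; simp [mem_punct, and_comm]
  rw [h, Finset.card_erase_of_mem (by simp), ← Fintype.card_subtype, ← Nat.card_eq_fintype_card]

/-- The setoid of conjugate centralizers. -/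
def centSetoid (G : Type u) [Group G] : Setoid {g : G // g ≠ 1} where
  r a b := ∃ x : G, (cent a.1).map (MulAut.conj x).toMonoidHom = cent b.1
  iseqv := by
    refine ⟨fun a => ⟨1, ?_⟩, fun {a b} ⟨x, h⟩ => ⟨x⁻¹, ?_⟩, fun {a b c} ⟨x, h⟩ ⟨x', h'⟩ =>
      ⟨x' * x, ?_⟩⟩
    · rw [cent_map_conj]; simp
    · rw [← h, cent_map_conj, cent_map_conj]; congr 1; group
    · rw [← h', ← h, cent_map_conj, cent_map_conj, cent_map_conj]; congr 1; group

theorem norm_const_contra {m w : ℕ} (hm : 2 ≤ m) (hw : 3 ≤ w) (c : ℂ)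
    (h1 : ((m * w : ℕ) : ℂ) * c = -(w : ℂ))
    (h2 : ((m * w : ℕ) : ℂ) * (c * conj c) = ((m * w + 1 : ℕ) : ℂ) * w - (w : ℂ) ^ 2) : False := by
  have hw0 : (w : ℂ) ≠ 0 := Nat.cast_ne_zero.2 (by omega)
  have hm0 : (m : ℂ) ≠ 0 := Nat.cast_ne_zero.2 (by omega)
  push_cast at h1 h2
  have hc : (m : ℂ) * c = -1 := mul_right_cancel₀ hw0 (by linear_combination h1)
  have hc' : (m : ℂ) * conj c = -1 := by
    have := congrArg conj hc
    simpa using this
  have h3 : (1 : ℂ) + w * m = m * m * w + m := by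
    have h4 : ((w : ℂ)) * ((m : ℂ) * c * ((m : ℂ) * conj c) + m * w) = w * (m * (m * w + 1)) := by
      linear_combination (m : ℂ) * h2
    rw [hc, hc'] at h4
    have := mul_left_cancel₀ hw0 h4
    linear_combination this
  have h5 : 1 + w * m = m * m * w + m := by exact_mod_cast h3
  nlinarith [Nat.mul_le_mul_right (m * w + 1) hm]

/-- A simple group of odd order with abelian centralizers is abelian. -/
theorem abelian_of_simple [IsSimpleGroup G] (hodd : Odd (Nat.card G))
    (hCA : AbelianCentralizers G) : ∀ a b : G, a * b = b * a := by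
  classical
  by_contra hnab
  letI := centSetoid G
  haveI : Finite (Quotient (centSetoid G)) := Quotient.finite _
  haveI := Fintype.ofFinite (Quotient (centSetoid G))
  let ι := Quotient (centSetoid G)
  let A : ι → Subgroup G := fun i => cent i.out.1
  let F : ∀ i : ι, Family (A i) := fun i => (nonempty_family hCA hodd i.out.2
    (exists_normalizer_not_mem hCA hnab i.out.2)).some
  have hcover : ∀ z : G, z ≠ 1 → ∃ i : ι, ∃ x : G, x⁻¹ * z * x ∈ A i := by
    intro z hz
    let i : ι := Quotient.mk _ ⟨z, hz⟩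
    obtain ⟨x, hx⟩ := Quotient.mk_out (s := centSetoid G) ⟨z, hz⟩
    refine ⟨i, x, ?_⟩
    have h1 : z ∈ (A i).map (MulAut.conj x).toMonoidHom := by rw [hx]; exact self_mem_cent z
    rwa [Subgroup.mem_map_equiv, MulAut.conj_symm_apply] at h1
  have hdisj : ∀ (i j : ι) (z x : G), z ∈ A i → z ≠ 1 → x⁻¹ * z * x ∈ A j → i = j := by
    intro i j z x hz hz1 hx
    have h1 : x⁻¹ * z * x ≠ 1 := fun h => hz1 (by
      calc z = x * (x⁻¹ * z * x) * x⁻¹ := by group
        _ = 1 := by rw [h]; group)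
    refine Quotient.out_equiv_out.1 ⟨x⁻¹, ?_⟩
    show (A i).map _ = A j
    rw [show A i = cent z from (cent_eq hCA i.out.2 hz1 hz).symm, cent_map_conj, inv_inv]
    exact cent_eq hCA j.out.2 h1 hx
  have hcardinj : ∀ i j : ι, Nat.card (A i) = Nat.card (A j) → i = j := by
    intro i j h
    exact Quotient.out_equiv_out.1 (conj_of_card_eq hCA i.out.2 j.out.2 h)
  -- the class equation
  have hformula : ∀ f : G → ℂ, Cfsg.IsClassFunction G f → ∑ z, f z = f 1 + ∑ i : ι,
      (Nat.card G : ℂ) / (Nat.card (Subgroup.normalizer (A i : Set G)) : ℂ) *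
        ∑ z ∈ punct (A i), f z := by
    intro f hf
    rw [← Finset.add_sum_erase _ _ (Finset.mem_univ (1 : G))]
    congr 1
    have hN : ∀ i : ι, (Nat.card (Subgroup.normalizer (A i : Set G)) : ℂ) ≠ 0 := fun i =>
      Nat.cast_ne_zero.2 Nat.card_pos.ne'
    have h1 : ∀ i : ι, (Nat.card G : ℂ) / (Nat.card (Subgroup.normalizer (A i : Set G)) : ℂ) *
        ∑ z ∈ punct (A i), f z = (Nat.card (Subgroup.normalizer (A i : Set G)) : ℂ)⁻¹ *
          ∑ g : G, ∑ z ∈ punct (A i), f (g * z * g⁻¹) := by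
      intro i
      simp only [hf _ _, Finset.sum_const, Finset.card_univ, ← Nat.card_eq_fintype_card,
        nsmul_eq_mul]
      ring
    rw [Finset.sum_congr rfl fun i _ => h1 i]
    have h2 : ∀ i : ι, ∀ g : G, ∑ z ∈ punct (A i), f (g * z * g⁻¹) =
        ∑ y ∈ Finset.univ.erase (1 : G), if g⁻¹ * y * g ∈ A i then f y else 0 := by
      intro i g
      rw [← Finset.sum_filter]
      refine Finset.sum_bij' (fun z _ => g * z * g⁻¹) (fun y _ => g⁻¹ * y * g) ?_ ?_ ?_ ?_ ?_
      · intro z hz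
        have hg : g⁻¹ * (g * z * g⁻¹) * g = z := by group
        refine Finset.mem_filter.2 ⟨Finset.mem_erase.2 ⟨fun h => (mem_punct.1 hz).2 ?_,
          Finset.mem_univ _⟩, by rw [hg]; exact (mem_punct.1 hz).1⟩
        rw [← hg, h]; group
      · intro y hy
        obtain ⟨hy1, hy2⟩ := Finset.mem_filter.1 hy
        refine mem_punct.2 ⟨hy2, fun h => Finset.ne_of_mem_erase hy1 ?_⟩
        calc y = g * (g⁻¹ * y * g) * g⁻¹ := by group
          _ = 1 := by rw [h]; group
      · intro z _; group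
      · intro y _; group
      · intro z _; rfl
    rw [Finset.sum_congr rfl fun i _ => congrArg (_ * ·) (Finset.sum_congr rfl fun g _ => h2 i g)]
    simp only [Finset.mul_sum]
    rw [Finset.sum_congr rfl fun i _ => Finset.sum_comm, Finset.sum_comm]
    refine Finset.sum_congr rfl fun y hy => ?_
    obtain ⟨i, x, hx⟩ := hcover y (Finset.ne_of_mem_erase hy)
    have hx1 : x⁻¹ * y * x ≠ 1 := fun h => Finset.ne_of_mem_erase hy (by
      calc y = x * (x⁻¹ * y * x) * x⁻¹ := by group
        _ = 1 := by rw [h]; group)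
    rw [Finset.sum_eq_single i]
    · simp only [← Finset.mul_sum]
      rw [← Finset.sum_filter, Finset.sum_const, ← Fintype.card_subtype, ← Nat.card_eq_fintype_card,
        nsmul_eq_mul]
      have hc : Nat.card {g : G // g⁻¹ * y * g ∈ A i} =
          Nat.card (Subgroup.normalizer (A i : Set G)) := by
        refine Nat.card_congr (Equiv.subtypeEquiv (Equiv.mulLeft x⁻¹) fun g => ⟨fun hg => ?_, fun hg => ?_⟩)
        · show x⁻¹ * g ∈ Subgroup.normalizer (A i : Set G)
          refine inv_mem_iff.1 (mem_normalizer_of_meet hCA i.out.2 hx hx1 ?_)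
          rw [show (x⁻¹ * g)⁻¹ * (x⁻¹ * y * x) * (x⁻¹ * g)⁻¹⁻¹ = g⁻¹ * y * g by group]
          exact hg
        · have h3 := (Subgroup.mem_normalizer_iff.1 (inv_mem hg) (x⁻¹ * y * x)).1 hx
          change (x⁻¹ * g)⁻¹ * (x⁻¹ * y * x) * (x⁻¹ * g)⁻¹⁻¹ ∈ A i at h3
          rwa [show (x⁻¹ * g)⁻¹ * (x⁻¹ * y * x) * (x⁻¹ * g)⁻¹⁻¹ = g⁻¹ * y * g by group] at h3
      rw [hc, ← mul_assoc, inv_mul_cancel₀ (hN i), one_mul]
    · intro j _ hj
      refine Finset.sum_eq_zero fun g _ => ?_
      rw [if_neg, mul_zero]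
      intro hg
      refine hj (hdisj i j (x⁻¹ * y * x) (x⁻¹ * g) hx hx1 ?_).symm
      rwa [show (x⁻¹ * g)⁻¹ * (x⁻¹ * y * x) * (x⁻¹ * g) = g⁻¹ * y * g by group]
    · exact fun h => absurd (Finset.mem_univ i) h
  have hone : (fun _ => (1 : ℂ) : G → ℂ) = fun _ => 1 := rfl
  let c : ι → ℕ := fun i => (Subgroup.normalizer (A i : Set G)).index
  have hc : ∀ i, Nat.card G = c i * (Nat.card (A i) * (F i).w) := fun i => by
    rw [← (F i).cardN, Subgroup.index_mul_card]
  have hcdiv : ∀ i, (Nat.card G : ℂ) / (Nat.card (Subgroup.normalizer (A i : Set G)) : ℂ) = c i :=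
    fun i => by
      rw [div_eq_iff (Nat.cast_ne_zero.2 Nat.card_pos.ne'), ← Nat.cast_mul, Subgroup.index_mul_card]
  simp only [hcdiv] at hformula
  have hclassEq : Nat.card G = 1 + ∑ i, c i * ((F i).m * (F i).w) := by
    have h1 := hformula (fun _ => 1) fun _ _ => rfl
    simp only [Finset.sum_const, nsmul_eq_mul, mul_one, Finset.card_univ,
      ← Nat.card_eq_fintype_card, card_punct, (F _).card_eq, Nat.add_sub_cancel] at h1
    exact_mod_cast h1
  -- values of the exceptional characters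
  choose u hu hβu using fun (j : ι) (χ : Cfsg.IrrCharacter G) => (F j).vals χ.1 χ.2
  let θ : ∀ i : ι, Fin (F i).m → Cfsg.IrrCharacter G := fun i s => ⟨(F i).θ s, (F i).hθ s⟩
  have hθinj : ∀ i, Function.Injective (θ i) := fun i s t h =>
    (F i).θinj (congrArg Subtype.val h)
  let t : Cfsg.IrrCharacter G := ⟨fun _ => 1, isIrr_one⟩
  have hself : ∀ i s, ∀ y ∈ punct (A i),
      (θ i s).1 y = (u i (θ i s) : ℂ) + ((F i).ε : ℂ) * (F i).h s y := by
    intro i s y hy
    rw [hu i (θ i s) y (mem_punct.1 hy).1 (mem_punct.1 hy).2]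
    congr 2
    rw [Finset.sum_eq_single s]
    · exact if_pos rfl
    · exact fun r _ hr => if_neg fun h => hr ((F i).θinj h).symm
    · exact fun h => absurd (Finset.mem_univ s) h
  have hothers : ∀ i (χ : Cfsg.IrrCharacter G), (∀ s, χ ≠ θ i s) → ∀ y ∈ punct (A i),
      χ.1 y = (u i χ : ℂ) ∧ Cfsg.classInner (F i).β χ.1 = (u i χ : ℂ) := by
    intro i χ hχ y hy
    have hzero : ∀ s, ¬ χ.1 = (F i).θ s := fun s h => hχ s (Subtype.ext h)
    refine ⟨?_, ?_⟩
    · rw [hu i χ y (mem_punct.1 hy).1 (mem_punct.1 hy).2]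
      simp [hzero]
    · rw [hβu i χ]
      simp [hzero]
  have hpne : ∀ i, ∃ y, y ∈ punct (A i) := fun i => by
    refine Finset.card_pos.1 ?_
    rw [card_punct, (F i).card_eq, Nat.add_sub_cancel]
    exact Nat.mul_pos (by have := (F i).hm; omega) (by have := (F i).hw; omega)
  have hcardp : ∀ i, (punct (A i)).card = (F i).m * (F i).w := fun i => by
    rw [card_punct, (F i).card_eq, Nat.add_sub_cancel]
  -- exceptional characters are not constant on their own subgroup
  have hnonconst : ∀ i s (C : ℂ), ¬ ∀ y ∈ punct (A i), (θ i s).1 y = C := by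
    intro i s C hC
    have hε : ((F i).ε : ℂ) * (F i).ε = 1 := by rcases (F i).hε with h | h <;> simp [h]
    have hh : ∀ y ∈ punct (A i), (F i).h s y = ((F i).ε : ℂ) * (C - (u i (θ i s) : ℂ)) := by
      intro y hy
      rw [← hC y hy, hself i s y hy, add_sub_cancel_left, ← mul_assoc, hε, one_mul]
    have h1 : ∑ y ∈ punct (A i), (F i).h s y = -((F i).w : ℂ) := (F i).sum_h s
    have h2 : ∑ y ∈ punct (A i), (F i).h s y * conj ((F i).h s y) =
        (Nat.card (A i) : ℂ) * (F i).w - ((F i).w : ℂ) ^ 2 := (F i).sum_sq s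
    rw [Finset.sum_congr rfl hh, Finset.sum_const, nsmul_eq_mul, hcardp] at h1
    rw [Finset.sum_congr rfl (fun y hy => by rw [hh y hy]), Finset.sum_const, nsmul_eq_mul, hcardp,
      (F i).card_eq] at h2
    exact norm_const_contra (F i).hm (F i).hw _ h1 h2
  -- families are disjoint
  have hfam : ∀ i j, i ≠ j → ∀ s r, θ i s ≠ θ j r := by
    intro i j hij s r h
    obtain ⟨s', hs'⟩ : ∃ s', s' ≠ s := by
      haveI : Nontrivial (Fin (F i).m) := Fin.nontrivial_iff_two_le.2 (F i).hm
      exact exists_ne s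
    obtain ⟨r', hr'⟩ : ∃ r', r' ≠ r := by
      haveI : Nontrivial (Fin (F j).m) := Fin.nontrivial_iff_two_le.2 (F j).hm
      exact exists_ne r
    have h0 : Cfsg.classInner ((θ i s).1 - (θ i s').1) ((θ j r).1 - (θ j r').1) = 0 := by
      rw [Cfsg.classInner, Finset.sum_eq_zero, mul_zero]
      intro g _
      by_contra hne
      obtain ⟨hne1, hne2⟩ := not_or.1 (mt mul_eq_zero.2 hne)
      rw [map_eq_zero] at hne2
      simp only [Pi.sub_apply, sub_eq_zero] at hne1 hne2
      obtain ⟨hg1, x, hx⟩ := (F i).supp s s' g hne1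
      obtain ⟨-, x', hx'⟩ := (F j).supp r r' g hne2
      refine hij (hdisj i j (x⁻¹ * g * x) (x⁻¹ * x') hx (fun h => hg1 ?_) ?_)
      · calc g = x * (x⁻¹ * g * x) * x⁻¹ := by group
          _ = 1 := by rw [h]; group
      · rwa [show (x⁻¹ * x')⁻¹ * (x⁻¹ * g * x) * (x⁻¹ * x') = x'⁻¹ * g * x' by group]
    have n1 : θ i s ≠ θ j r' := fun e => hr' (hθinj j (e.symm.trans h))
    have n2 : θ i s' ≠ θ j r := fun e => hs' (hθinj i (e.trans h.symm))
    rw [classInner_sub_left, classInner_sub_right, classInner_sub_right, classInner_irr,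
      classInner_irr, classInner_irr, classInner_irr, if_pos h, if_neg n1, if_neg n2] at h0
    split_ifs at h0 <;> norm_num at h0
  have hothu : ∀ i j, i ≠ j → ∀ s, ∀ y ∈ punct (A j), (θ i s).1 y = (u j (θ i s) : ℂ) :=
    fun i j hij s y hy => (hothers j _ (fun r => hfam i j hij s r) y hy).1
  have hconst : ∀ i j, i ≠ j → ∀ s r, u j (θ i s) = u j (θ i r) := by
    intro i j hij s r
    obtain ⟨y, hy⟩ := hpne j
    have h1 : (θ i s).1 y = (θ i r).1 y := by
      by_contra hne
      obtain ⟨hy1, x, hx⟩ := (F i).supp s r y hne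
      exact hij (hdisj j i y x (mem_punct.1 hy).1 hy1 hx).symm
    rw [hothu i j hij s y hy, hothu i j hij r y hy] at h1
    exact_mod_cast h1
  have hsumself : ∀ i s, ∑ y ∈ punct (A i), (θ i s).1 y =
      ((F i).m * (F i).w : ℕ) * (u i (θ i s) : ℂ) - ((F i).ε : ℂ) * (F i).w := by
    intro i s
    rw [Finset.sum_congr rfl (hself i s), Finset.sum_add_distrib, Finset.sum_const, nsmul_eq_mul,
      hcardp, ← Finset.mul_sum,
      show ∑ y ∈ punct (A i), (F i).h s y = -((F i).w : ℂ) from (F i).sum_h s]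
    ring
  have huconst : ∀ i s r, u i (θ i s) = u i (θ i r) := by
    intro i s r
    let D : G → ℂ := (θ i s).1 - (θ i r).1
    have hDc : Cfsg.IsClassFunction G D := fun g x => by
      simp only [D, Pi.sub_apply, isClassFunction_of_isIrr (θ i s).2 g x,
        isClassFunction_of_isIrr (θ i r).2 g x]
    have h1 := hformula D hDc
    have hD : ∀ g, D g ≠ 0 → g ≠ 1 ∧ ∃ x : G, x⁻¹ * g * x ∈ A i := fun g hg =>
      (F i).supp s r g fun e => hg (by simp only [D, Pi.sub_apply]; exact sub_eq_zero.2 e)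
    have hD1 : D 1 = 0 := by_contra fun h => (hD 1 h).1 rfl
    have hsum : ∑ z, D z = 0 := by
      have h2 : Cfsg.classInner D (t : G → ℂ) = 0 := by
        rw [show D = (θ i s).1 - (θ i r).1 from rfl, classInner_sub_left,
          classInner_isIrr_ne (θ i s).2 t.2 ((F i).θne s),
          classInner_isIrr_ne (θ i r).2 t.2 ((F i).θne r), sub_zero]
      rw [Cfsg.classInner, mul_eq_zero] at h2
      simpa [t] using h2.resolve_left (inv_ne_zero natCard_ne_zero)
    rw [hsum, hD1, zero_add, Finset.sum_eq_single i] at h1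
    · have hc0 : (c i : ℂ) ≠ 0 := Nat.cast_ne_zero.2 fun h0 => by
        have := hc i; rw [h0, zero_mul] at this; exact Nat.card_pos.ne' this
      have h3 := (mul_eq_zero.1 h1.symm).resolve_left hc0
      simp only [D, Pi.sub_apply, Finset.sum_sub_distrib, hsumself] at h3
      have hmw : (((F i).m * (F i).w : ℕ) : ℂ) ≠ 0 := Nat.cast_ne_zero.2 (Nat.mul_ne_zero
        (by have := (F i).hm; omega) (by have := (F i).hw; omega))
      have h4 : (u i (θ i s) : ℂ) = (u i (θ i r) : ℂ) :=
        mul_left_cancel₀ hmw (by linear_combination h3)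
      exact_mod_cast h4
    · intro j _ hj
      rw [Finset.sum_eq_zero fun y hy => ?_, mul_zero]
      by_contra hne
      obtain ⟨-, x, hx⟩ := hD y hne
      exact hj (hdisj j i y x (mem_punct.1 hy).1 (mem_punct.1 hy).2 hx)
    · exact fun h => absurd (Finset.mem_univ i) h
  -- multiplicities in the auxiliary class functions
  let b : ι → Cfsg.IrrCharacter G → ℤ := fun j χ =>
    u j χ - (F j).ε * if χ.1 = (F j).θ (F j).s₀ then 1 else 0
  have hb : ∀ j (χ : Cfsg.IrrCharacter G), Cfsg.classInner (F j).β (χ : G → ℂ) = (b j χ : ℂ) := fun j χ => by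
    rw [hβu j χ]; simp only [b]; push_cast; rfl
  have hbt : ∀ j, b j t = 1 := fun j => by
    have := (hb j t).symm.trans (F j).βone
    exact_mod_cast this
  have hbout : ∀ j χ, (∀ s, χ ≠ θ j s) → b j χ = u j χ := by
    intro j χ hχ
    simp [b, show ¬ χ.1 = (F j).θ (F j).s₀ from fun h => hχ _ (Subtype.ext h)]
  let Im : ι → Finset (Cfsg.IrrCharacter G) := fun j => Finset.univ.image (θ j)
  have hnotIm : ∀ j χ, χ ∉ Im j → ∀ s, χ ≠ θ j s := fun j χ h s e =>
    h (Finset.mem_image.2 ⟨s, Finset.mem_univ s, e.symm⟩)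
  have hImdisj : ∀ i j, i ≠ j → Disjoint (Im i) (Im j) := by
    intro i j hij
    rw [Finset.disjoint_left]
    intro χ hi hj
    obtain ⟨s, -, rfl⟩ := Finset.mem_image.1 hi
    obtain ⟨r, -, hr⟩ := Finset.mem_image.1 hj
    exact hfam i j hij s r hr.symm
  have htIm : ∀ j, t ∉ Im j := fun j h => by
    obtain ⟨s, -, hs⟩ := Finset.mem_image.1 h
    exact (F j).θne s (congrArg Subtype.val hs)
  have hnormsum : ∀ j, ∑ χ, b j χ ^ 2 = (F j).w + 1 := by
    intro j
    have h1 := classInner_eq_sum (F j).βclass (F j).β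
    simp only [hb, map_intCast, (F j).βnorm] at h1
    have h2 : ((∑ χ, b j χ ^ 2 : ℤ) : ℂ) = (((F j).w + 1 : ℕ) : ℂ) := by
      push_cast
      rw [h1]
      exact Finset.sum_congr rfl fun χ _ => sq _
    exact_mod_cast h2
  let cj : Cfsg.IrrCharacter G → Cfsg.IrrCharacter G := fun χ => ⟨_, isIrr_conj χ.2⟩
  have hpar : ∀ i j, i ≠ j → u j (θ i (F i).s₀) ≠ 0 ∨ u i (θ j (F j).s₀) ≠ 0 := by
    intro i j hij
    by_contra hcon
    push Not at hcon
    obtain ⟨h1, h2⟩ := hcon
    have hzero : ∑ χ, b i χ * b j χ = 0 := by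
      have h3 := classInner_eq_sum (F i).βclass (F j).β
      simp only [hb, map_intCast] at h3
      have h4 : Cfsg.classInner (F i).β (F j).β = 0 := by
        rw [Cfsg.classInner, Finset.sum_eq_zero, mul_zero]
        intro g _
        by_contra hne
        obtain ⟨hne1, hne2⟩ := not_or.1 (mt mul_eq_zero.2 hne)
        rw [map_eq_zero] at hne2
        obtain ⟨hg1, x, hx⟩ := (F i).βsupp g hne1
        obtain ⟨-, x', hx'⟩ := (F j).βsupp g hne2
        refine hij (hdisj i j (x⁻¹ * g * x) (x⁻¹ * x') hx (fun h => hg1 ?_) ?_)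
        · calc g = x * (x⁻¹ * g * x) * x⁻¹ := by group
            _ = 1 := by rw [h]; group
        · rwa [show (x⁻¹ * x')⁻¹ * (x⁻¹ * g * x) * (x⁻¹ * x') = x'⁻¹ * g * x' by group]
      rw [h4] at h3
      have h5 : ((∑ χ, b i χ * b j χ : ℤ) : ℂ) = ((0 : ℤ) : ℂ) := by push_cast; exact h3.symm
      exact_mod_cast h5
    let R : Finset (Cfsg.IrrCharacter G) := (Finset.univ.erase t) \ (Im i ∪ Im j)
    have hRmem : ∀ χ, χ ∈ R ↔ χ ≠ t ∧ χ ∉ Im i ∧ χ ∉ Im j := fun χ => by
      simp [R]
    have hcj : ∀ χ ∈ R, cj χ ∈ R ∧ b i (cj χ) = b i χ ∧ b j (cj χ) = b j χ := by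
      intro χ hχ
      obtain ⟨hχt, hχi, hχj⟩ := (hRmem χ).1 hχ
      have hk : ∀ k, χ ∉ Im k → cj χ ∉ Im k ∧ b k (cj χ) = b k χ := by
        intro k hχk
        have hval : ∀ y ∈ punct (A k), (cj χ).1 y = (u k χ : ℂ) := fun y hy => by
          show conj (χ.1 y) = _
          rw [(hothers k χ (hnotIm k χ hχk) y hy).1, map_intCast]
        have hnot : cj χ ∉ Im k := fun h => by
          obtain ⟨s, -, hs⟩ := Finset.mem_image.1 h
          exact hnonconst k s _ (hs ▸ hval)
        refine ⟨hnot, ?_⟩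
        rw [hbout k χ (hnotIm k χ hχk), hbout k _ (hnotIm k _ hnot)]
        obtain ⟨y, hy⟩ := hpne k
        have h3 := (hothers k _ (hnotIm k _ hnot) y hy).1
        rw [hval y hy] at h3
        exact_mod_cast h3.symm
      refine ⟨(hRmem _).2 ⟨fun h => hχt (Subtype.ext (funext fun g => ?_)), (hk i hχi).1,
        (hk j hχj).1⟩, (hk i hχi).2, (hk j hχj).2⟩
      have h3 := congrArg (fun ψ : Cfsg.IrrCharacter G => conj (ψ.1 g)) h
      simpa [cj, t] using h3
    have hReven : ((∑ χ ∈ R, b i χ * b j χ : ℤ) : ZMod 2) = 0 := by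
      push_cast
      refine Finset.sum_involution (fun χ _ => cj χ) (fun χ hχ => ?_) (fun χ hχ _ h => ?_)
        (fun χ hχ => (hcj χ hχ).1) (fun χ hχ => Subtype.ext (funext fun g => Complex.conj_conj _))
      · rw [(hcj χ hχ).2.1, (hcj χ hχ).2.2]
        exact CharTwo.add_self_eq_zero _
      · refine ((hRmem χ).1 hχ).1 (Subtype.ext (eq_one_of_real_of_odd hodd χ.2 fun g => ?_))
        exact Complex.conj_eq_iff_im.1 (congrFun (congrArg Subtype.val h) g)
    have hsub : ∀ i j, i ≠ j → u j (θ i (F i).s₀) = 0 → ∑ χ ∈ Im i, b i χ * b j χ = 0 := by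
      intro i j hij h0
      refine Finset.sum_eq_zero fun χ hχ => ?_
      obtain ⟨s, -, rfl⟩ := Finset.mem_image.1 hχ
      rw [hbout j _ (fun r => hfam i j hij s r), hconst i j hij s (F i).s₀, h0, mul_zero]
    have hsub' : ∑ χ ∈ Im j, b i χ * b j χ = 0 := by
      rw [← hsub j i (Ne.symm hij) h2]
      exact Finset.sum_congr rfl fun χ _ => mul_comm _ _
    have hsplit : ∑ χ, b i χ * b j χ = 1 + ∑ χ ∈ R, b i χ * b j χ := by
      rw [← Finset.add_sum_erase _ _ (Finset.mem_univ t), hbt, hbt, mul_one]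
      congr 1
      rw [← Finset.sum_sdiff (s₁ := Im i ∪ Im j) (fun χ hχ => Finset.mem_erase.2
        ⟨fun e => by rw [e] at hχ; exact (Finset.mem_union.1 hχ).elim (htIm i) (htIm j),
          Finset.mem_univ _⟩),
        Finset.sum_union (hImdisj i j hij), hsub i j hij h1,
        hsub', add_zero, add_zero]
    rw [hzero] at hsplit
    have h6 : ((0 : ℤ) : ZMod 2) = ((1 + ∑ χ ∈ R, b i χ * b j χ : ℤ) : ZMod 2) := by rw [← hsplit]
    rw [Int.cast_add, hReven] at h6
    simp at h6
  -- choose the class with the least index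
  haveI : Nonempty ι := by
    obtain ⟨g, hg⟩ := exists_ne (1 : G)
    exact ⟨Quotient.mk _ ⟨g, hg⟩⟩
  obtain ⟨i, -, hi⟩ := Finset.exists_min_image Finset.univ (fun i => (F i).w) Finset.univ_nonempty
  replace hi : ∀ j, (F i).w ≤ (F j).w := fun j => hi j (Finset.mem_univ j)
  let J : Finset ι := (Finset.univ.erase i).filter fun j => u i (θ j (F j).s₀) ≠ 0
  let out : Finset ι := (Finset.univ.erase i).filter fun j => u j (θ i (F i).s₀) ≠ 0
  have hJ : ∑ j ∈ J, (F j).m + 1 ≤ (F i).w := by
    have hsum := hnormsum i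
    rw [← Finset.add_sum_erase _ _ (Finset.mem_univ t), hbt, one_pow] at hsum
    have hsubset : Im i ∪ J.biUnion Im ⊆ Finset.univ.erase t := fun χ hχ =>
      Finset.mem_erase.2 ⟨fun e => by
        subst e
        rcases Finset.mem_union.1 hχ with h | h
        · exact htIm i h
        · obtain ⟨j, -, hj⟩ := Finset.mem_biUnion.1 h
          exact htIm j hj, Finset.mem_univ _⟩
    have hle := Finset.sum_le_sum_of_subset_of_nonneg (f := fun χ => b i χ ^ 2) hsubset
      fun _ _ _ => sq_nonneg _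
    have hdis : Disjoint (Im i) (J.biUnion Im) := by
      rw [Finset.disjoint_biUnion_right]
      intro j hj
      exact hImdisj i j (Ne.symm (Finset.ne_of_mem_erase (Finset.mem_filter.1 hj).1))
    rw [Finset.sum_union hdis, Finset.sum_biUnion fun j _ k _ hjk => hImdisj j k hjk] at hle
    have hi1 : 1 ≤ ∑ χ ∈ Im i, b i χ ^ 2 := by
      by_cases h0 : u i (θ i (F i).s₀) = 0
      · refine le_trans ?_ (Finset.single_le_sum (fun χ _ => sq_nonneg (b i χ))
          (Finset.mem_image_of_mem (θ i) (Finset.mem_univ (F i).s₀)))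
        have : b i (θ i (F i).s₀) = -(F i).ε := by simp [b, h0, θ]
        rw [this]
        rcases (F i).hε with e | e <;> simp [e]
      · obtain ⟨s, hs⟩ : ∃ s, s ≠ (F i).s₀ := by
          haveI : Nontrivial (Fin (F i).m) := Fin.nontrivial_iff_two_le.2 (F i).hm
          exact exists_ne _
        refine le_trans ?_ (Finset.single_le_sum (fun χ _ => sq_nonneg (b i χ))
          (Finset.mem_image_of_mem (θ i) (Finset.mem_univ s)))
        have : b i (θ i s) = u i (θ i (F i).s₀) := by
          rw [← huconst i s]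
          have : ¬ (θ i s).1 = (F i).θ (F i).s₀ := fun h => hs ((F i).θinj h)
          simp [b, this]
        rw [this]
        exact Int.add_one_le_iff.2 (sq_pos_of_ne_zero h0)
    have hJ1 : ∀ j ∈ J, ((F j).m : ℤ) ≤ ∑ χ ∈ Im j, b i χ ^ 2 := by
      intro j hj
      obtain ⟨hji, hne⟩ := Finset.mem_filter.1 hj
      have hji' : j ≠ i := Finset.ne_of_mem_erase hji
      rw [Finset.sum_image fun a _ b _ h => hθinj j h]
      calc ((F j).m : ℤ) = ∑ _s : Fin (F j).m, (1 : ℤ) := by simp
        _ ≤ _ := Finset.sum_le_sum fun s _ => by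
          rw [hbout i _ (fun r => hfam j i hji' s r), hconst j i hji' s (F j).s₀]
          exact Int.add_one_le_iff.2 (sq_pos_of_ne_zero hne)
    have hJ2 := Finset.sum_le_sum hJ1
    have : ((∑ j ∈ J, (F j).m + 1 : ℕ) : ℤ) ≤ ((F i).w : ℤ) := by
      push_cast; linarith
    exact_mod_cast this
  set x : Cfsg.IrrCharacter G := θ i (F i).s₀ with hx
  have hout : (∑ j ∈ out, c j * ((F j).m * (F j).w)) + 1 ≤ c i * ((F i).w * (F i).w) := by
    let f : G → ℂ := fun g => x.1 g * conj (x.1 g)
    have hf : Cfsg.IsClassFunction G f := fun g k => by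
      simp only [f, isClassFunction_of_isIrr x.2 g k]
    have h1 := hformula f hf
    have h2 : ∑ z, f z = (Nat.card G : ℂ) := by
      have h := classInner_isIrr_self x.2
      rw [Cfsg.classInner, inv_mul_eq_one₀ natCard_ne_zero] at h
      exact h.symm
    obtain ⟨d, hd0, hd⟩ := exists_degree_pos x.2
    rw [h2, show f 1 = (d : ℂ) * d by simp [f, hd], ← Finset.add_sum_erase _ _ (Finset.mem_univ i)] at h1
    set U : ℤ := u i x with hU
    have hε : ((F i).ε : ℂ) * (F i).ε = 1 := by rcases (F i).hε with h | h <;> simp [h]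
    have hh : ∑ y ∈ punct (A i), f y = ((F i).m * (F i).w : ℕ) * ((U : ℂ) * U) -
        2 * ((F i).ε : ℂ) * U * (F i).w +
          ((Nat.card (A i) : ℂ) * (F i).w - ((F i).w : ℂ) ^ 2) := by
      have h3 : ∑ y ∈ punct (A i), (F i).h (F i).s₀ y = -((F i).w : ℂ) := (F i).sum_h _
      have h4 : ∑ y ∈ punct (A i), conj ((F i).h (F i).s₀ y) = -((F i).w : ℂ) := by
        rw [← map_sum, h3, map_neg, Complex.conj_natCast]
      have h5 : ∑ y ∈ punct (A i), (F i).h (F i).s₀ y * conj ((F i).h (F i).s₀ y) =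
          (Nat.card (A i) : ℂ) * (F i).w - ((F i).w : ℂ) ^ 2 := (F i).sum_sq _
      have h6 : ∀ y ∈ punct (A i), f y = (U : ℂ) * U + ((F i).ε : ℂ) * U * (F i).h (F i).s₀ y +
          ((F i).ε : ℂ) * U * conj ((F i).h (F i).s₀ y) +
            (F i).h (F i).s₀ y * conj ((F i).h (F i).s₀ y) := by
        intro y hy
        simp only [f, hU, hx, hself i (F i).s₀ y hy, map_add, map_mul, map_intCast]
        linear_combination ((F i).h (F i).s₀ y * conj ((F i).h (F i).s₀ y)) * hε
      rw [Finset.sum_congr rfl h6]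
      simp only [Finset.sum_add_distrib, ← Finset.mul_sum, Finset.sum_const, nsmul_eq_mul, hcardp,
        h3, h4, h5]
      ring
    have hoth : ∀ j ∈ Finset.univ.erase i, ∑ y ∈ punct (A j), f y =
        (((F j).m * (F j).w : ℕ) : ℂ) * ((u j x : ℂ) * u j x) := by
      intro j hj
      have hji := Ne.symm (Finset.ne_of_mem_erase hj)
      rw [Finset.sum_congr rfl (g := fun _ => (u j x : ℂ) * u j x) fun y hy => ?_,
        Finset.sum_const, nsmul_eq_mul, hcardp]
      simp only [f, hx, hothu i j hji (F i).s₀ y hy, map_intCast]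
    rw [hh, Finset.sum_congr rfl fun j hj => by rw [hoth j hj], (F i).card_eq] at h1
    have h7 : (Nat.card G : ℤ) = (d : ℤ) * d + ((c i : ℤ) * (((F i).m * (F i).w : ℕ) * (U * U) -
        2 * (F i).ε * U * (F i).w + ((((F i).m * (F i).w + 1 : ℕ) : ℤ) * (F i).w - ((F i).w : ℤ) ^ 2)) +
        ∑ j ∈ Finset.univ.erase i, (c j : ℤ) * (((F j).m * (F j).w : ℕ) * (u j x * u j x))) := by
      refine Int.cast_injective (α := ℂ) ?_
      push_cast at h1 ⊢
      exact h1
    have hge : ((∑ j ∈ out, c j * ((F j).m * (F j).w) : ℕ) : ℤ) ≤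
        ∑ j ∈ Finset.univ.erase i, (c j : ℤ) * (((F j).m * (F j).w : ℕ) * (u j x * u j x)) := by
      push_cast
      refine le_trans (Finset.sum_le_sum fun j hj => ?_)
        (Finset.sum_le_sum_of_subset_of_nonneg (Finset.filter_subset _ _) fun j _ _ =>
          mul_nonneg (Nat.cast_nonneg _) (mul_nonneg (by positivity) (mul_self_nonneg _)))
      have hne : u j x ≠ 0 := (Finset.mem_filter.1 hj).2
      have h1u : 1 ≤ u j x * u j x := Int.add_one_le_iff.2 (mul_self_pos.2 hne)
      exact mul_le_mul_of_nonneg_left (le_mul_of_one_le_right (by positivity) h1u) (Nat.cast_nonneg _)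
    have hU2 : 0 ≤ ((F i).m : ℤ) * (U * U) - 2 * (F i).ε * U := by
      have hm : (2 : ℤ) ≤ (F i).m := by exact_mod_cast (F i).hm
      have hUU : 2 * (U * U) ≤ ((F i).m : ℤ) * (U * U) :=
        mul_le_mul_of_nonneg_right hm (mul_self_nonneg U)
      have hUabs : |U| ≤ U * U := by
        rcases eq_or_ne U 0 with h | h
        · simp [h]
        · rw [← abs_mul_abs_self U]
          exact le_mul_of_one_le_left (abs_nonneg _) (Int.one_le_abs h)
      have h1 := le_abs_self U
      have h2 := neg_abs_le U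
      rcases (F i).hε with e | e <;> rw [e] <;> linarith
    have hcn : (Nat.card G : ℤ) = c i * ((((F i).m * (F i).w + 1 : ℕ) : ℤ) * (F i).w) := by
      rw [← (F i).card_eq]; exact_mod_cast hc i
    have hd1 : (1 : ℤ) ≤ (d : ℤ) * d := by
      have : 1 ≤ d * d := Nat.mul_pos hd0 hd0
      exact_mod_cast this
    have key : ((∑ j ∈ out, c j * ((F j).m * (F j).w) + 1 : ℕ) : ℤ) ≤
        ((c i * ((F i).w * (F i).w) : ℕ) : ℤ) := by
      have hp := mul_nonneg (mul_nonneg (Nat.cast_nonneg (α := ℤ) (c i))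
        (Nat.cast_nonneg (α := ℤ) (F i).w)) hU2
      push_cast at h7 hge hcn ⊢
      nlinarith
    exact_mod_cast key
  -- put everything together
  have hcw : ∀ j, c j * ((F j).w * ((F j).m * (F j).w)) ≤ Nat.card G := fun j => by
    rw [hc j, (F j).card_eq]
    exact Nat.mul_le_mul_left _ (by rw [Nat.add_mul, one_mul, mul_comm]; omega)
  have hcov : ∑ j ∈ Finset.univ.erase i, c j * ((F j).m * (F j).w) ≤
      ∑ j ∈ out, c j * ((F j).m * (F j).w) + ∑ j ∈ J, c j * ((F j).m * (F j).w) := by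
    rw [← Finset.sum_union_inter]
    refine le_trans (Finset.sum_le_sum_of_subset fun j hj => ?_) (Nat.le_add_right _ _)
    rcases hpar i j (Ne.symm (Finset.ne_of_mem_erase hj)) with h | h
    · exact Finset.mem_union_left _ (Finset.mem_filter.2 ⟨hj, h⟩)
    · exact Finset.mem_union_right _ (Finset.mem_filter.2 ⟨hj, h⟩)
  have hn := hclassEq
  rw [← Finset.add_sum_erase _ _ (Finset.mem_univ i)] at hn
  have hm := (F i).hm
  have hw := (F i).hw
  have hci := hc i
  rw [(F i).card_eq] at hci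
  have hcpos : 0 < c i := Nat.pos_of_ne_zero fun h0 => by
    rw [h0, zero_mul] at hci; exact Nat.card_pos.ne' hci
  obtain ⟨m, hme⟩ : ∃ m, m = (F i).m := ⟨_, rfl⟩
  obtain ⟨e, hee⟩ : ∃ e, e = (F i).w := ⟨_, rfl⟩
  rw [← hme, ← hee] at hn hci
  rw [← hee] at hJ hw hout
  rw [← hme] at hm
  have hmev : Even m := hme ▸ (F i).meven
  have htot : Nat.card G ≤ c i * (m * e + e * e) + ∑ j ∈ J, c j * ((F j).m * (F j).w) := by
    rw [Nat.mul_add]; omega
  have hmJ : ∀ j, 2 ≤ (F j).m := fun j => (F j).hm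
  rcases Nat.lt_or_ge m 4 with hm4 | hm4
  · have hm2 : m = 2 := by obtain ⟨k, hk⟩ := hmev; omega
    have hterm : ∀ j ∈ J, 2 * (e + 2) * (c j * ((F j).m * (F j).w)) ≤ Nat.card G * (F j).m := by
      intro j hj
      have hw' : 2 * (e + 2) ≤ (F j).m * (F j).w := by
        rcases Nat.lt_or_ge (F j).m 4 with h4 | h4
        · have hj2 : (F j).m = 2 := by
            obtain ⟨k, hk⟩ := (F j).meven
            have := (F j).hm
            omega
          rw [hj2]
          have hne : (F j).w ≠ e := fun he => Finset.ne_of_mem_erase (Finset.mem_filter.1 hj).1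
            (hcardinj j i (by rw [(F j).card_eq, (F i).card_eq, hj2, he, ← hme, hm2, hee]))
          have h1 : e ≤ (F j).w := hee ▸ hi j
          have o1 : Odd (F j).w := hodd.of_dvd_nat
            (Dvd.intro_left (c j * Nat.card (A j)) (by rw [hc j, mul_assoc]))
          have o2 : Odd e := hodd.of_dvd_nat
            (Dvd.intro_left (c i * (m * e + 1)) (by rw [hci, mul_assoc]))
          obtain ⟨p, hp⟩ := o1
          obtain ⟨q, hq⟩ := o2
          omega
        · have h1 : e ≤ (F j).w := hee ▸ hi j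
          have := Nat.mul_le_mul h4 h1
          omega
      calc 2 * (e + 2) * (c j * ((F j).m * (F j).w))
          ≤ (F j).m * (F j).w * (c j * ((F j).m * (F j).w)) := Nat.mul_le_mul_right _ hw'
        _ = (F j).m * (c j * ((F j).w * ((F j).m * (F j).w))) := by ring
        _ ≤ (F j).m * Nat.card G := Nat.mul_le_mul_left _ (hcw j)
        _ = _ := mul_comm _ _
    have h1 := Finset.sum_le_sum hterm
    rw [← Finset.mul_sum, ← Finset.mul_sum] at h1
    have h2 : Nat.card G * (∑ j ∈ J, (F j).m) + Nat.card G ≤ Nat.card G * e := by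
      rw [← Nat.mul_succ]; exact Nat.mul_le_mul_left _ hJ
    have h3 := Nat.mul_le_mul_left (2 * (e + 2)) htot
    rw [hm2] at hci h3
    rw [hci] at h1 h2 h3
    nlinarith
  · have hterm : ∀ j ∈ J, 2 * e * (c j * ((F j).m * (F j).w)) ≤ Nat.card G * (F j).m := by
      intro j _
      calc 2 * e * (c j * ((F j).m * (F j).w))
          ≤ (F j).m * (F j).w * (c j * ((F j).m * (F j).w)) :=
            Nat.mul_le_mul_right _ (Nat.mul_le_mul (hmJ j) (hee ▸ hi j))
        _ = (F j).m * (c j * ((F j).w * ((F j).m * (F j).w))) := by ring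
        _ ≤ (F j).m * Nat.card G := Nat.mul_le_mul_left _ (hcw j)
        _ = _ := mul_comm _ _
    have h1 := Finset.sum_le_sum hterm
    rw [← Finset.mul_sum, ← Finset.mul_sum] at h1
    have h2 : Nat.card G * (∑ j ∈ J, (F j).m) + Nat.card G ≤ Nat.card G * e := by
      rw [← Nat.mul_succ]; exact Nat.mul_le_mul_left _ hJ
    have h3 := Nat.mul_le_mul_left (2 * e) htot
    rw [hci] at h1 h2 h3
    have h4 : (e + 1) * (m * e + 1) ≤ 2 * e * (m + e) := by
      have h5 : c i * e * ((e + 1) * (m * e + 1)) ≤ c i * e * (2 * e * (m + e)) := by nlinarith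
      exact Nat.le_of_mul_le_mul_left h5 (Nat.mul_pos hcpos (by omega))
    nlinarith [Nat.mul_le_mul_right (e * e) hm4, Nat.mul_le_mul_left (e * m) hw]

/-- The CA theorem for groups of odd order. -/
theorem isSolvable_of_odd {G : Type u} [Group G] [Finite G] (hodd : Odd (Nat.card G))
    (hCA : AbelianCentralizers G) : Group.IsSolvable G :=
  solvable_of_no_simple (fun H _ _ _ ho hc => by
    haveI := Fintype.ofFinite H
    exact abelian_of_simple ho hc) (Nat.card G) G rfl hodd hCA

end CfsgLib.Characters.CA
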