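import Cfsg.Agent.Characters.CAStructure
import Cfsg.Agent.Characters.Generalized
import Cfsg.Agent.Characters.Induction
import Cfsg.Agent.CharactersDeep.Clifford
import Cfsg.Agent.S0150
import Cfsg.Agent.S0170
import Cfsg.Agent.S0193

/-!
# The exceptional family attached to an abelian centralizer
-/

set_option autoImplicit false
set_option linter.style.haveILetI false
set_option linter.unusedSectionVars false

namespace CfsgLib.Characters.CA

open scoped ComplexConjugate
open CfsgLib.OddOrderChar (conjBy)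
open CfsgLib.CharactersDeep.Clifford (orbit mem_orbit)

universe u

variable {G : Type u} [Group G] [Fintype G]

open Classical in
/-- What the counting argument uses about one class of abelian centralizers. -/
structure Family (A : Subgroup G) where
  m : ℕ
  w : ℕ
  hm : 2 ≤ m
  meven : Even m
  hw : 3 ≤ w
  card_eq : Nat.card A = m * w + 1
  cardN : Nat.card (Subgroup.normalizer (A : Set G)) = Nat.card A * w
  ε : ℤ
  hε : ε = 1 ∨ ε = -1
  θ : Fin m → G → ℂ
  hθ : ∀ s, Cfsg.IsIrrCharacter G (θ s)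
  θinj : Function.Injective θ
  θne : ∀ s, θ s ≠ fun _ => 1
  supp : ∀ s t g, θ s g ≠ θ t g → g ≠ 1 ∧ ∃ x : G, x⁻¹ * g * x ∈ A
  h : Fin m → G → ℂ
  sum_h : ∀ s, ∑ y ∈ Finset.univ.filter (fun y => y ∈ A ∧ y ≠ 1), h s y = -(w : ℂ)
  sum_sq : ∀ s, ∑ y ∈ Finset.univ.filter (fun y => y ∈ A ∧ y ≠ 1), h s y * conj (h s y) =
    (Nat.card A : ℂ) * w - (w : ℂ) ^ 2
  s₀ : Fin m
  β : G → ℂ
  βclass : Cfsg.IsClassFunction G β
  βsupp : ∀ g, β g ≠ 0 → g ≠ 1 ∧ ∃ x : G, x⁻¹ * g * x ∈ A
  βnorm : Cfsg.classInner β β = (w : ℂ) + 1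
  βone : Cfsg.classInner β (fun _ => 1) = 1
  vals : ∀ Θ : G → ℂ, Cfsg.IsIrrCharacter G Θ → ∃ u : ℤ,
    (∀ y ∈ A, y ≠ 1 → Θ y = (u : ℂ) + (ε : ℂ) * ∑ s, if Θ = θ s then h s y else 0) ∧
      Cfsg.classInner β Θ = (u : ℂ) - (ε : ℂ) * if Θ = θ s₀ then 1 else 0

theorem conj_eq_self_of_sub {z : ℂ} (k : ℤ) (h : z = (k : ℂ)) : conj z = z := by
  rw [h, map_intCast]

theorem nonempty_family (hCA : AbelianCentralizers G) (hodd : Odd (Nat.card G)) {y : G}
    (hy : y ≠ 1) (hN : ∃ g ∈ Subgroup.normalizer (cent y : Set G), g ∉ cent y) :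
    Nonempty (Family (cent y)) := by
  classical
  set A := cent y with hA
  set N := Subgroup.normalizer (A : Set G) with hNdef
  have hAN : A ≤ N := Subgroup.le_normalizer
  haveI := Fintype.ofFinite N
  set A' := A.subgroupOf N with hA'
  haveI hA'n : A'.Normal := Subgroup.normal_in_normalizer
  haveI := Fintype.ofFinite A'
  set a := Nat.card A with ha
  set w := A'.index with hw
  have ha' : Nat.card A' = a := Nat.card_congr (Subgroup.subgroupOfEquivOfLe hAN).toEquiv
  have hcardN : Nat.card N = a * w := by rw [← ha', mul_comm]; exact (Subgroup.index_mul_card A').symm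
  have hab : ∀ p q : A', p * q = q * p := fun p q =>
    Subtype.ext (Subtype.ext (hCA y hy _ p.2 _ q.2))
  -- fixed point freeness on linear characters
  have hfix : ∀ (g : N) (θ : A' → ℂ), g ∉ A' → Cfsg.IsIrrCharacter A' θ →
      conjBy A' θ g = θ → θ = fun _ => 1 := by
    intro g θ hg hθ hfx
    obtain ⟨f, rfl⟩ : ∃ f : A' →* ℂˣ, θ = fun x => (f x : ℂ) := by
      refine exists_hom_of_degree_one (isCharacter_of_isIrr hθ) ?_
      obtain ⟨n, ρ, hρ, rfl⟩ := hθ
      haveI : IsMulCommutative A' := ⟨⟨hab⟩⟩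
      rw [Representation.char_one, Representation.IsIrreducible.finrank_eq_one_of_isMulCommutative ρ,
        Nat.cast_one]
    let c : A' → A' := fun x => ⟨g * x * g⁻¹, hA'n.conj_mem x x.2 g⟩ * x⁻¹
    have hc : Function.Surjective c := by
      refine Finite.injective_iff_surjective.1 fun p q hpq => ?_
      have h1 := congrArg (fun z : A' => ((z : N) : G)) hpq
      simp only [c, Subgroup.coe_mul, Subgroup.coe_inv] at h1
      have hpq' : ((q : N) : G)⁻¹ * p = p * ((q : N) : G)⁻¹ :=
        hCA y hy _ (inv_mem q.2) _ p.2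
      have h2 : (g : G) * (((q : N) : G)⁻¹ * p) = ((q : N) : G)⁻¹ * p * g :=
        calc (g : G) * (((q : N) : G)⁻¹ * p)
            = ((g : G) * q * (g : G)⁻¹ * ((q : N) : G)⁻¹ * q)⁻¹ *
              ((g : G) * p * (g : G)⁻¹ * ((p : N) : G)⁻¹) * p * g := by group
          _ = ((q : N) : G)⁻¹ * p * g := by rw [h1]; group
      have h3 := free_action hCA hy (fun h => hg h) (mul_mem (inv_mem q.2) p.2) h2
      exact Subtype.ext (Subtype.ext (eq_of_inv_mul_eq_one h3).symm)
    funext x
    obtain ⟨z, rfl⟩ := hc x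
    simp only [c, map_mul, map_inv, Units.val_mul]
    rw [show (f ⟨g * z * g⁻¹, hA'n.conj_mem z z.2 g⟩ : ℂ) = f z from congrFun hfx z]
    exact Units.mul_inv _
  have hclsA : Nat.card (Cfsg.IrrCharacter A') = a := by
    rw [card_irrCharacter, ← ha']
    exact Nat.card_congr (Equiv.ofBijective ConjClasses.mk ⟨fun p q h => by
      obtain ⟨c, hc⟩ := isConj_iff.1 (ConjClasses.mk_eq_mk_iff_isConj.1 h)
      rwa [hab c p, mul_inv_cancel_right] at hc, ConjClasses.mk_surjective⟩).symm
  let one' : Cfsg.IrrCharacter A' := ⟨fun _ => 1, isIrr_one⟩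
  let S : Finset (Cfsg.IrrCharacter A') := Finset.univ.erase one'
  have hne1 : ∀ χ : Cfsg.IrrCharacter A', χ ∈ S → (χ : A' → ℂ) ≠ fun _ => 1 := fun χ hχ h =>
    Finset.ne_of_mem_erase hχ (Subtype.ext h)
  have hstab : ∀ χ : Cfsg.IrrCharacter A', χ ∈ S → ∀ g : N,
      g ∈ A' ↔ conjBy A' (χ : A' → ℂ) g = χ := by
    refine fun χ hχ g => ⟨fun hg => funext fun x => ?_, fun h => ?_⟩
    · exact isClassFunction_of_isIrr χ.2 x ⟨g, hg⟩
    · by_contra hg
      exact hne1 χ hχ (hfix g _ hg χ.2 h)
  have horb : ∀ χ : Cfsg.IrrCharacter A', χ ∈ S → (orbit A' (χ : A' → ℂ)).card = w := by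
    intro χ hχ
    have h1 := CfsgLib.CharactersDeep.Clifford.card_orbit_mul A' (χ : A' → ℂ) A' (hstab χ hχ)
    rw [ha', hcardN, mul_comm a w] at h1
    exact Nat.eq_of_mul_eq_mul_right Nat.card_pos h1
  set O : Finset (Finset (A' → ℂ)) := S.image fun χ : Cfsg.IrrCharacter A' => orbit A' χ.1 with hO
  have hmem_self : ∀ θ : A' → ℂ, θ ∈ orbit A' θ := fun θ =>
    (mem_orbit A').2 ⟨1, CfsgLib.OddOrderChar.conjBy_one A' θ⟩
  have horb_eq : ∀ θ φ : A' → ℂ, φ ∈ orbit A' θ → orbit A' φ = orbit A' θ := by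
    intro θ φ hφ
    obtain ⟨g, rfl⟩ := (mem_orbit A').1 hφ
    ext η
    rw [mem_orbit, mem_orbit]
    constructor
    · rintro ⟨k, rfl⟩; exact ⟨g * k, (CfsgLib.OddOrderChar.conjBy_mul A' θ g k).symm⟩
    · rintro ⟨k, rfl⟩
      exact ⟨g⁻¹ * k, by rw [CfsgLib.OddOrderChar.conjBy_mul, mul_inv_cancel_left]⟩
  have hfib : ∀ o ∈ O, (S.filter fun χ : Cfsg.IrrCharacter A' => orbit A' χ.1 = o).card = w := by
    intro o ho
    obtain ⟨χ, hχ, rfl⟩ := Finset.mem_image.1 ho
    rw [← horb χ hχ, ← Finset.card_image_of_injective _ Subtype.val_injective]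
    congr 1
    ext φ
    simp only [Finset.mem_image, Finset.mem_filter]
    constructor
    · rintro ⟨η, ⟨-, hη⟩, rfl⟩
      exact hη ▸ hmem_self _
    · intro hφ
      obtain ⟨g, hg⟩ := (mem_orbit A').1 hφ
      have hφirr : Cfsg.IsIrrCharacter A' φ :=
        hg ▸ CfsgLib.CharactersDeep.Clifford.isIrr_conjBy A' χ.2 g
      refine ⟨⟨φ, hφirr⟩, ⟨Finset.mem_erase.2 ⟨fun e => hne1 χ hχ ?_, Finset.mem_univ _⟩,
        horb_eq _ _ hφ⟩, rfl⟩
      refine CfsgLib.OddOrderChar.conjBy_injective A' g ?_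
      show conjBy A' (χ : A' → ℂ) g = conjBy A' (fun _ => 1) g
      rw [hg, show φ = fun _ => 1 from congrArg Subtype.val e]
      rfl
  set m := O.card with hm
  have hcount : a = m * w + 1 := by
    have h1 := Finset.card_eq_sum_card_image (fun χ : Cfsg.IrrCharacter A' => orbit A' χ.1) S
    rw [← hO, Finset.sum_congr rfl hfib, Finset.sum_const, smul_eq_mul,
      Finset.card_erase_of_mem (Finset.mem_univ _), Finset.card_univ, ← Nat.card_eq_fintype_card,
      hclsA] at h1
    have h0 : 0 < a := Nat.card_pos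
    show a = O.card * w + 1
    generalize O.card * w = q at h1 ⊢
    omega
  have hw1 : w ≠ 1 := by
    obtain ⟨g, hgN, hgA⟩ := hN
    intro h
    have : A' = ⊤ := Subgroup.index_eq_one.1 h
    have h2 : (⟨g, hgN⟩ : N) ∈ A' := by rw [this]; trivial
    exact hgA h2
  have hwodd : Odd w := hodd.of_dvd_nat
    ((Subgroup.index_dvd_card A').trans (Subgroup.card_subgroup_dvd_card N))
  have haodd : Odd a := hodd.of_dvd_nat (Subgroup.card_subgroup_dvd_card A)
  have hmeven : Even m := by
    by_contra hme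
    rw [Nat.not_even_iff_odd] at hme
    exact Nat.not_even_iff_odd.2 haodd (hcount ▸ (hme.mul hwodd).add_odd odd_one)
  have ha2 : 1 < a := by
    haveI : Nontrivial A := ⟨⟨⟨y, self_mem_cent y⟩, 1, fun h => hy (congrArg Subtype.val h)⟩⟩
    exact Finite.one_lt_card
  have hm2 : 2 ≤ m := by
    obtain ⟨k, hk⟩ := hmeven
    rcases Nat.eq_zero_or_pos m with h0 | h0
    · rw [h0] at hcount; omega
    · omega
  have hw3 : 3 ≤ w := by
    obtain ⟨k, hk⟩ := hwodd
    omega
  let e : Fin m ≃ O := O.equivFin.symm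
  have hrep : ∀ s : Fin m, ∃ χ : Cfsg.IrrCharacter A', χ ∈ S ∧ orbit A' χ.1 = (e s : Finset _) :=
    fun s => Finset.mem_image.1 (e s).2
  choose L hLS hLo using hrep
  have hcover : ∀ χ : Cfsg.IrrCharacter A', χ ∈ S → ∃ t g, conjBy A' (L t).1 g = χ.1 := by
    intro χ hχ
    obtain ⟨t, ht⟩ := e.surjective ⟨orbit A' χ.1, Finset.mem_image_of_mem _ hχ⟩
    exact ⟨t, (mem_orbit A').1 (by rw [hLo, ht]; exact hmem_self _)⟩
  have hsep : ∀ s t g, conjBy A' (L s).1 g = (L t).1 → s = t := by
    intro s t g h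
    refine e.injective (Subtype.ext ?_)
    rw [← hLo, ← hLo]
    exact (horb_eq _ _ ((mem_orbit A').2 ⟨g, h⟩)).symm
  let χ : Fin m → N → ℂ := fun s => Cfsg.indFun A' (L s).1
  let res : Fin m → A' → ℂ := fun s x => χ s x
  have hχclass : ∀ s, Cfsg.IsClassFunction N (χ s) := fun s => isClassFunction_indFun A' _
  have hres : ∀ s t g, Cfsg.classInner (res s) (conjBy A' (L t).1 g) = if s = t then 1 else 0 := by
    intro s t g
    rw [CfsgLib.CharactersDeep.Clifford.classInner_restrict_conjBy A' (hχclass s) (L t).1 g]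
    have hres' : res s = (a : ℂ)⁻¹ • ∑ g : N, conjBy A' (L s).1 g := funext fun x => by
      simp only [res, χ]
      rw [CfsgLib.OddOrderChar.indFun_normal_apply, Pi.smul_apply, Finset.sum_apply, smul_eq_mul,
        ha']
    rw [show (fun x : A' => χ s x) = res s from rfl, hres', classInner_smul_left, classInner_sum_left]
    split_ifs with hst
    · subst hst
      rw [Finset.sum_congr rfl (g := fun g => if g ∈ A' then (1 : ℂ) else 0) fun g _ => ?_,
        Finset.sum_boole, ← Fintype.card_subtype, ← Nat.card_eq_fintype_card]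
      · rw [show Nat.card {g : N // g ∈ A'} = a from ha', inv_mul_cancel₀]
        exact Nat.cast_ne_zero.2 (by omega)
      · split_ifs with hg
        · rw [(hstab _ (hLS s) g).1 hg]; exact classInner_isIrr_self (L s).2
        · exact classInner_isIrr_ne (CfsgLib.CharactersDeep.Clifford.isIrr_conjBy A' (L s).2 g)
            (L s).2 fun h => hg ((hstab _ (hLS s) g).2 h)
    · rw [Finset.sum_eq_zero fun g _ => classInner_isIrr_ne
        (CfsgLib.CharactersDeep.Clifford.isIrr_conjBy A' (L s).2 g) (L t).2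
        fun h => hst (hsep s t g h), mul_zero]
  have hχinner : ∀ s t, Cfsg.classInner (χ s) (χ t) = if s = t then 1 else 0 := by
    intro s t
    have := hres t s 1
    rw [CfsgLib.OddOrderChar.conjBy_one] at this
    rw [classInner_indFun A' _ (hχclass t), classInner_conj_symm (res t), this]
    split_ifs with h1 h2 h2
    exacts [map_one _, absurd h1.symm h2, absurd h2.symm h1, map_zero _]
  have hχirr : ∀ s, Cfsg.IsIrrCharacter N (χ s) := fun s =>
    isIrr_of_classInner_self (isCharacter_indFun A' (isCharacter_of_isIrr (L s).2))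
      (by rw [hχinner, if_pos rfl])
  have hχinj : Function.Injective χ := fun s t h => by
    by_contra hne
    have := hχinner s t
    rw [if_neg hne, ← h, classInner_isIrr_self (hχirr s)] at this
    exact one_ne_zero this
  have hχone : ∀ s, χ s 1 = (w : ℂ) := fun s => by
    have hL1 : (L s).1 1 = 1 := by
      obtain ⟨n, ρ, hρ, hh⟩ := (L s).2
      haveI : IsMulCommutative A' := ⟨⟨hab⟩⟩
      rw [← hh, Representation.char_one,
        Representation.IsIrreducible.finrank_eq_one_of_isMulCommutative ρ, Nat.cast_one]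
    show Cfsg.indFun A' (L s).1 1 = _
    rw [indFun_one, hL1, mul_one]
  have hχvan : ∀ s, ∀ x : N, (x : G) ∉ A → χ s x = 0 := fun s x hx =>
    CfsgLib.OddOrderChar.indFun_normal_eq_zero A' _ (fun h => hx h)
  have hχtriv : ∀ s, Cfsg.classInner (χ s) (fun _ => 1) = 0 := fun s => by
    rw [classInner_indFun A' _ (isClassFunction_of_isIrr isIrr_one)]
    exact classInner_isIrr_ne (L s).2 isIrr_one (hne1 _ (hLS s))
  have hTI := tI hCA hy
  obtain ⟨ε₀, hε₀, θ, hθ, hθinj, hdiff⟩ := Cfsg.Agent.S0170.result (A : Set G) hAN hTI m hm2 χ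
    hχirr hχinj hχvan (fun s t => by rw [hχone, hχone])
  obtain ⟨ε, hε, rfl⟩ : ∃ ε : ℤ, (ε = 1 ∨ ε = -1) ∧ ε₀ = (ε : ℂ) := by
    rcases hε₀ with h | h
    exacts [⟨1, Or.inl rfl, by simp [h]⟩, ⟨-1, Or.inr rfl, by simp [h]⟩]
  have hεsq : (ε : ℂ) * ε = 1 := by rcases hε with h | h <;> simp [h]
  -- support of induced functions
  have hsupp : ∀ f : N → ℂ, (∀ x : N, (x : G) ∉ A → f x = 0) → f 1 = 0 → ∀ g,
      Cfsg.indFun N f g ≠ 0 → g ≠ 1 ∧ ∃ x : G, x⁻¹ * g * x ∈ A := by
    intro f hf hf1 g hg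
    refine ⟨fun h => hg (by rw [h, indFun_one, hf1, mul_zero]), ?_⟩
    by_contra hcon
    push Not at hcon
    refine hg ?_
    simp only [Cfsg.indFun]
    rw [Finset.sum_eq_zero, mul_zero]
    intro x _
    by_cases hm : x⁻¹ * g * x ∈ N
    · rw [extendByZero_of_mem N f hm]; exact hf _ (hcon x)
    · exact extendByZero_of_not_mem N f hm
  have hone_inner : ∀ s t, Cfsg.classInner (Cfsg.indFun N (χ s - χ t)) (fun _ => 1) = 0 := by
    intro s t
    rw [classInner_indFun N _ (isClassFunction_of_isIrr isIrr_one), classInner_sub_left, hχtriv,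
      hχtriv, sub_zero]
  have hθne : ∀ s, θ s ≠ fun _ => 1 := by
    intro s hs
    obtain ⟨t, ht⟩ : ∃ t, t ≠ s := by
      haveI : Nontrivial (Fin m) := Fin.nontrivial_iff_two_le.2 hm2
      exact exists_ne s
    have h1 := hone_inner s t
    rw [indFun_sub, hdiff, classInner_smul_left, classInner_sub_left,
      classInner_isIrr_ne (hθ t) isIrr_one (fun h => ht (hθinj (h.trans hs.symm))), hs,
      classInner_isIrr_self isIrr_one, sub_zero, mul_one] at h1
    rcases hε with e | e <;> simp [e] at h1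
  let h : Fin m → G → ℂ := fun s => Cfsg.extendByZero N (χ s)
  let P : Finset G := Finset.univ.filter fun z => z ∈ A ∧ z ≠ 1
  have hsplit : ∀ F : G → ℂ, (∀ z, z ∉ A → F z = 0) → ∑ z, F z = F 1 + ∑ z ∈ P, F z := by
    intro F hF
    rw [← Finset.add_sum_erase _ _ (Finset.mem_univ (1 : G))]
    congr 1
    symm
    refine Finset.sum_subset (fun z hz => Finset.mem_erase.2
      ⟨(Finset.mem_filter.1 hz).2.2, Finset.mem_univ _⟩) fun z hz hzP => hF z fun hzA => hzP ?_
    exact Finset.mem_filter.2 ⟨Finset.mem_univ _, hzA, Finset.ne_of_mem_erase hz⟩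
  have hh0 : ∀ s z, z ∉ A → h s z = 0 := by
    intro s z hz
    by_cases hzN : z ∈ N
    · rw [show h s z = χ s ⟨z, hzN⟩ from extendByZero_of_mem N _ hzN]; exact hχvan s _ hz
    · exact extendByZero_of_not_mem N _ hzN
  have hh1 : ∀ s, h s 1 = (w : ℂ) := fun s => by
    rw [show h s 1 = χ s ⟨1, N.one_mem⟩ from extendByZero_of_mem N _ N.one_mem]; exact hχone s
  have hsum_h : ∀ s, ∑ z ∈ P, h s z = -(w : ℂ) := by
    intro s
    have h1 := sum_subgroup_extendByZero N (χ s) (fun _ => 1)
    have h2 : ∑ z : G, h s z = 0 := by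
      have h3 := hχtriv s
      rw [Cfsg.classInner, mul_eq_zero] at h3
      have h4 := h3.resolve_left (inv_ne_zero natCard_ne_zero)
      simp only [map_one, mul_one] at h4 h1
      rw [← h4]
      exact h1
    rw [hsplit _ (hh0 s), hh1] at h2
    exact eq_neg_of_add_eq_zero_right h2
  have hsum_sq : ∀ s, ∑ z ∈ P, h s z * conj (h s z) = (a : ℂ) * w - (w : ℂ) ^ 2 := by
    intro s
    have h1 := sum_subgroup_extendByZero N (χ s) (fun z => conj (h s z))
    have h2 : ∑ z : G, h s z * conj (h s z) = (a : ℂ) * w := by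
      refine h1.trans ?_
      have h3 := classInner_isIrr_self (hχirr s)
      rw [Cfsg.classInner, inv_mul_eq_one₀ natCard_ne_zero, hcardN, Nat.cast_mul] at h3
      rw [h3]
      exact Finset.sum_congr rfl fun x _ => by
        rw [show h s (x : G) = χ s x from extendByZero_coe N _ x]
    rw [hsplit _ (fun z hz => by rw [hh0 s z hz, zero_mul]), hh1, Complex.conj_natCast] at h2
    linear_combination h2
  let s₀ : Fin m := ⟨0, by omega⟩
  let f₁ : N → ℂ := Cfsg.indFun A' (fun _ => 1)
  have hf1c : Cfsg.IsClassFunction N f₁ := isClassFunction_indFun A' _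
  let ψ : N → ℂ := f₁ - χ s₀
  have hψc : Cfsg.IsClassFunction N ψ := fun x z => by
    simp only [ψ, Pi.sub_apply, hf1c x z, hχclass s₀ x z]
  have hf11 : f₁ 1 = (w : ℂ) := by
    show Cfsg.indFun A' (fun _ => 1) 1 = _
    rw [indFun_one, mul_one]
  have hψ1 : ψ 1 = 0 := by simp [ψ, hf11, hχone]
  have hψA : ∀ x : N, (x : G) ∉ A → ψ x = 0 := fun x hx => by
    simp only [ψ, f₁, Pi.sub_apply, hχvan s₀ x hx, sub_zero]
    exact CfsgLib.OddOrderChar.indFun_normal_eq_zero A' _ (fun h => hx h)
  have hf1χ : Cfsg.classInner f₁ (χ s₀) = 0 := by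
    rw [classInner_indFun A' _ (hχclass s₀), classInner_conj_symm]
    have h1 := hχtriv s₀
    rw [classInner_indFun A' _ (isClassFunction_of_isIrr isIrr_one)] at h1
    have h2 : Cfsg.classInner (res s₀) (fun _ : A' => (1 : ℂ)) = 0 := by
      have hres' : res s₀ = (a : ℂ)⁻¹ • ∑ g : N, conjBy A' (L s₀).1 g := funext fun x => by
        simp only [res, χ]
        rw [CfsgLib.OddOrderChar.indFun_normal_apply, Pi.smul_apply, Finset.sum_apply, smul_eq_mul,
          ha']
      rw [hres', classInner_smul_left, classInner_sum_left, Finset.sum_eq_zero fun g _ => ?_,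
        mul_zero]
      refine classInner_isIrr_ne (CfsgLib.CharactersDeep.Clifford.isIrr_conjBy A' (L s₀).2 g)
        isIrr_one fun hh => hne1 _ (hLS s₀) (CfsgLib.OddOrderChar.conjBy_injective A' g ?_)
      exact hh.trans rfl
    rw [show Cfsg.classInner (fun x : A' => χ s₀ x) (fun _ => 1) = 0 from h2, map_zero]
  have hf1f1 : Cfsg.classInner f₁ f₁ = (w : ℂ) := by
    rw [classInner_indFun A' _ hf1c,
      show (fun x : A' => f₁ x) = fun _ => (w : ℂ) from funext fun x => ?_,
      show (fun _ : A' => (w : ℂ)) = (w : ℂ) • (fun _ => (1 : ℂ)) from funext fun _ => (mul_one _).symm,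
      classInner_smul_right, classInner_isIrr_self isIrr_one, Complex.conj_natCast, mul_one]
    show Cfsg.indFun A' (fun _ => 1) (x : N) = _
    rw [CfsgLib.OddOrderChar.indFun_normal_apply]
    simp only [CfsgLib.OddOrderChar.conjBy, Finset.sum_const, Finset.card_univ,
      ← Nat.card_eq_fintype_card, hcardN, ha', nsmul_eq_mul, mul_one, Nat.cast_mul]
    rw [← mul_assoc, inv_mul_cancel₀ (Nat.cast_ne_zero.2 (by omega)), one_mul]
  set β := Cfsg.indFun N ψ with hβ
  refine ⟨{
    m := m, w := w, hm := hm2, meven := hmeven, hw := hw3, card_eq := hcount, cardN := hcardN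
    ε := ε, hε := hε, θ := θ, hθ := hθ, θinj := hθinj, θne := hθne
    supp := ?_
    h := h, sum_h := hsum_h, sum_sq := hsum_sq, s₀ := s₀, β := β
    βclass := isClassFunction_indFun N ψ
    βsupp := hsupp ψ hψA hψ1
    βnorm := ?_, βone := ?_, vals := ?_ }⟩
  · intro s t g hne
    refine hsupp (χ s - χ t) (fun x hx => by simp [hχvan s x hx, hχvan t x hx])
      (by simp [hχone]) g fun h0 => hne ?_
    rw [indFun_sub, hdiff, Pi.smul_apply, smul_eq_mul, mul_eq_zero] at h0
    rcases h0 with h0 | h0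
    · rcases hε with e | e <;> simp [e] at h0
    · exact sub_eq_zero.1 h0
  · rw [hβ, Cfsg.Agent.S0150.result (A : Set G) hTI hAN ψ ψ hψc hψc hψA hψA hψ1,
      show ψ = f₁ - χ s₀ from rfl, classInner_sub_left, classInner_sub_right, classInner_sub_right,
      hf1f1, hf1χ, hχinner, if_pos rfl, classInner_conj_symm f₁ (χ s₀), hf1χ, map_zero]
    ring
  · rw [hβ, classInner_indFun N _ (isClassFunction_of_isIrr isIrr_one),
      show ψ = f₁ - χ s₀ from rfl, classInner_sub_left, hχtriv, sub_zero,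
      classInner_indFun A' _ (isClassFunction_of_isIrr isIrr_one)]
    exact classInner_isIrr_self isIrr_one
  intro Θ hΘ
  have hΘN : Cfsg.IsCharacter N (fun x : N => Θ x) := isCharacter_restrict N (isCharacter_of_isIrr hΘ)
  let r : A' → ℂ := fun x => Θ (x : N)
  have hrchar : Cfsg.IsCharacter A' r := isCharacter_restrict A' hΘN
  obtain ⟨c, hc⟩ := classInner_characters hrchar (isCharacter_one (G := A'))
  choose ct hct using fun t => classInner_characters hΘN (isCharacter_of_isIrr (hχirr t))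
  let d : Fin m → ℤ := fun t => if Θ = θ t then 1 else 0
  have hd : ∀ t, Cfsg.classInner Θ (θ t) = (d t : ℂ) := fun t => by
    simp only [d]
    split_ifs with e
    · rw [e, classInner_isIrr_self (hθ t), Int.cast_one]
    · rw [classInner_isIrr_ne hΘ (hθ t) e, Int.cast_zero]
  have hrel : ∀ t, (ct t : ℂ) - (ct s₀ : ℂ) = (ε : ℂ) * ((d t : ℂ) - (d s₀ : ℂ)) := by
    intro t
    have h1 := classInner_indFun_right N (χ t - χ s₀) (isClassFunction_of_isIrr hΘ)
    rw [indFun_sub, hdiff, classInner_smul_right, classInner_sub_right, classInner_sub_right,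
      hd, hd, hct, hct, map_intCast] at h1
    exact h1.symm
  set v : ℤ := (ct s₀ : ℤ) - ε * d s₀ with hv
  have hctv : ∀ t, (ct t : ℂ) = (v : ℂ) + (ε : ℂ) * d t := fun t => by
    have := hrel t
    simp only [hv]
    push_cast
    linear_combination this
  have hrL : ∀ t g, Cfsg.classInner r (conjBy A' (L t).1 g) = (ct t : ℂ) := by
    intro t g
    rw [CfsgLib.CharactersDeep.Clifford.classInner_restrict_conjBy A'
      (isClassFunction_of_isCharacter hΘN) (L t).1 g, ← hct t]
    exact (classInner_indFun_right A' _ (isClassFunction_of_isCharacter hΘN)).symm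
  refine ⟨(c : ℤ) - v, fun z hz hz1 => ?_, ?_⟩
  · let f : A' → ℂ := r - (ε : ℂ) • ∑ s, (d s : ℂ) • res s
    have hfc : Cfsg.IsClassFunction A' f := fun p q => by
      rw [hab q p, mul_inv_cancel_right]
    have hfone : Cfsg.classInner f (one' : A' → ℂ) = (c : ℂ) := by
      have h0 : ∀ s, Cfsg.classInner (res s) (one' : A' → ℂ) = 0 := by
        intro s
        have hres' : res s = (a : ℂ)⁻¹ • ∑ g : N, conjBy A' (L s).1 g := funext fun x => by
          simp only [res, χ]
          rw [CfsgLib.OddOrderChar.indFun_normal_apply, Pi.smul_apply, Finset.sum_apply,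
            smul_eq_mul, ha']
        rw [hres', classInner_smul_left, classInner_sum_left, Finset.sum_eq_zero fun g _ => ?_,
          mul_zero]
        refine classInner_isIrr_ne (CfsgLib.CharactersDeep.Clifford.isIrr_conjBy A' (L s).2 g)
          isIrr_one fun hh => hne1 _ (hLS s) (CfsgLib.OddOrderChar.conjBy_injective A' g ?_)
        exact hh.trans rfl
      simp only [f, classInner_sub_left, classInner_smul_left, classInner_sum_left, h0, mul_zero,
        Finset.sum_const_zero, sub_zero]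
      exact hc
    have hfS : ∀ φ ∈ S, Cfsg.classInner f (φ : A' → ℂ) = (v : ℂ) := by
      intro φ hφ
      obtain ⟨t, g, hg⟩ := hcover φ hφ
      rw [← hg]
      simp only [f, classInner_sub_left, classInner_smul_left, classInner_sum_left, hrL, hres,
        mul_ite, mul_one, mul_zero, Finset.sum_ite_eq', Finset.mem_univ, if_true]
      rw [hctv t, add_sub_cancel_right]
    have hzN : z ∈ N := hAN hz
    let z' : A' := ⟨⟨z, hzN⟩, hz⟩
    have hexp := congrFun (classFunction_expansion hfc) z'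
    simp only [Finset.sum_apply, Pi.smul_apply, smul_eq_mul] at hexp
    rw [← Finset.add_sum_erase _ _ (Finset.mem_univ one'), hfone,
      Finset.sum_congr rfl (fun φ hφ => by rw [hfS φ hφ]), ← Finset.mul_sum] at hexp
    have hreg : ∑ φ ∈ S, (φ : A' → ℂ) z' = -1 := by
      have h1 := sum_degree_mul z'
      rw [if_neg (fun e => hz1 (congrArg (fun q : A' => ((q : N) : G)) e))] at h1
      have hdeg : ∀ φ : Cfsg.IrrCharacter A', (φ : A' → ℂ) 1 = 1 := fun φ => by
        obtain ⟨n, ρ, hρ, hh⟩ := φ.2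
        haveI : IsMulCommutative A' := ⟨⟨hab⟩⟩
        rw [← hh, Representation.char_one,
          Representation.IsIrreducible.finrank_eq_one_of_isMulCommutative ρ, Nat.cast_one]
      simp only [hdeg, one_mul] at h1
      rw [← Finset.add_sum_erase _ _ (Finset.mem_univ one')] at h1
      exact eq_neg_of_add_eq_zero_right h1
    rw [hreg] at hexp
    have hsum : (∑ s, if Θ = θ s then h s z else 0) = ∑ s, (d s : ℂ) * res s z' := by
      refine Finset.sum_congr rfl fun s _ => ?_
      rw [show h s z = χ s ⟨z, hzN⟩ from extendByZero_of_mem N _ hzN]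
      simp only [d, res, z']
      split_ifs <;> simp
    rw [hsum]
    simp only [f, r, z', one', Pi.sub_apply, Pi.smul_apply, Finset.sum_apply, smul_eq_mul] at hexp
    push_cast
    linear_combination hexp
  · rw [hβ, classInner_indFun N _ (isClassFunction_of_isIrr hΘ), show ψ = f₁ - χ s₀ from rfl,
      classInner_sub_left, classInner_indFun A' _ (isClassFunction_of_isCharacter hΘN),
      classInner_conj_symm (fun x : N => Θ x) (χ s₀), hct, Complex.conj_natCast,
      classInner_conj_symm r (fun _ => (1 : ℂ)), hc, Complex.conj_natCast]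
    simp only [hv, d]
    push_cast
    split_ifs <;> ring

end CfsgLib.Characters.CA
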