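import Mathlib.GroupTheory.Sylow
import Mathlib.GroupTheory.Transfer
import Mathlib.GroupTheory.Subgroup.Simple
import Mathlib.GroupTheory.Solvable
import Mathlib.GroupTheory.SchurZassenhaus
import Mathlib.Tactic.Group

/-!
# Groups with abelian centralizers
-/

set_option autoImplicit false
set_option linter.style.haveILetI false
set_option linter.unusedSectionVars false

namespace CfsgLib.Characters.CA

universe u

/-- Every non-identity element has an abelian centralizer. -/
def AbelianCentralizers (G : Type u) [Group G] : Prop :=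
  ∀ x : G, x ≠ 1 → ∀ a ∈ Subgroup.centralizer ({x} : Set G),
    ∀ b ∈ Subgroup.centralizer ({x} : Set G), a * b = b * a

/-- The centralizer of an element. -/
abbrev cent {G : Type u} [Group G] (x : G) : Subgroup G := Subgroup.centralizer ({x} : Set G)

variable {G : Type u} [Group G]

theorem self_mem_cent (x : G) : x ∈ cent x :=
  Subgroup.mem_centralizer_singleton_iff.2 rfl

theorem cent_map_conj (g x : G) :
    (cent x).map (MulAut.conj g).toMonoidHom = cent (g * x * g⁻¹) := by
  ext y
  rw [Subgroup.mem_map_equiv, MulAut.conj_symm_apply, Subgroup.mem_centralizer_singleton_iff,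
    Subgroup.mem_centralizer_singleton_iff]
  constructor <;> intro h
  · calc y * (g * x * g⁻¹) = g * (g⁻¹ * y * g * x) * g⁻¹ := by group
      _ = g * x * g⁻¹ * y := by rw [h]; group
  · calc g⁻¹ * y * g * x = g⁻¹ * (y * (g * x * g⁻¹)) * g := by group
      _ = x * (g⁻¹ * y * g) := by rw [h]; group

theorem AbelianCentralizers.subgroup (h : AbelianCentralizers G) (H : Subgroup G) :
    AbelianCentralizers H := fun x hx a ha b hb => Subtype.ext <| by
  refine h x (fun e => hx (Subtype.ext e)) a ?_ b ?_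
  · exact Subgroup.mem_centralizer_singleton_iff.2
      (congrArg Subtype.val (Subgroup.mem_centralizer_singleton_iff.1 ha))
  · exact Subgroup.mem_centralizer_singleton_iff.2
      (congrArg Subtype.val (Subgroup.mem_centralizer_singleton_iff.1 hb))

variable (hCA : AbelianCentralizers G)
include hCA

theorem cent_eq {g x : G} (hg : g ≠ 1) (hx : x ≠ 1) (h : x ∈ cent g) : cent x = cent g := by
  have hgx : g ∈ cent x := Subgroup.mem_centralizer_singleton_iff.2
    (Subgroup.mem_centralizer_singleton_iff.1 h).symm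
  refine le_antisymm (fun c hc => ?_) (fun c hc => ?_)
  · exact Subgroup.mem_centralizer_singleton_iff.2 (hCA x hx c hc g hgx)
  · exact Subgroup.mem_centralizer_singleton_iff.2 (hCA g hg c hc x h)

theorem mem_normalizer_of_meet {g x : G} {y : G} (hy : y ≠ 1) (hx : x ∈ cent y) (hx1 : x ≠ 1)
    (hg : g * x * g⁻¹ ∈ cent y) : g ∈ Subgroup.normalizer (cent y : Set G) := by
  have h1 : g * x * g⁻¹ ≠ 1 := fun h => hx1 (by simpa using h)
  have h2 : cent (g * x * g⁻¹) = cent y := cent_eq hCA hy h1 hg
  rw [← cent_eq hCA hy hx1 hx] at h2 ⊢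
  rw [Subgroup.mem_normalizer_iff_map_conj_eq]
  exact (cent_map_conj g x).trans h2

theorem tI {y : G} (hy : y ≠ 1) (g : G) (hg : g ∉ Subgroup.normalizer (cent y : Set G)) (t : G)
    (ht : t ∈ (cent y : Set G)) (h : g * t * g⁻¹ ∈ (cent y : Set G)) : t = 1 := by
  by_contra h1
  exact hg (mem_normalizer_of_meet hCA hy ht h1 h)

theorem free_action {y g x : G} (hy : y ≠ 1) (hg : g ∉ cent y) (hx : x ∈ cent y)
    (h : g * x = x * g) : x = 1 := by
  by_contra h1
  refine hg ?_
  rw [← cent_eq hCA hy h1 hx]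
  exact Subgroup.mem_centralizer_singleton_iff.2 h

variable [Finite G]

theorem sylow_le_cent {p : ℕ} [Fact p.Prime] {y : G} (hy : y ≠ 1) (hp : p ∣ Nat.card (cent y)) :
    ∃ S : Sylow p G, (S : Subgroup G) ≤ cent y ∧ ∃ x ∈ (S : Subgroup G), x ≠ 1 := by
  obtain ⟨x, hx⟩ := exists_prime_orderOf_dvd_card' p hp
  have hP : IsPGroup p (Subgroup.zpowers (x : G)) := IsPGroup.of_card (n := 1) (by
    rw [Nat.card_zpowers, Subgroup.orderOf_coe, hx, pow_one])
  obtain ⟨S, hS⟩ := hP.exists_le_sylow
  have hx1 : (x : G) ≠ 1 := fun h => by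
    rw [show x = 1 from Subtype.ext h, orderOf_one] at hx
    exact (Fact.out : p.Prime).one_lt.ne hx
  haveI : Nontrivial S := ⟨⟨⟨x, hS (Subgroup.mem_zpowers _)⟩, 1, fun h => hx1 (congrArg Subtype.val h)⟩⟩
  haveI := S.2.center_nontrivial
  obtain ⟨z, hz⟩ := exists_ne (1 : Subgroup.center S)
  have hz1 : ((z : S) : G) ≠ 1 := fun h => hz (Subtype.ext (Subtype.ext h))
  have hcomm : ∀ s ∈ (S : Subgroup G), s * ((z : S) : G) = ((z : S) : G) * s := fun s hs =>
    congrArg Subtype.val (Subgroup.mem_center_iff.1 z.2 ⟨s, hs⟩)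
  have hzy : ((z : S) : G) ∈ cent y := by
    rw [← cent_eq hCA hy hx1 x.2]
    exact Subgroup.mem_centralizer_singleton_iff.2
      (hcomm x (hS (Subgroup.mem_zpowers _))).symm
  refine ⟨S, fun s hs => ?_, x, hS (Subgroup.mem_zpowers _), hx1⟩
  rw [← cent_eq hCA hy hz1 hzy]
  exact Subgroup.mem_centralizer_singleton_iff.2 (hcomm s hs)

theorem coprime_card_index_cent {y : G} (hy : y ≠ 1) :
    (Nat.card (cent y)).Coprime (cent y).index := by
  refine Nat.coprime_of_dvd fun p hp hd hd' => ?_
  haveI := Fact.mk hp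
  obtain ⟨S, hS, -⟩ := sylow_le_cent hCA hy hd
  exact S.not_dvd_index (hd'.trans (Subgroup.index_dvd_of_le hS))

theorem conj_of_card_eq {y z : G} (hy : y ≠ 1) (hz : z ≠ 1)
    (h : Nat.card (cent y) = Nat.card (cent z)) :
    ∃ g : G, (cent y).map (MulAut.conj g).toMonoidHom = cent z := by
  have hy' : Nat.card (cent y) ≠ 1 := fun h1 => hy <| by
    have := Subgroup.eq_bot_of_card_eq _ h1
    simpa [this] using self_mem_cent y
  obtain ⟨p, hp, hd⟩ := Nat.exists_prime_and_dvd hy'
  haveI := Fact.mk hp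
  obtain ⟨S, hS, x, hx, hx1⟩ := sylow_le_cent hCA hy hd
  obtain ⟨T, hT, -⟩ := sylow_le_cent hCA hz (h ▸ hd)
  obtain ⟨g, hg⟩ := MulAction.exists_smul_eq G S T
  refine ⟨g, ?_⟩
  have hgx : g * x * g⁻¹ ∈ (T : Subgroup G) := by
    rw [← hg, Sylow.coe_subgroup_smul]
    exact Subgroup.smul_mem_pointwise_smul x (MulAut.conj g) _ hx
  rw [← cent_eq hCA hy hx1 (hS hx), cent_map_conj]
  exact cent_eq hCA hz (fun h => hx1 (by simpa using h)) (hT hgx)

theorem exists_normalizer_not_mem [IsSimpleGroup G] (hnab : ¬ ∀ a b : G, a * b = b * a) {y : G}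
    (hy : y ≠ 1) : ∃ g ∈ Subgroup.normalizer (cent y : Set G), g ∉ cent y := by
  by_contra hcon
  push Not at hcon
  have hy' : Nat.card (cent y) ≠ 1 := fun h1 => hy <| by
    have := Subgroup.eq_bot_of_card_eq _ h1
    simpa [this] using self_mem_cent y
  obtain ⟨p, hp, hd⟩ := Nat.exists_prime_and_dvd hy'
  haveI := Fact.mk hp
  obtain ⟨S, hS, x, hx, hx1⟩ := sylow_le_cent hCA hy hd
  have hN : Subgroup.normalizer ((S : Subgroup G) : Set G) ≤
      Subgroup.centralizer ((S : Subgroup G) : Set G) := by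
    intro g hg
    have hgx : g * x * g⁻¹ ∈ (S : Subgroup G) :=
      (Subgroup.mem_normalizer_iff.1 hg x).1 hx
    have hgy := hcon g (mem_normalizer_of_meet hCA hy (hS hx) hx1 (hS hgx))
    exact Subgroup.mem_centralizer_iff.2 fun s hs => hCA y hy s (hS hs) g hgy
  have hc := MonoidHom.ker_transferSylow_isComplement' S hN
  rcases IsSimpleGroup.eq_bot_or_eq_top_of_normal _
      (MonoidHom.normal_ker (MonoidHom.transferSylow S hN)) with h | h
  · rw [h, Subgroup.isComplement'_bot_left] at hc
    refine hnab fun a b => hCA y hy a (hS ?_) b (hS ?_) <;> rw [hc] <;> trivial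
  · rw [h, Subgroup.isComplement'_top_left] at hc
    rw [hc, Subgroup.mem_bot] at hx
    exact hx1 hx

omit hCA

/-- Reduction of the odd order theorem for groups with abelian centralizers to simple groups. -/
theorem solvable_of_no_simple
    (hsimple : ∀ (H : Type u) [Group H] [Finite H] [IsSimpleGroup H], Odd (Nat.card H) →
      AbelianCentralizers H → ∀ a b : H, a * b = b * a) :
    ∀ (n : ℕ) (H : Type u) [Group H] [Finite H], Nat.card H = n → Odd (Nat.card H) →
      AbelianCentralizers H → Group.IsSolvable H := by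
  intro n
  induction n using Nat.strong_induction_on with
  | _ n ih =>
    intro H _ _ hn hodd hCA
    by_cases hab : ∀ a b : H, a * b = b * a
    · exact Group.isSolvable_of_comm hab
    have hsub : ∀ M : Subgroup H, M ≠ ⊤ → Group.IsSolvable M := fun M hM =>
      ih (Nat.card M) (hn ▸ lt_of_le_of_ne (Subgroup.card_le_card_group M)
        fun h => hM (Subgroup.eq_top_of_card_eq M h)) M rfl
        (hodd.of_dvd_nat (Subgroup.card_subgroup_dvd_card M)) (hCA.subgroup M)
    obtain ⟨N, hNn, hN0, hN1⟩ : ∃ N : Subgroup H, N.Normal ∧ N ≠ ⊥ ∧ N ≠ ⊤ := by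
      by_contra hcon
      push Not at hcon
      haveI : Nontrivial H := by
        by_contra h
        rw [not_nontrivial_iff_subsingleton] at h
        exact hab fun a b => Subsingleton.elim _ _
      haveI : IsSimpleGroup H := ⟨fun N hN => (em (N = ⊥)).imp_right (hcon N hN)⟩
      exact hab (hsimple H hodd hCA)
    haveI := hsub N hN1
    obtain ⟨A, hAn, hA0, hAc⟩ : ∃ A : Subgroup H, A.Normal ∧ A ≠ ⊥ ∧
        ∀ a ∈ A, ∀ b ∈ A, a * b = b * a := by
      classical
      obtain ⟨k, hk⟩ := (Group.IsSolvable.solvable (G := N))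
      have hex : ∃ k, derivedSeries N k = ⊥ := ⟨k, hk⟩
      set k₀ := Nat.find hex with hk₀
      have hk0 : k₀ ≠ 0 := fun h => hN0 <| by
        have := Nat.find_spec hex
        rw [← hk₀, h, derivedSeries_zero] at this
        refine (Subgroup.eq_bot_iff_forall N).2 fun x hx => ?_
        have h2 : (⟨x, hx⟩ : N) ∈ (⊥ : Subgroup N) := by rw [← this]; trivial
        exact congrArg Subtype.val (Subgroup.mem_bot.1 h2)
      obtain ⟨j, hj⟩ : ∃ j, k₀ = j + 1 := ⟨k₀ - 1, by omega⟩
      have hd : derivedSeries N j ≠ ⊥ := Nat.find_min hex (by omega)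
      refine ⟨(derivedSeries N j).map N.subtype, inferInstance, fun h => hd ?_, ?_⟩
      · exact (Subgroup.map_eq_bot_iff_of_injective _ N.subtype_injective).1 h
      · rintro _ ⟨a, ha, rfl⟩ _ ⟨b, hb, rfl⟩
        have h1 : derivedSeries N (j + 1) = ⊥ := hj ▸ Nat.find_spec hex
        rw [derivedSeries_succ, Subgroup.commutator_eq_bot_iff_le_centralizer] at h1
        exact congrArg N.subtype (Subgroup.mem_centralizer_iff.1 (h1 ha) b hb).symm
    haveI := hAn
    obtain ⟨a, ha, ha1⟩ : ∃ a ∈ A, a ≠ 1 := by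
      by_contra hcon
      push Not at hcon
      exact hA0 ((Subgroup.eq_bot_iff_forall A).2 hcon)
    set C := Subgroup.centralizer (A : Set H) with hC
    have hAcent : A ≤ cent a := fun b hb =>
      Subgroup.mem_centralizer_singleton_iff.2 (hAc b hb a ha)
    have hCeq : C = cent a := by
      refine le_antisymm (fun c hc => Subgroup.mem_centralizer_singleton_iff.2
        (Subgroup.mem_centralizer_iff.1 hc a ha).symm) fun c hc => ?_
      exact Subgroup.mem_centralizer_iff.2 fun b hb => hCA a ha1 b (hAcent hb) c hc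
    haveI hCn : C.Normal := inferInstance
    have hcop : (Nat.card C).Coprime C.index := by
      rw [hCeq]; exact coprime_card_index_cent hCA ha1
    obtain ⟨E, hE⟩ := Subgroup.exists_right_complement'_of_coprime hcop
    have hE1 : E ≠ ⊤ := by
      rintro rfl
      have := hE.disjoint.eq_bot
      rw [inf_top_eq, hCeq] at this
      exact ha1 (by simpa [this] using self_mem_cent a)
    haveI := hsub E hE1
    haveI : Group.IsSolvable C := Group.isSolvable_of_comm fun x y => Subtype.ext
      (hCA a ha1 x (hCeq.le x.2) y (hCeq.le y.2))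
    have hsurj : Function.Surjective ((QuotientGroup.mk' C).comp E.subtype) := by
      intro q
      obtain ⟨g, rfl⟩ := QuotientGroup.mk'_surjective C q
      obtain ⟨⟨⟨c, hc⟩, ⟨e, he⟩⟩, h⟩ := (hE.existsUnique g).exists
      refine ⟨⟨e, he⟩, ?_⟩
      have hc1 : QuotientGroup.mk' C c = 1 := (QuotientGroup.eq_one_iff c).2 hc
      show QuotientGroup.mk' C e = QuotientGroup.mk' C g
      rw [← (show c * e = g from h), map_mul, hc1, one_mul]
    haveI : Group.IsSolvable (H ⧸ C) := Group.isSolvable_of_surjective hsurj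
    exact Group.isSolvable_of_ker_le_range C.subtype (QuotientGroup.mk' C)
      (by rw [QuotientGroup.ker_mk', Subgroup.range_subtype])

end CfsgLib.Characters.CA
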