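import Cfsg.Agent.Characters.CNFamily

/-!
# No group of odd order is covered by nilpotent T.I. subgroups
-/

set_option autoImplicit false
set_option linter.style.haveILetI false
set_option linter.unusedSectionVars false
set_option linter.unusedSimpArgs false

namespace CfsgLib.Characters.CN

open scoped ComplexConjugate
open CfsgLib.Characters.CA (punct mem_punct card_punct)

universe u w'

variable {G : Type u} [Group G] [Fintype G]

/-- A nontrivial group of odd order is not the union of the conjugates of pairwise non-conjugate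
nilpotent T.I. Hall subgroups containing the centralizers of their elements. -/
theorem false_of_system (hodd : Odd (Nat.card G)) [Nontrivial G] {ι : Type w'} [Finite ι]
    (A : ι → Subgroup G) (hTI : ∀ i, TIData (A i))
    (hcover : ∀ z : G, z ≠ 1 → ∃ i, ∃ x : G, x⁻¹ * z * x ∈ A i)
    (hdisj : ∀ (i j : ι) (z x : G), z ∈ A i → z ≠ 1 → x⁻¹ * z * x ∈ A j → i = j)
    (hcop : ∀ i j, i ≠ j → (Nat.card (A i)).Coprime (Nat.card (A j))) : False := by
  classical
  haveI := Fintype.ofFinite ι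
  let F : ∀ i : ι, Family (A i) := fun i => (nonempty_family hodd (hTI i)).some
  -- the class equation
  have hmemN : ∀ (i : ι) (g z : G), z ∈ A i → z ≠ 1 → g * z * g⁻¹ ∈ A i →
      g ∈ Subgroup.normalizer (A i : Set G) := fun i g z hz hz1 h => by
    by_contra hg
    exact hz1 ((hTI i).ti g hg z hz h)
  have hformula : ∀ f : G → ℂ, Cfsg.IsClassFunction G f → ∑ z, f z = f 1 + ∑ i : ι,
      ((Subgroup.normalizer (A i : Set G)).index : ℂ) * ∑ z ∈ punct (A i), f z := by
    intro f hf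
    rw [← Finset.add_sum_erase _ _ (Finset.mem_univ (1 : G))]
    congr 1
    have hN : ∀ i : ι, (Nat.card (Subgroup.normalizer (A i : Set G)) : ℂ) ≠ 0 := fun i =>
      Nat.cast_ne_zero.2 Nat.card_pos.ne'
    have h1 : ∀ i : ι, ((Subgroup.normalizer (A i : Set G)).index : ℂ) *
        ∑ z ∈ punct (A i), f z = (Nat.card (Subgroup.normalizer (A i : Set G)) : ℂ)⁻¹ *
          ∑ g : G, ∑ z ∈ punct (A i), f (g * z * g⁻¹) := by
      intro i
      simp only [hf _ _, Finset.sum_const, Finset.card_univ, ← Nat.card_eq_fintype_card,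
        nsmul_eq_mul]
      rw [← Subgroup.index_mul_card (Subgroup.normalizer (A i : Set G)), Nat.cast_mul, ← mul_assoc,
        ← mul_assoc, mul_right_comm _ _ (Nat.card (Subgroup.normalizer (A i : Set G)) : ℂ),
        inv_mul_cancel₀ (hN i), one_mul]
    rw [Finset.sum_congr rfl fun i _ => h1 i]
    have h2 : ∀ i : ι, ∀ g : G, ∑ z ∈ punct (A i), f (g * z * g⁻¹) =
        ∑ y ∈ Finset.univ.erase (1 : G), if g⁻¹ * y * g ∈ A i then f y else 0 := by
      intro i g
      rw [← Finset.sum_filter]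
      refine Finset.sum_bij' (fun z _ => g * z * g⁻¹) (fun y _ => g⁻¹ * y * g) ?_ ?_ ?_ ?_ ?_
      · intro z hz
        have hg : g⁻¹ * (g * z * g⁻¹) * g = z := by group
        refine Finset.mem_filter.2 ⟨Finset.mem_erase.2 ⟨fun h => (mem_punct.1 hz).2 ?_,
          Finset.mem_univ _⟩, by rw [hg]; exact (mem_punct.1 hz).1⟩
        rw [← hg, h]; group
      · intro y hy
        obtain ⟨hy1, hy2⟩ := Finset.mem_filter.1 hy
        refine mem_punct.2 ⟨hy2, fun h => Finset.ne_of_mem_erase hy1 ?_⟩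
        calc y = g * (g⁻¹ * y * g) * g⁻¹ := by group
          _ = 1 := by rw [h]; group
      · intro z _; group
      · intro y _; group
      · intro z _; rfl
    rw [Finset.sum_congr rfl fun i _ => congrArg (_ * ·) (Finset.sum_congr rfl fun g _ => h2 i g)]
    simp only [Finset.mul_sum]
    rw [Finset.sum_congr rfl fun i _ => Finset.sum_comm, Finset.sum_comm]
    refine Finset.sum_congr rfl fun y hy => ?_
    obtain ⟨i, x, hx⟩ := hcover y (Finset.ne_of_mem_erase hy)
    have hx1 : x⁻¹ * y * x ≠ 1 := fun h => Finset.ne_of_mem_erase hy (by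
      calc y = x * (x⁻¹ * y * x) * x⁻¹ := by group
        _ = 1 := by rw [h]; group)
    rw [Finset.sum_eq_single i]
    · simp only [← Finset.mul_sum]
      rw [← Finset.sum_filter, Finset.sum_const, ← Fintype.card_subtype, ← Nat.card_eq_fintype_card,
        nsmul_eq_mul]
      have hc : Nat.card {g : G // g⁻¹ * y * g ∈ A i} =
          Nat.card (Subgroup.normalizer (A i : Set G)) := by
        refine Nat.card_congr (Equiv.subtypeEquiv (Equiv.mulLeft x⁻¹) fun g => ⟨fun hg => ?_, fun hg => ?_⟩)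
        · show x⁻¹ * g ∈ Subgroup.normalizer (A i : Set G)
          refine inv_mem_iff.1 (hmemN i _ (x⁻¹ * y * x) hx hx1 ?_)
          rw [show (x⁻¹ * g)⁻¹ * (x⁻¹ * y * x) * (x⁻¹ * g)⁻¹⁻¹ = g⁻¹ * y * g by group]
          exact hg
        · have h3 := (Subgroup.mem_normalizer_iff.1 (inv_mem hg) (x⁻¹ * y * x)).1 hx
          change (x⁻¹ * g)⁻¹ * (x⁻¹ * y * x) * (x⁻¹ * g)⁻¹⁻¹ ∈ A i at h3
          rwa [show (x⁻¹ * g)⁻¹ * (x⁻¹ * y * x) * (x⁻¹ * g)⁻¹⁻¹ = g⁻¹ * y * g by group] at h3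
      rw [hc, ← mul_assoc, inv_mul_cancel₀ (hN i), one_mul]
    · intro j _ hj
      refine Finset.sum_eq_zero fun g _ => ?_
      rw [if_neg, mul_zero]
      intro hg
      refine hj (hdisj i j (x⁻¹ * y * x) (x⁻¹ * g) hx hx1 ?_).symm
      rwa [show (x⁻¹ * g)⁻¹ * (x⁻¹ * y * x) * (x⁻¹ * g) = g⁻¹ * y * g by group]
    · exact fun h => absurd (Finset.mem_univ i) h
  let c : ι → ℕ := fun i => (Subgroup.normalizer (A i : Set G)).index
  have hc : ∀ i, Nat.card G = c i * (Nat.card (A i) * (F i).w) := fun i => by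
    rw [← (F i).cardN, Subgroup.index_mul_card]
  have hclassEq : Nat.card G = 1 + ∑ i, c i * (Nat.card (A i) - 1) := by
    have h1 := hformula (fun _ => 1) fun _ _ => rfl
    simp only [Finset.sum_const, nsmul_eq_mul, mul_one, Finset.card_univ,
      ← Nat.card_eq_fintype_card, card_punct] at h1
    have h2 : ((Nat.card G : ℕ) : ℂ) = ((1 + ∑ i, c i * (Nat.card (A i) - 1) : ℕ) : ℂ) := by
      rw [h1, Nat.cast_add, Nat.cast_one, Nat.cast_sum]
      simp only [Nat.cast_mul, c]
    exact_mod_cast h2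
  let θ : ∀ i : ι, Fin (F i).m → Cfsg.IrrCharacter G := fun i s => ⟨(F i).θ s, (F i).hθ s⟩
  have hθinj : ∀ i, Function.Injective (θ i) := fun i s t h =>
    (F i).θinj (congrArg Subtype.val h)
  let t : Cfsg.IrrCharacter G := ⟨fun _ => 1, isIrr_one⟩
  -- families are disjoint
  have horth : ∀ i j, i ≠ j → ∀ f g : G → ℂ,
      (∀ z, f z ≠ 0 → z ≠ 1 ∧ ∃ x : G, x⁻¹ * z * x ∈ A i) →
      (∀ z, g z ≠ 0 → z ≠ 1 ∧ ∃ x : G, x⁻¹ * z * x ∈ A j) → Cfsg.classInner f g = 0 := by
    intro i j hij f g hf hg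
    rw [Cfsg.classInner, Finset.sum_eq_zero, mul_zero]
    intro z _
    by_contra hne
    obtain ⟨hne1, hne2⟩ := not_or.1 (mt mul_eq_zero.2 hne)
    rw [map_eq_zero] at hne2
    obtain ⟨hz1, x, hx⟩ := hf z hne1
    obtain ⟨-, x', hx'⟩ := hg z hne2
    refine hij (hdisj i j (x⁻¹ * z * x) (x⁻¹ * x') hx (fun h => hz1 ?_) ?_)
    · calc z = x * (x⁻¹ * z * x) * x⁻¹ := by group
        _ = 1 := by rw [h]; group
    · rwa [show (x⁻¹ * x')⁻¹ * (x⁻¹ * z * x) * (x⁻¹ * x') = x'⁻¹ * z * x' by group]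
  have hsuppD : ∀ i s r, ∀ z, ((θ i s).1 - (θ i r).1) z ≠ 0 → z ≠ 1 ∧ ∃ x : G, x⁻¹ * z * x ∈ A i :=
    fun i s r z hz => (F i).supp s r z fun e => hz (by simp only [Pi.sub_apply]; exact sub_eq_zero.2 e)
  have hfam : ∀ i j, i ≠ j → ∀ s r, θ i s ≠ θ j r := by
    intro i j hij s r h
    obtain ⟨s', hs'⟩ : ∃ s', s' ≠ s := by
      haveI : Nontrivial (Fin (F i).m) := Fin.nontrivial_iff_two_le.2 (F i).hm
      exact exists_ne s
    obtain ⟨r', hr'⟩ : ∃ r', r' ≠ r := by
      haveI : Nontrivial (Fin (F j).m) := Fin.nontrivial_iff_two_le.2 (F j).hm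
      exact exists_ne r
    have h0 := horth i j hij _ _ (hsuppD i s s') (hsuppD j r r')
    have n1 : θ i s ≠ θ j r' := fun e => hr' (hθinj j (e.symm.trans h))
    have n2 : θ i s' ≠ θ j r := fun e => hs' (hθinj i (e.trans h.symm))
    rw [classInner_sub_left, classInner_sub_right, classInner_sub_right, classInner_irr,
      classInner_irr, classInner_irr, classInner_irr, if_pos h, if_neg n1, if_neg n2] at h0
    split_ifs at h0 <;> norm_num at h0
  choose b hb using fun (j : ι) (χ : Cfsg.IrrCharacter G) => (F j).bval χ.1 χ.2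
  have hbt : ∀ j, b j t = 1 := fun j => by
    have := (hb j t).symm.trans (F j).βone
    exact_mod_cast this
  have hconst : ∀ i j, i ≠ j → ∀ s r, b j (θ i s) = b j (θ i r) := by
    intro i j hij s r
    have h0 := horth j i (Ne.symm hij) (F j).β _ (F j).βsupp (hsuppD i s r)
    rw [classInner_sub_right, hb, hb, sub_eq_zero] at h0
    exact_mod_cast h0
  let Im : ι → Finset (Cfsg.IrrCharacter G) := fun j => Finset.univ.image (θ j)
  have hnotIm : ∀ j χ, χ ∉ Im j → ∀ s, χ ≠ θ j s := fun j χ h s e =>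
    h (Finset.mem_image.2 ⟨s, Finset.mem_univ s, e.symm⟩)
  have hImdisj : ∀ i j, i ≠ j → Disjoint (Im i) (Im j) := by
    intro i j hij
    rw [Finset.disjoint_left]
    intro χ hi hj
    obtain ⟨s, -, rfl⟩ := Finset.mem_image.1 hi
    obtain ⟨r, -, hr⟩ := Finset.mem_image.1 hj
    exact hfam i j hij s r hr.symm
  have htIm : ∀ j, t ∉ Im j := fun j h => by
    obtain ⟨s, -, hs⟩ := Finset.mem_image.1 h
    exact (F j).θne s (congrArg Subtype.val hs)
  have hnormsum : ∀ j, ∑ χ, b j χ ^ 2 = (F j).w + 1 := by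
    intro j
    have h1 := classInner_eq_sum (F j).βclass (F j).β
    simp only [hb, map_intCast, (F j).βnorm] at h1
    have h2 : ((∑ χ, b j χ ^ 2 : ℤ) : ℂ) = (((F j).w + 1 : ℕ) : ℂ) := by
      push_cast
      rw [h1]
      exact Finset.sum_congr rfl fun χ _ => sq _
    exact_mod_cast h2
  let cj : Cfsg.IrrCharacter G → Cfsg.IrrCharacter G := fun χ => ⟨_, isIrr_conj χ.2⟩
  have hpar : ∀ i j, i ≠ j → b j (θ i (F i).s₀) ≠ 0 ∨ b i (θ j (F j).s₀) ≠ 0 := by
    intro i j hij
    by_contra hcon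
    push Not at hcon
    obtain ⟨h1, h2⟩ := hcon
    have hzero : ∑ χ, b i χ * b j χ = 0 := by
      have h3 := classInner_eq_sum (F i).βclass (F j).β
      simp only [hb, map_intCast] at h3
      rw [horth i j hij _ _ (F i).βsupp (F j).βsupp] at h3
      have h5 : ((∑ χ, b i χ * b j χ : ℤ) : ℂ) = ((0 : ℤ) : ℂ) := by push_cast; exact h3.symm
      exact_mod_cast h5
    let R : Finset (Cfsg.IrrCharacter G) := (Finset.univ.erase t) \ (Im i ∪ Im j)
    have hRmem : ∀ χ, χ ∈ R ↔ χ ≠ t ∧ χ ∉ Im i ∧ χ ∉ Im j := fun χ => by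
      simp [R]
    have hcj : ∀ χ ∈ R, cj χ ∈ R ∧ b i (cj χ) = b i χ ∧ b j (cj χ) = b j χ := by
      intro χ hχ
      obtain ⟨hχt, hχi, hχj⟩ := (hRmem χ).1 hχ
      have hk : ∀ k, χ ∉ Im k → cj χ ∉ Im k ∧ b k (cj χ) = b k χ := by
        intro k hχk
        refine ⟨fun h => ?_, ?_⟩
        · obtain ⟨s, -, hs⟩ := Finset.mem_image.1 h
          obtain ⟨r, hr⟩ := (F k).conjClosed s
          refine hnotIm k χ hχk r (Subtype.ext ?_)
          show χ.1 = (F k).θ r
          rw [← hr, show (F k).θ s = (cj χ).1 from congrArg Subtype.val hs]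
          exact funext fun g => (Complex.conj_conj _).symm
        · have h3 := (F k).bconj χ.1 χ.2 fun s e => hnotIm k χ hχk s (Subtype.ext e)
          rw [hb k χ] at h3
          have h4 := (hb k (cj χ)).symm.trans h3
          exact_mod_cast h4
      refine ⟨(hRmem _).2 ⟨fun h => hχt (Subtype.ext (funext fun g => ?_)), (hk i hχi).1,
        (hk j hχj).1⟩, (hk i hχi).2, (hk j hχj).2⟩
      have h3 := congrArg (fun ψ : Cfsg.IrrCharacter G => conj (ψ.1 g)) h
      simpa [cj, t] using h3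
    have hReven : ((∑ χ ∈ R, b i χ * b j χ : ℤ) : ZMod 2) = 0 := by
      push_cast
      refine Finset.sum_involution (fun χ _ => cj χ) (fun χ hχ => ?_) (fun χ hχ _ h => ?_)
        (fun χ hχ => (hcj χ hχ).1) (fun χ hχ => Subtype.ext (funext fun g => Complex.conj_conj _))
      · rw [(hcj χ hχ).2.1, (hcj χ hχ).2.2]
        exact CharTwo.add_self_eq_zero _
      · refine ((hRmem χ).1 hχ).1 (Subtype.ext (eq_one_of_real_of_odd hodd χ.2 fun g => ?_))
        exact Complex.conj_eq_iff_im.1 (congrFun (congrArg Subtype.val h) g)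
    have hsub : ∀ i j, i ≠ j → b j (θ i (F i).s₀) = 0 → ∑ χ ∈ Im i, b i χ * b j χ = 0 := by
      intro i j hij h0
      refine Finset.sum_eq_zero fun χ hχ => ?_
      obtain ⟨s, -, rfl⟩ := Finset.mem_image.1 hχ
      rw [hconst i j hij s (F i).s₀, h0, mul_zero]
    have hsub' : ∑ χ ∈ Im j, b i χ * b j χ = 0 := by
      rw [← hsub j i (Ne.symm hij) h2]
      exact Finset.sum_congr rfl fun χ _ => mul_comm _ _
    have hsplit : ∑ χ, b i χ * b j χ = 1 + ∑ χ ∈ R, b i χ * b j χ := by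
      rw [← Finset.add_sum_erase _ _ (Finset.mem_univ t), hbt, hbt, mul_one]
      congr 1
      rw [← Finset.sum_sdiff (s₁ := Im i ∪ Im j) (fun χ hχ => Finset.mem_erase.2
        ⟨fun e => by rw [e] at hχ; exact (Finset.mem_union.1 hχ).elim (htIm i) (htIm j),
          Finset.mem_univ _⟩),
        Finset.sum_union (hImdisj i j hij), hsub i j hij h1, hsub', add_zero, add_zero]
    rw [hzero] at hsplit
    have h6 : ((0 : ℤ) : ZMod 2) = ((1 + ∑ χ ∈ R, b i χ * b j χ : ℤ) : ZMod 2) := by rw [← hsplit]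
    rw [Int.cast_add, hReven] at h6
    simp at h6
  -- choose the class with the least index
  haveI : Nonempty ι := by
    obtain ⟨g, hg⟩ := exists_ne (1 : G)
    obtain ⟨i, -⟩ := hcover g hg
    exact ⟨i⟩
  obtain ⟨i, -, hi⟩ := Finset.exists_min_image Finset.univ (fun i => (F i).w) Finset.univ_nonempty
  replace hi : ∀ j, (F i).w ≤ (F j).w := fun j => hi j (Finset.mem_univ j)
  let J : Finset ι := (Finset.univ.erase i).filter fun j => b i (θ j (F j).s₀) ≠ 0
  let out : Finset ι := (Finset.univ.erase i).filter fun j => b j (θ i (F i).s₀) ≠ 0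
  have hJ : ∑ j ∈ J, (F j).m + 1 ≤ (F i).w := by
    have hsum := hnormsum i
    rw [← Finset.add_sum_erase _ _ (Finset.mem_univ t), hbt, one_pow] at hsum
    have hsubset : Im i ∪ J.biUnion Im ⊆ Finset.univ.erase t := fun χ hχ =>
      Finset.mem_erase.2 ⟨fun e => by
        subst e
        rcases Finset.mem_union.1 hχ with h | h
        · exact htIm i h
        · obtain ⟨j, -, hj⟩ := Finset.mem_biUnion.1 h
          exact htIm j hj, Finset.mem_univ _⟩
    have hle := Finset.sum_le_sum_of_subset_of_nonneg (f := fun χ => b i χ ^ 2) hsubset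
      fun _ _ _ => sq_nonneg _
    have hdis : Disjoint (Im i) (J.biUnion Im) := by
      rw [Finset.disjoint_biUnion_right]
      intro j hj
      exact hImdisj i j (Ne.symm (Finset.ne_of_mem_erase (Finset.mem_filter.1 hj).1))
    rw [Finset.sum_union hdis, Finset.sum_biUnion fun j _ k _ hjk => hImdisj j k hjk] at hle
    have hi1 : 1 ≤ ∑ χ ∈ Im i, b i χ ^ 2 := by
      obtain ⟨s, hs⟩ := (F i).bnz
      have hs' : b i (θ i s) ≠ 0 := fun h => hs (by rw [show (F i).θ s = (θ i s).1 from rfl, hb, h, Int.cast_zero])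
      exact le_trans (Int.add_one_le_iff.2 (sq_pos_of_ne_zero hs'))
        (Finset.single_le_sum (fun χ _ => sq_nonneg (b i χ))
          (Finset.mem_image_of_mem (θ i) (Finset.mem_univ s)))
    have hJ1 : ∀ j ∈ J, ((F j).m : ℤ) ≤ ∑ χ ∈ Im j, b i χ ^ 2 := by
      intro j hj
      obtain ⟨hji, hne⟩ := Finset.mem_filter.1 hj
      have hji' : j ≠ i := Finset.ne_of_mem_erase hji
      rw [Finset.sum_image fun a _ b _ h => hθinj j h]
      calc ((F j).m : ℤ) = ∑ _s : Fin (F j).m, (1 : ℤ) := by simp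
        _ ≤ _ := Finset.sum_le_sum fun s _ => by
          rw [hconst j i hji' s (F j).s₀]
          exact Int.add_one_le_iff.2 (sq_pos_of_ne_zero hne)
    have hJ2 := Finset.sum_le_sum hJ1
    have : ((∑ j ∈ J, (F j).m + 1 : ℕ) : ℤ) ≤ ((F i).w : ℤ) := by
      push_cast; linarith
    exact_mod_cast this
  -- weights
  set n : ℝ := (Nat.card G : ℝ) with hn
  let L : ι → ℝ := fun j => (((F j).m * (F j).w + 1 : ℕ) : ℝ)
  let q : ι → ℝ := fun j => (c j : ℝ) * ((Nat.card (A j) : ℝ) - 1)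
  let T : ι → ℝ := fun j => (c j : ℝ) * ∑ z ∈ punct (A j), Complex.normSq ((F i).θ (F i).s₀ z)
  have hcR : ∀ j, n = (c j : ℝ) * ((Nat.card (A j) : ℝ) * ((F j).w : ℝ)) := fun j => by
    rw [hn, hc j]; push_cast; ring
  have hcR' : ∀ j, n = (c j : ℝ) * (Nat.card (Subgroup.normalizer (A j : Set G)) : ℝ) := fun j => by
    rw [hn, ← Subgroup.index_mul_card (Subgroup.normalizer (A j : Set G))]; push_cast; ring
  have hq0 : ∀ j, 0 ≤ q j := fun j => mul_nonneg (Nat.cast_nonneg _) (by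
    have : (1 : ℝ) ≤ (Nat.card (A j) : ℝ) := Nat.one_le_cast.2 Nat.card_pos
    linarith)
  have hnq : n = 1 + ∑ j, q j := by
    rw [hn, hclassEq]
    push_cast
    congr 1
    exact Finset.sum_congr rfl fun j _ => by
      rw [Nat.cast_sub Nat.card_pos, Nat.cast_one]
  have hqw : ∀ j, ((F j).w : ℝ) * q j ≤ n := fun j => by
    rw [hcR j]
    have : (0 : ℝ) ≤ ((c j : ℝ) * ((F j).w : ℝ)) := by positivity
    simp only [q]; nlinarith
  have hTn : ∃ d : ℕ, 0 < d ∧ n = (d : ℝ) ^ 2 + ∑ j, T j := by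
    let f : G → ℂ := fun g => (F i).θ (F i).s₀ g * conj ((F i).θ (F i).s₀ g)
    have hf : Cfsg.IsClassFunction G f := fun g k => by
      simp only [f, isClassFunction_of_isIrr ((F i).hθ _) g k]
    have h1 := hformula f hf
    have h2 : ∑ z, f z = (Nat.card G : ℂ) := by
      have h := classInner_isIrr_self ((F i).hθ (F i).s₀)
      rw [Cfsg.classInner, inv_mul_eq_one₀ natCard_ne_zero] at h
      exact h.symm
    obtain ⟨d, hd0, hd⟩ := exists_degree_pos ((F i).hθ (F i).s₀)
    refine ⟨d, hd0, ?_⟩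
    rw [h2, show f 1 = (((d : ℝ) ^ 2 : ℝ) : ℂ) by simp [f, hd, sq]] at h1
    have h3 : ∀ j, ∑ z ∈ punct (A j), f z =
        ((∑ z ∈ punct (A j), Complex.normSq ((F i).θ (F i).s₀ z) : ℝ) : ℂ) := fun j => by
      rw [Complex.ofReal_sum]
      exact Finset.sum_congr rfl fun z _ => Complex.mul_conj _
    simp only [h3] at h1
    have h4 : ((n : ℝ) : ℂ) = (((d : ℝ) ^ 2 + ∑ j, T j : ℝ) : ℂ) := by
      rw [hn, Complex.ofReal_natCast, h1]
      simp only [T, c, Complex.ofReal_add, Complex.ofReal_sum, Complex.ofReal_mul,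
        Complex.ofReal_natCast]
    exact_mod_cast h4
  have hT0 : ∀ j, 0 ≤ T j := fun j =>
    mul_nonneg (Nat.cast_nonneg _) (Finset.sum_nonneg fun z _ => Complex.normSq_nonneg _)
  have hTi : n * (L i - ((F i).w : ℝ)) ≤ L i * T i := by
    have h1 := mul_le_mul_of_nonneg_left (F i).selfBound (Nat.cast_nonneg (α := ℝ) (c i))
    calc n * (L i - ((F i).w : ℝ))
        = (c i : ℝ) * ((Nat.card (Subgroup.normalizer (A i : Set G)) : ℝ) * (L i - ((F i).w : ℝ))) := by
          rw [hcR' i]; ring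
      _ ≤ _ := h1
      _ = L i * T i := by simp only [L, T]; ring
  have hTout : ∀ j ∈ out, (L j - 1) * q j ≤ L j * T j := by
    intro j hj
    obtain ⟨hji, hne⟩ := Finset.mem_filter.1 hj
    have h1 := (F j).outBound _ ((F i).hθ (F i).s₀)
      (fun s e => hfam i j (Ne.symm (Finset.ne_of_mem_erase hji)) (F i).s₀ s (Subtype.ext e))
      _ (hb j (θ i (F i).s₀))
    have h2 := mul_le_mul_of_nonneg_left h1 (Nat.cast_nonneg (α := ℝ) (c j))
    have hb1 : (1 : ℝ) ≤ (b j (θ i (F i).s₀) : ℝ) ^ 2 := by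
      exact_mod_cast Int.add_one_le_iff.2 (sq_pos_of_ne_zero hne)
    have h3 : n * ((F j).m : ℝ) ≤ L j * T j := by
      calc n * ((F j).m : ℝ) ≤ n * (((F j).m : ℝ) * (b j (θ i (F i).s₀) : ℝ) ^ 2) :=
            mul_le_mul_of_nonneg_left (le_mul_of_one_le_right (Nat.cast_nonneg _) hb1)
              (Nat.cast_nonneg _)
        _ = (c j : ℝ) * ((Nat.card (Subgroup.normalizer (A j : Set G)) : ℝ) *
              (((F j).m : ℝ) * (b j (θ i (F i).s₀) : ℝ) ^ 2)) := by rw [hcR' j]; ring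
        _ ≤ _ := h2
        _ = L j * T j := by simp only [L, T]; ring
    refine le_trans ?_ h3
    have h4 := mul_le_mul_of_nonneg_left (hqw j) (Nat.cast_nonneg (α := ℝ) (F j).m)
    simp only [L]
    push_cast
    linarith
  obtain ⟨d, hd0, hnT⟩ := hTn
  have hd1 : (1 : ℝ) ≤ (d : ℝ) ^ 2 := one_le_pow₀ (Nat.one_le_cast.2 hd0)
  have houtsum : L i * (∑ j ∈ out, T j + 1) ≤ n * ((F i).w : ℝ) := by
    have hle : T i + ∑ j ∈ out, T j ≤ ∑ j, T j := by
      rw [← Finset.add_sum_erase _ _ (Finset.mem_univ i)]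
      exact add_le_add le_rfl (Finset.sum_le_sum_of_subset_of_nonneg (Finset.filter_subset _ _)
        fun j _ _ => hT0 j)
    have hL0 : 0 ≤ L i := Nat.cast_nonneg _
    have h2 : L i * (∑ j ∈ out, T j + 1) + L i * T i ≤ L i * n := by
      rw [← mul_add]; exact mul_le_mul_of_nonneg_left (by linarith) hL0
    linarith
  have hK : ∀ K : ℝ, 1 ≤ K → (∀ j ∈ out, K ≤ L j) →
      (K - 1) * ∑ j ∈ out, q j ≤ K * ∑ j ∈ out, T j := by
    intro K hK1 hK
    rw [Finset.mul_sum, Finset.mul_sum]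
    refine Finset.sum_le_sum fun j hj => ?_
    have hLj : (0 : ℝ) < L j := lt_of_lt_of_le (by linarith) (hK j hj)
    refine le_of_mul_le_mul_left ?_ hLj
    have h1 := mul_le_mul_of_nonneg_left (hTout j hj) (by linarith : (0 : ℝ) ≤ K)
    have h2 := mul_nonneg (sub_nonneg.2 (hK j hj)) (hq0 j)
    nlinarith
  have hcov : ∑ j ∈ Finset.univ.erase i, q j ≤ ∑ j ∈ out, q j + ∑ j ∈ J, q j := by
    rw [← Finset.sum_union_inter]
    refine le_trans (Finset.sum_le_sum_of_subset_of_nonneg (fun j hj => ?_) fun j _ _ => hq0 j)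
      (le_add_of_nonneg_right (Finset.sum_nonneg fun j _ => hq0 j))
    rcases hpar i j (Ne.symm (Finset.ne_of_mem_erase hj)) with h | h
    · exact Finset.mem_union_left _ (Finset.mem_filter.2 ⟨hj, h⟩)
    · exact Finset.mem_union_right _ (Finset.mem_filter.2 ⟨hj, h⟩)
  have htot : n ≤ 1 + q i + ∑ j ∈ out, q j + ∑ j ∈ J, q j := by
    rw [hnq, ← Finset.add_sum_erase _ _ (Finset.mem_univ i)]
    linarith
  have hsumm : (∑ j ∈ J, ((F j).m : ℝ)) + 1 ≤ ((F i).w : ℝ) := by
    exact_mod_cast hJ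
  have hn0 : 0 ≤ n := Nat.cast_nonneg _
  have hJq : ∀ K : ℝ, (∀ j ∈ J, K ≤ ((F j).m : ℝ) * ((F j).w : ℝ)) →
      K * ∑ j ∈ J, q j ≤ n * (((F i).w : ℝ) - 1) := by
    intro K hK
    rw [Finset.mul_sum]
    refine le_trans (Finset.sum_le_sum (g := fun j => n * ((F j).m : ℝ)) fun j hj => ?_) ?_
    · calc K * q j ≤ ((F j).m : ℝ) * ((F j).w : ℝ) * q j :=
            mul_le_mul_of_nonneg_right (hK j hj) (hq0 j)
        _ ≤ _ := by rw [mul_assoc, mul_comm n]; exact mul_le_mul_of_nonneg_left (hqw j) (Nat.cast_nonneg _)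
    · rw [← Finset.mul_sum]
      exact mul_le_mul_of_nonneg_left (by linarith) hn0
  have he3 : (3 : ℝ) ≤ ((F i).w : ℝ) := by exact_mod_cast (F i).hw
  have hqi := hqw i
  have hn1 : 1 ≤ n := Nat.one_le_cast.2 Nat.card_pos
  obtain ⟨e, he⟩ : ∃ e : ℝ, e = ((F i).w : ℝ) := ⟨_, rfl⟩
  rw [← he] at he3 hqi houtsum hJq
  obtain ⟨Qo, hQo⟩ : ∃ x : ℝ, x = ∑ j ∈ out, q j := ⟨_, rfl⟩
  obtain ⟨QJ, hQJ⟩ : ∃ x : ℝ, x = ∑ j ∈ J, q j := ⟨_, rfl⟩
  obtain ⟨To, hTo⟩ : ∃ x : ℝ, x = ∑ j ∈ out, T j := ⟨_, rfl⟩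
  rw [← hQo, ← hQJ] at htot
  rw [← hTo] at houtsum
  rw [← hQJ] at hJq
  rw [← hQo, ← hTo] at hK
  have hLle : ∀ j, (2 : ℝ) * e + 1 ≤ L j := fun j => by
    rw [he]
    have : 2 * (F i).w + 1 ≤ (F j).m * (F j).w + 1 :=
      Nat.add_le_add_right (Nat.mul_le_mul (F j).hm (hi j)) 1
    simp only [L]
    exact_mod_cast this
  rcases Nat.lt_or_ge (F i).m 4 with hm4 | hm4
  · have hm2 : (F i).m = 2 := by
      obtain ⟨k, hk⟩ := (F i).meven
      have := (F i).hm
      omega
    have hLi : L i = 2 * e + 1 := by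
      rw [he]; simp only [L, hm2]; push_cast; ring
    have hne : ∀ j, j ≠ i → (F j).m * (F j).w + 1 ≠ (F i).m * (F i).w + 1 := fun j hji h => by
      have h1 := Nat.eq_one_of_dvd_coprimes (hcop j i hji) (F j).dvd_card (h ▸ (F i).dvd_card)
      have := Nat.mul_le_mul (F j).hm (F j).hw
      omega
    have hmw : ∀ j, j ≠ i → 2 * ((F i).w + 2) ≤ (F j).m * (F j).w := by
      intro j hji
      rcases Nat.lt_or_ge (F j).m 4 with h4 | h4
      · have hj2 : (F j).m = 2 := by
          obtain ⟨k, hk⟩ := (F j).meven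
          have := (F j).hm
          omega
        have hne' := hne j hji
        rw [hj2, hm2] at hne'
        rw [hj2]
        have h1 := hi j
        have o1 : Odd (F j).w := hodd.of_dvd_nat
          (Dvd.intro_left (c j * Nat.card (A j)) (by rw [hc j, mul_assoc]))
        have o2 : Odd (F i).w := hodd.of_dvd_nat
          (Dvd.intro_left (c i * Nat.card (A i)) (by rw [hc i, mul_assoc]))
        obtain ⟨p, hp⟩ := o1
        obtain ⟨r, hr⟩ := o2
        omega
      · have h1 := Nat.mul_le_mul h4 (hi j)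
        have := (F i).hw
        omega
    have hout5 : ∀ j ∈ out, 2 * e + 5 ≤ L j := fun j hj => by
      have h1 := hmw j (Finset.ne_of_mem_erase (Finset.mem_filter.1 hj).1)
      rw [he]
      simp only [L]
      have : 2 * (F i).w + 5 ≤ (F j).m * (F j).w + 1 := by omega
      exact_mod_cast this
    have h5 := hK (2 * e + 5) (by linarith) hout5
    have h6 := hJq (2 * (e + 2)) fun j hj => by
      have h1 := hmw j (Finset.ne_of_mem_erase (Finset.mem_filter.1 hj).1)
      rw [he]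
      exact_mod_cast h1
    rw [hLi] at houtsum
    by_cases he3' : (F i).w = 3
    · have h7 : Nat.card (A i) = 7 := by
        have := (F i).prime_case (by rw [hm2, he3']; exact Nat.prime_seven)
        rw [this, hm2, he3']
      have he' : e = 3 := by rw [he, he3']; norm_num
      have hqi' : 21 * q i = 6 * n := by
        rw [hcR i]; simp only [q, h7, he3']; push_cast; ring
      subst he'
      linarith
    · have he5 : (5 : ℝ) ≤ e := by
        rw [he]
        have o2 : Odd (F i).w := hodd.of_dvd_nat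
          (Dvd.intro_left (c i * Nat.card (A i)) (by rw [hc i, mul_assoc]))
        obtain ⟨r, hr⟩ := o2
        have := (F i).hw
        have : 5 ≤ (F i).w := by omega
        exact_mod_cast this
      have hpoly : (0 : ℝ) < 2 * e ^ 2 - 5 * e - 4 := by nlinarith
      have e1 := mul_le_mul_of_nonneg_left htot (by positivity : (0 : ℝ) ≤ 2 * (e + 2) * e * (2 * e + 1))
      have e2 := mul_le_mul_of_nonneg_left hqi (by positivity : (0 : ℝ) ≤ 2 * (e + 2) * (2 * e + 1))
      have e3 := mul_le_mul_of_nonneg_left h5 (by positivity : (0 : ℝ) ≤ e * (2 * e + 1))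
      have e4 := mul_le_mul_of_nonneg_left houtsum (by positivity : (0 : ℝ) ≤ (2 * e + 5) * e)
      have e5 := mul_le_mul_of_nonneg_left h6 (by positivity : (0 : ℝ) ≤ e * (2 * e + 1))
      have e6 : (0 : ℝ) < n * (2 * e ^ 2 - 5 * e - 4) := mul_pos (by linarith) hpoly
      nlinarith
  · have hLi : 4 * e + 1 ≤ L i := by
      rw [he]
      simp only [L]
      have : 4 * (F i).w + 1 ≤ (F i).m * (F i).w + 1 :=
        Nat.add_le_add_right (Nat.mul_le_mul_right _ hm4) 1
      exact_mod_cast this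
    have h5 := hK (2 * e + 1) (by linarith) fun j _ => hLle j
    have h6 := hJq (2 * e) fun j _ => by
      rw [he]
      exact_mod_cast Nat.mul_le_mul (F j).hm (hi j)
    obtain ⟨Li, hLi'⟩ : ∃ x : ℝ, x = L i := ⟨_, rfl⟩
    rw [← hLi'] at hLi houtsum
    have hL0 : 0 ≤ Li := by linarith
    have e1 := mul_le_mul_of_nonneg_left htot (by positivity : (0 : ℝ) ≤ 2 * e * Li)
    have e2 := mul_le_mul_of_nonneg_left hqi (by positivity : (0 : ℝ) ≤ 2 * Li)
    have e3 := mul_le_mul_of_nonneg_left h5 hL0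
    have e4 := mul_le_mul_of_nonneg_left houtsum (by positivity : (0 : ℝ) ≤ 2 * e + 1)
    have e5 := mul_le_mul_of_nonneg_left h6 hL0
    have hpoly : (0 : ℝ) < (e - 1) * (4 * e + 1) - e * (2 * e + 1) := by nlinarith
    have e6 : (e - 1) * (4 * e + 1) ≤ (e - 1) * Li :=
      mul_le_mul_of_nonneg_left hLi (by linarith)
    have e7 : (0 : ℝ) < n * ((e - 1) * Li - e * (2 * e + 1)) := mul_pos (by linarith) (by linarith)
    nlinarith

end CfsgLib.Characters.CN
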