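import Cfsg.Agent.Characters.CACount
import Mathlib.GroupTheory.Nilpotent
import Mathlib.GroupTheory.Abelianization.Defs
import Mathlib.GroupTheory.SpecificGroups.Cyclic.Basic

/-!
# The exceptional family of a nilpotent T.I. subgroup

Only the characters induced from linear characters of the T.I. subgroup are used; values of other
characters on it are controlled by the inequality of Cauchy and Schwarz, so that no coherence is
needed.
-/

set_option autoImplicit false
set_option linter.style.haveILetI false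
set_option linter.unusedSectionVars false

namespace CfsgLib.Characters.CN

open scoped ComplexConjugate
open CfsgLib.OddOrderChar (conjBy)
open CfsgLib.CharactersDeep.Clifford (orbit mem_orbit)
open CfsgLib.Characters.CA (punct mem_punct cent)

universe u

/-- A nilpotent group with cyclic abelianization is commutative. -/
theorem comm_of_isCyclic_abelianization (H : Type u) [Group H] [Group.IsNilpotent H] :
    IsCyclic (Abelianization H) → ∀ a b : H, a * b = b * a := by
  refine Group.nilpotent_center_quotient_ind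
    (P := fun K _ _ => IsCyclic (Abelianization K) → ∀ a b : K, a * b = b * a) H ?_ ?_
  · intro K _ _ _ a b
    exact Subsingleton.elim _ _
  · intro K _ _ ih hc
    haveI := hc
    let p : Abelianization K →* Abelianization (K ⧸ Subgroup.center K) :=
      Abelianization.map (QuotientGroup.mk' (Subgroup.center K))
    have hp : Function.Surjective p := by
      intro x
      obtain ⟨q, rfl⟩ := QuotientGroup.mk_surjective x
      obtain ⟨k, rfl⟩ := QuotientGroup.mk'_surjective (Subgroup.center K) q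
      exact ⟨Abelianization.of k, rfl⟩
    haveI : IsCyclic (Abelianization (K ⧸ Subgroup.center K)) := isCyclic_of_surjective p hp
    have hq := ih inferInstance
    letI : CommGroup (K ⧸ Subgroup.center K) := { (inferInstance : Group (K ⧸ Subgroup.center K)) with mul_comm := hq }
    obtain ⟨g, hg⟩ := IsCyclic.exists_generator (α := Abelianization (K ⧸ Subgroup.center K))
    obtain ⟨q, rfl⟩ := QuotientGroup.mk_surjective g
    obtain ⟨g, rfl⟩ := QuotientGroup.mk'_surjective (Subgroup.center K) q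
    have hgen : ∀ k : K, ∃ i : ℤ, ∃ z ∈ Subgroup.center K, k = g ^ i * z := by
      intro k
      obtain ⟨i, hi⟩ := Subgroup.mem_zpowers_iff.1
        (hg (Abelianization.of (QuotientGroup.mk' (Subgroup.center K) k)))
      have hinj : Function.Injective (Abelianization.of (G := K ⧸ Subgroup.center K)) := by
        intro a b hab
        have := congrArg (Abelianization.lift (MonoidHom.id (K ⧸ Subgroup.center K))) hab
        simpa using this
      have h1 : QuotientGroup.mk' (Subgroup.center K) (g ^ i) =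
          QuotientGroup.mk' (Subgroup.center K) k := hinj (by
        rw [map_zpow, map_zpow]; exact hi)
      refine ⟨i, (g ^ i)⁻¹ * k, QuotientGroup.eq.1 h1, by group⟩
    intro a b
    obtain ⟨i, z, hz, rfl⟩ := hgen a
    obtain ⟨j, z', hz', rfl⟩ := hgen b
    have h1 := Subgroup.mem_center_iff.1 hz
    have h2 := Subgroup.mem_center_iff.1 hz'
    calc g ^ i * z * (g ^ j * z') = g ^ i * (z * g ^ j) * z' := by group
      _ = g ^ i * (g ^ j * z) * z' := by rw [h1 (g ^ j)]
      _ = g ^ i * g ^ j * (z * z') := by group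
      _ = g ^ j * g ^ i * (z' * z) := by rw [(Commute.zpow_zpow_self g i j).eq, h2 z]
      _ = g ^ j * (g ^ i * z') * z := by group
      _ = g ^ j * (z' * g ^ i) * z := by rw [h2 (g ^ i)]
      _ = g ^ j * z' * (g ^ i * z) := by group

variable {G : Type u} [Group G] [Fintype G]

/-- A nilpotent T.I. subgroup containing the centralizers of its non-identity elements. -/
structure TIData (H : Subgroup G) : Prop where
  nil : Group.IsNilpotent H
  ne : H ≠ ⊥
  centLe : ∀ x ∈ H, x ≠ 1 → cent x ≤ H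
  ti : ∀ g : G, g ∉ Subgroup.normalizer (H : Set G) →
    ∀ t ∈ (H : Set G), g * t * g⁻¹ ∈ (H : Set G) → t = 1
  big : ∃ g ∈ Subgroup.normalizer (H : Set G), g ∉ H

/-- What the counting argument uses about one class of nilpotent T.I. subgroups. -/
structure Family (H : Subgroup G) where
  m : ℕ
  w : ℕ
  hm : 2 ≤ m
  meven : Even m
  hw : 3 ≤ w
  dvd_card : m * w + 1 ∣ Nat.card H
  prime_case : (m * w + 1).Prime → Nat.card H = m * w + 1
  cardN : Nat.card (Subgroup.normalizer (H : Set G)) = Nat.card H * w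
  θ : Fin m → G → ℂ
  hθ : ∀ s, Cfsg.IsIrrCharacter G (θ s)
  θinj : Function.Injective θ
  θne : ∀ s, θ s ≠ fun _ => 1
  supp : ∀ s t g, θ s g ≠ θ t g → g ≠ 1 ∧ ∃ x : G, x⁻¹ * g * x ∈ H
  s₀ : Fin m
  β : G → ℂ
  βclass : Cfsg.IsClassFunction G β
  βsupp : ∀ g, β g ≠ 0 → g ≠ 1 ∧ ∃ x : G, x⁻¹ * g * x ∈ H
  βnorm : Cfsg.classInner β β = (w : ℂ) + 1
  βone : Cfsg.classInner β (fun _ => 1) = 1
  bval : ∀ Θ : G → ℂ, Cfsg.IsIrrCharacter G Θ → ∃ b : ℤ, Cfsg.classInner β Θ = (b : ℂ)
  bnz : ∃ s, Cfsg.classInner β (θ s) ≠ 0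
  conjClosed : ∀ s, ∃ t, (fun g => conj (θ s g)) = θ t
  bconj : ∀ Θ : G → ℂ, Cfsg.IsIrrCharacter G Θ → (∀ s, Θ ≠ θ s) →
    Cfsg.classInner β (fun g => conj (Θ g)) = Cfsg.classInner β Θ
  outBound : ∀ Θ : G → ℂ, Cfsg.IsIrrCharacter G Θ → (∀ s, Θ ≠ θ s) → ∀ b : ℤ,
    Cfsg.classInner β Θ = (b : ℂ) →
      (Nat.card (Subgroup.normalizer (H : Set G)) : ℝ) * ((m : ℝ) * (b : ℝ) ^ 2) ≤
        ((m * w + 1 : ℕ) : ℝ) * ∑ z ∈ punct H, Complex.normSq (Θ z)
  selfBound : (Nat.card (Subgroup.normalizer (H : Set G)) : ℝ) * (((m * w + 1 : ℕ) : ℝ) - (w : ℝ)) ≤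
    ((m * w + 1 : ℕ) : ℝ) * ∑ z ∈ punct H, Complex.normSq (θ s₀ z)

theorem conj_indFun {K : Type u} [Group K] [Fintype K] (M : Subgroup K) (f : M → ℂ) :
    (fun x => conj (Cfsg.indFun M f x)) = Cfsg.indFun M (fun x => conj (f x)) := by
  funext x
  simp only [Cfsg.indFun, map_mul, map_inv₀, Complex.conj_natCast, map_sum]
  congr 1
  refine Finset.sum_congr rfl fun g _ => ?_
  by_cases h : g⁻¹ * x * g ∈ M
  · rw [extendByZero_of_mem M _ h, extendByZero_of_mem M _ h]
  · rw [extendByZero_of_not_mem M _ h, extendByZero_of_not_mem M _ h, map_zero]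

theorem nonempty_family (hodd : Odd (Nat.card G)) {H : Subgroup G} (hH : TIData H) :
    Nonempty (Family H) := by
  classical
  set N := Subgroup.normalizer (H : Set G) with hNdef
  have hAN : H ≤ N := Subgroup.le_normalizer
  haveI := Fintype.ofFinite N
  set A' := H.subgroupOf N with hA'
  haveI hA'n : A'.Normal := Subgroup.normal_in_normalizer
  haveI := Fintype.ofFinite A'
  haveI := hH.nil
  haveI hA'nil : Group.IsNilpotent A' :=
    Group.nilpotent_of_mulEquiv (Subgroup.subgroupOfEquivOfLe hAN).symm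
  set a := Nat.card H with ha
  set w := A'.index with hw
  have ha' : Nat.card A' = a := Nat.card_congr (Subgroup.subgroupOfEquivOfLe hAN).toEquiv
  have hcardN : Nat.card N = a * w := by rw [← ha', mul_comm]; exact (Subgroup.index_mul_card A').symm
  -- fixed point freeness on linear characters
  have hfix : ∀ (g : N) (f : A' →* ℂˣ), g ∉ A' → conjBy A' (fun x => (f x : ℂ)) g = (fun x => (f x : ℂ)) →
      ∀ x, f x = 1 := by
    intro g f hg hfx x
    let c : A' → A' := fun x => ⟨g * x * g⁻¹, hA'n.conj_mem x x.2 g⟩ * x⁻¹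
    have hc : Function.Surjective c := by
      refine Finite.injective_iff_surjective.1 fun p q hpq => ?_
      have h1 := congrArg (fun z : A' => ((z : N) : G)) hpq
      simp only [c, Subgroup.coe_mul, Subgroup.coe_inv] at h1
      set r : G := ((q : N) : G)⁻¹ * p with hr
      have hrH : r ∈ H := mul_mem (inv_mem q.2) p.2
      have h2 : (g : G) * r = r * g :=
        calc (g : G) * r = ((g : G) * q * (g : G)⁻¹ * ((q : N) : G)⁻¹ * q)⁻¹ *
              ((g : G) * p * (g : G)⁻¹ * ((p : N) : G)⁻¹) * p * g := by rw [hr]; group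
          _ = r * g := by rw [h1, hr]; group
      have h3 : r = 1 := by
        by_contra h3
        exact hg (hH.centLe r hrH h3 (Subgroup.mem_centralizer_singleton_iff.2 h2))
      exact Subtype.ext (Subtype.ext (eq_of_inv_mul_eq_one h3).symm)
    obtain ⟨z, rfl⟩ := hc x
    have h4 : f ⟨g * z * g⁻¹, hA'n.conj_mem z z.2 g⟩ = f z := Units.ext (congrFun hfx z)
    simp only [c, map_mul, map_inv, h4, mul_inv_cancel]
  set Lin := Finset.univ.filter fun χ : Cfsg.IrrCharacter A' => χ.1 1 = 1 with hLin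
  set L := (commutator A').index with hL
  have hLcard : Lin.card = L := by
    rw [hL, ← card_linear_char (G := A'), Nat.card_eq_fintype_card, Fintype.card_subtype]
  have hL1 : 1 < L := by
    rw [hL]
    refine lt_of_le_of_ne (Nat.one_le_iff_ne_zero.2 Subgroup.index_ne_zero_of_finite) (Ne.symm fun h => ?_)
    haveI : Nontrivial A' := by
      obtain ⟨x, hx, hx1⟩ := (Subgroup.bot_or_exists_ne_one H).resolve_left hH.ne
      exact ⟨⟨⟨⟨x, hAN hx⟩, hx⟩, 1, fun h => hx1 (congrArg (fun z : A' => ((z : N) : G)) h)⟩⟩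
    exact (Group.IsSolvable.commutator_lt_top_of_nontrivial A').ne (Subgroup.index_eq_one.1 h)
  let one' : Cfsg.IrrCharacter A' := ⟨fun _ => 1, isIrr_one⟩
  let S : Finset (Cfsg.IrrCharacter A') := Lin.erase one'
  have hne1 : ∀ χ : Cfsg.IrrCharacter A', χ ∈ S → (χ : A' → ℂ) ≠ fun _ => 1 := fun χ hχ h =>
    Finset.ne_of_mem_erase hχ (Subtype.ext h)
  have hlin : ∀ χ : Cfsg.IrrCharacter A', χ ∈ S → (χ : A' → ℂ) 1 = 1 := fun χ hχ =>
    (Finset.mem_filter.1 (Finset.mem_of_mem_erase hχ)).2
  have hstab : ∀ χ : Cfsg.IrrCharacter A', χ ∈ S → ∀ g : N,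
      g ∈ A' ↔ conjBy A' (χ : A' → ℂ) g = χ := by
    refine fun χ hχ g => ⟨fun hg => funext fun x => ?_, fun h => ?_⟩
    · exact isClassFunction_of_isIrr χ.2 x ⟨g, hg⟩
    · by_contra hg
      obtain ⟨f, hf⟩ := exists_hom_of_degree_one (isCharacter_of_isIrr χ.2) (hlin χ hχ)
      rw [hf] at h
      refine hne1 χ hχ ?_
      rw [hf]
      funext x
      rw [hfix g f hg h x, Units.val_one]
  have horb : ∀ χ : Cfsg.IrrCharacter A', χ ∈ S → (orbit A' (χ : A' → ℂ)).card = w := by
    intro χ hχ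
    have h1 := CfsgLib.CharactersDeep.Clifford.card_orbit_mul A' (χ : A' → ℂ) A' (hstab χ hχ)
    rw [ha', hcardN, mul_comm a w] at h1
    exact Nat.eq_of_mul_eq_mul_right Nat.card_pos h1
  have hmem_self : ∀ θ : A' → ℂ, θ ∈ orbit A' θ := fun θ =>
    (mem_orbit A').2 ⟨1, CfsgLib.OddOrderChar.conjBy_one A' θ⟩
  have horb_eq : ∀ θ φ : A' → ℂ, φ ∈ orbit A' θ → orbit A' φ = orbit A' θ := by
    intro θ φ hφ
    obtain ⟨g, rfl⟩ := (mem_orbit A').1 hφ
    ext η
    rw [mem_orbit, mem_orbit]
    constructor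
    · rintro ⟨k, rfl⟩; exact ⟨g * k, (CfsgLib.OddOrderChar.conjBy_mul A' θ g k).symm⟩
    · rintro ⟨k, rfl⟩
      exact ⟨g⁻¹ * k, by rw [CfsgLib.OddOrderChar.conjBy_mul, mul_inv_cancel_left]⟩
  have hSmem : ∀ (χ : Cfsg.IrrCharacter A'), χ.1 1 = 1 → χ.1 ≠ (fun _ => 1) → χ ∈ S := fun χ h1 h2 =>
    Finset.mem_erase.2 ⟨fun e => h2 (congrArg Subtype.val e),
      Finset.mem_filter.2 ⟨Finset.mem_univ _, h1⟩⟩
  set O : Finset (Finset (A' → ℂ)) := S.image fun χ : Cfsg.IrrCharacter A' => orbit A' χ.1 with hO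
  have hfib : ∀ o ∈ O, (S.filter fun χ : Cfsg.IrrCharacter A' => orbit A' χ.1 = o).card = w := by
    intro o ho
    obtain ⟨χ, hχ, rfl⟩ := Finset.mem_image.1 ho
    rw [← horb χ hχ, ← Finset.card_image_of_injective _ Subtype.val_injective]
    congr 1
    ext φ
    simp only [Finset.mem_image, Finset.mem_filter]
    constructor
    · rintro ⟨η, ⟨-, hη⟩, rfl⟩
      exact hη ▸ hmem_self _
    · intro hφ
      obtain ⟨g, hg⟩ := (mem_orbit A').1 hφ
      have hφirr : Cfsg.IsIrrCharacter A' φ :=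
        hg ▸ CfsgLib.CharactersDeep.Clifford.isIrr_conjBy A' χ.2 g
      refine ⟨⟨φ, hφirr⟩, ⟨hSmem _ ?_ fun e => hne1 χ hχ ?_, horb_eq _ _ hφ⟩, rfl⟩
      · show φ 1 = 1
        rw [← hg, CfsgLib.OddOrderChar.conjBy_apply, ← hlin χ hχ]
        exact congrArg χ.1 (Subtype.ext (by simp))
      · refine CfsgLib.OddOrderChar.conjBy_injective A' g ?_
        show conjBy A' (χ : A' → ℂ) g = conjBy A' (fun _ => 1) g
        rw [hg, show φ = fun _ => 1 from e]
        rfl
  set m := O.card with hm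
  have hone'Lin : one' ∈ Lin := Finset.mem_filter.2 ⟨Finset.mem_univ _, rfl⟩
  have hcount : L = m * w + 1 := by
    have h1 := Finset.card_eq_sum_card_image (fun χ : Cfsg.IrrCharacter A' => orbit A' χ.1) S
    rw [← hO, Finset.sum_congr rfl hfib, Finset.sum_const, smul_eq_mul,
      Finset.card_erase_of_mem hone'Lin, hLcard] at h1
    show L = O.card * w + 1
    generalize O.card * w = q at h1 ⊢
    omega
  have hLdvd : L ∣ a := ha' ▸ Subgroup.index_dvd_card _
  have hw1 : w ≠ 1 := by
    obtain ⟨g, hgN, hgA⟩ := hH.big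
    intro h
    have : A' = ⊤ := Subgroup.index_eq_one.1 h
    have h2 : (⟨g, hgN⟩ : N) ∈ A' := by rw [this]; trivial
    exact hgA h2
  have hwodd : Odd w := hodd.of_dvd_nat
    ((Subgroup.index_dvd_card A').trans (Subgroup.card_subgroup_dvd_card N))
  have hLodd : Odd L := (hodd.of_dvd_nat (Subgroup.card_subgroup_dvd_card H)).of_dvd_nat hLdvd
  have hmeven : Even m := by
    by_contra hme
    rw [Nat.not_even_iff_odd] at hme
    exact Nat.not_even_iff_odd.2 hLodd (hcount ▸ (hme.mul hwodd).add_odd odd_one)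
  have hm2 : 2 ≤ m := by
    obtain ⟨k, hk⟩ := hmeven
    rcases Nat.eq_zero_or_pos m with h0 | h0
    · rw [h0] at hcount; omega
    · omega
  have hw3 : 3 ≤ w := by
    obtain ⟨k, hk⟩ := hwodd
    omega
  let e : Fin m ≃ O := O.equivFin.symm
  have hrep : ∀ s : Fin m, ∃ χ : Cfsg.IrrCharacter A', χ ∈ S ∧ orbit A' χ.1 = (e s : Finset _) :=
    fun s => Finset.mem_image.1 (e s).2
  choose R hRS hRo using hrep
  have hcover : ∀ χ : Cfsg.IrrCharacter A', χ ∈ S → ∃ t g, conjBy A' (R t).1 g = χ.1 := by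
    intro χ hχ
    obtain ⟨t, ht⟩ := e.surjective ⟨orbit A' χ.1, Finset.mem_image_of_mem _ hχ⟩
    exact ⟨t, (mem_orbit A').1 (by rw [hRo, ht]; exact hmem_self _)⟩
  have hsep : ∀ s t g, conjBy A' (R s).1 g = (R t).1 → s = t := by
    intro s t g h
    refine e.injective (Subtype.ext ?_)
    rw [← hRo, ← hRo]
    exact (horb_eq _ _ ((mem_orbit A').2 ⟨g, h⟩)).symm
  let χ : Fin m → N → ℂ := fun s => Cfsg.indFun A' (R s).1
  let res : Fin m → A' → ℂ := fun s x => χ s x
  have hχclass : ∀ s, Cfsg.IsClassFunction N (χ s) := fun s => isClassFunction_indFun A' _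
  have hres' : ∀ s, res s = (a : ℂ)⁻¹ • ∑ g : N, conjBy A' (R s).1 g := fun s => funext fun x => by
    simp only [res, χ]
    rw [CfsgLib.OddOrderChar.indFun_normal_apply, Pi.smul_apply, Finset.sum_apply, smul_eq_mul, ha']
  have hres : ∀ s t g, Cfsg.classInner (res s) (conjBy A' (R t).1 g) = if s = t then 1 else 0 := by
    intro s t g
    rw [CfsgLib.CharactersDeep.Clifford.classInner_restrict_conjBy A' (hχclass s) (R t).1 g,
      show (fun x : A' => χ s x) = res s from rfl, hres' s, classInner_smul_left, classInner_sum_left]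
    split_ifs with hst
    · subst hst
      rw [Finset.sum_congr rfl (g := fun g => if g ∈ A' then (1 : ℂ) else 0) fun g _ => ?_,
        Finset.sum_boole, ← Fintype.card_subtype, ← Nat.card_eq_fintype_card]
      · rw [show Nat.card {g : N // g ∈ A'} = a from ha', inv_mul_cancel₀]
        exact Nat.cast_ne_zero.2 Nat.card_pos.ne'
      · split_ifs with hg
        · rw [(hstab _ (hRS s) g).1 hg]; exact classInner_isIrr_self (R s).2
        · exact classInner_isIrr_ne (CfsgLib.CharactersDeep.Clifford.isIrr_conjBy A' (R s).2 g)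
            (R s).2 fun h => hg ((hstab _ (hRS s) g).2 h)
    · rw [Finset.sum_eq_zero fun g _ => classInner_isIrr_ne
        (CfsgLib.CharactersDeep.Clifford.isIrr_conjBy A' (R s).2 g) (R t).2
        fun h => hst (hsep s t g h), mul_zero]
  have hres1 : ∀ s, Cfsg.classInner (res s) (fun _ : A' => (1 : ℂ)) = 0 := by
    intro s
    rw [hres' s, classInner_smul_left, classInner_sum_left, Finset.sum_eq_zero fun g _ => ?_,
      mul_zero]
    refine classInner_isIrr_ne (CfsgLib.CharactersDeep.Clifford.isIrr_conjBy A' (R s).2 g)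
      isIrr_one fun hh => hne1 _ (hRS s) (CfsgLib.OddOrderChar.conjBy_injective A' g ?_)
    exact hh.trans rfl
  have hχinner : ∀ s t, Cfsg.classInner (χ s) (χ t) = if s = t then 1 else 0 := by
    intro s t
    have := hres t s 1
    rw [CfsgLib.OddOrderChar.conjBy_one] at this
    rw [classInner_indFun A' _ (hχclass t), classInner_conj_symm (res t), this]
    split_ifs with h1 h2 h2
    exacts [map_one _, absurd h1.symm h2, absurd h2.symm h1, map_zero _]
  have hχirr : ∀ s, Cfsg.IsIrrCharacter N (χ s) := fun s =>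
    isIrr_of_classInner_self (isCharacter_indFun A' (isCharacter_of_isIrr (R s).2))
      (by rw [hχinner, if_pos rfl])
  have hχinj : Function.Injective χ := fun s t h => by
    by_contra hne
    have := hχinner s t
    rw [if_neg hne, ← h, classInner_isIrr_self (hχirr s)] at this
    exact one_ne_zero this
  have hχone : ∀ s, χ s 1 = (w : ℂ) := fun s => by
    show Cfsg.indFun A' (R s).1 1 = _
    rw [indFun_one, hlin _ (hRS s), mul_one]
  have hχvan : ∀ s, ∀ x : N, (x : G) ∉ H → χ s x = 0 := fun s x hx =>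
    CfsgLib.OddOrderChar.indFun_normal_eq_zero A' _ (fun h => hx h)
  have hχtriv : ∀ s, Cfsg.classInner (χ s) (fun _ => 1) = 0 := fun s => by
    rw [classInner_indFun A' _ (isClassFunction_of_isIrr isIrr_one)]
    exact classInner_isIrr_ne (R s).2 isIrr_one (hne1 _ (hRS s))
  obtain ⟨ε₀, hε₀, θ, hθ, hθinj, hdiff⟩ := Cfsg.Agent.S0170.result (H : Set G) hAN hH.ti m hm2 χ
    hχirr hχinj hχvan (fun s t => by rw [hχone, hχone])
  obtain ⟨ε, hε, rfl⟩ : ∃ ε : ℤ, (ε = 1 ∨ ε = -1) ∧ ε₀ = (ε : ℂ) := by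
    rcases hε₀ with h | h
    exacts [⟨1, Or.inl rfl, by simp [h]⟩, ⟨-1, Or.inr rfl, by simp [h]⟩]
  have hε0 : (ε : ℂ) ≠ 0 := by rcases hε with h | h <;> simp [h]
  have hsupp : ∀ f : N → ℂ, (∀ x : N, (x : G) ∉ H → f x = 0) → f 1 = 0 → ∀ g,
      Cfsg.indFun N f g ≠ 0 → g ≠ 1 ∧ ∃ x : G, x⁻¹ * g * x ∈ H := by
    intro f hf hf1 g hg
    refine ⟨fun h => hg (by rw [h, indFun_one, hf1, mul_zero]), ?_⟩
    by_contra hcon
    push Not at hcon
    refine hg ?_
    simp only [Cfsg.indFun]
    rw [Finset.sum_eq_zero, mul_zero]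
    intro x _
    by_cases hm : x⁻¹ * g * x ∈ N
    · rw [extendByZero_of_mem N f hm]; exact hf _ (hcon x)
    · exact extendByZero_of_not_mem N f hm
  have hone_inner : ∀ s t, Cfsg.classInner (Cfsg.indFun N (χ s - χ t)) (fun _ => 1) = 0 := by
    intro s t
    rw [classInner_indFun N _ (isClassFunction_of_isIrr isIrr_one), classInner_sub_left, hχtriv,
      hχtriv, sub_zero]
  have hθne : ∀ s, θ s ≠ fun _ => 1 := by
    intro s hs
    obtain ⟨t, ht⟩ : ∃ t, t ≠ s := by
      haveI : Nontrivial (Fin m) := Fin.nontrivial_iff_two_le.2 hm2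
      exact exists_ne s
    have h1 := hone_inner s t
    rw [indFun_sub, hdiff, classInner_smul_left, classInner_sub_left,
      classInner_isIrr_ne (hθ t) isIrr_one (fun h => ht (hθinj (h.trans hs.symm))), hs,
      classInner_isIrr_self isIrr_one, sub_zero, mul_one] at h1
    exact hε0 h1
  let s₀ : Fin m := ⟨0, by omega⟩
  let f₁ : N → ℂ := Cfsg.indFun A' (fun _ => 1)
  have hf1c : Cfsg.IsClassFunction N f₁ := isClassFunction_indFun A' _
  have hf11 : f₁ 1 = (w : ℂ) := by
    show Cfsg.indFun A' (fun _ => 1) 1 = _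
    rw [indFun_one, mul_one]
  have hf1van : ∀ x : N, (x : G) ∉ H → f₁ x = 0 := fun x hx =>
    CfsgLib.OddOrderChar.indFun_normal_eq_zero A' _ (fun h => hx h)
  have hf1χ : ∀ s, Cfsg.classInner f₁ (χ s) = 0 := fun s => by
    rw [classInner_indFun A' _ (hχclass s), classInner_conj_symm]
    rw [show Cfsg.classInner (fun x : A' => χ s x) (fun _ => 1) = 0 from hres1 s, map_zero]
  have hf1f1 : Cfsg.classInner f₁ f₁ = (w : ℂ) := by
    rw [classInner_indFun A' _ hf1c,
      show (fun x : A' => f₁ x) = fun _ => (w : ℂ) from funext fun x => ?_,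
      show (fun _ : A' => (w : ℂ)) = (w : ℂ) • (fun _ => (1 : ℂ)) from funext fun _ => (mul_one _).symm,
      classInner_smul_right, classInner_isIrr_self isIrr_one, Complex.conj_natCast, mul_one]
    show Cfsg.indFun A' (fun _ => 1) (x : N) = _
    rw [CfsgLib.OddOrderChar.indFun_normal_apply]
    simp only [CfsgLib.OddOrderChar.conjBy, Finset.sum_const, Finset.card_univ,
      ← Nat.card_eq_fintype_card, hcardN, ha', nsmul_eq_mul, mul_one, Nat.cast_mul]
    rw [← mul_assoc, inv_mul_cancel₀ (Nat.cast_ne_zero.2 Nat.card_pos.ne'), one_mul]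
  let ψ : N → ℂ := f₁ - χ s₀
  have hψc : Cfsg.IsClassFunction N ψ := fun x z => by
    simp only [ψ, Pi.sub_apply, hf1c x z, hχclass s₀ x z]
  have hψ1 : ψ 1 = 0 := by simp [ψ, hf11, hχone]
  have hψA : ∀ x : N, (x : G) ∉ H → ψ x = 0 := fun x hx => by
    simp [ψ, hf1van x hx, hχvan s₀ x hx]
  set β := Cfsg.indFun N ψ with hβ
  -- restrictions of irreducible characters of `G`
  have hΘN : ∀ Θ : G → ℂ, Cfsg.IsIrrCharacter G Θ → Cfsg.IsCharacter N (fun x : N => Θ x) :=
    fun Θ hΘ => isCharacter_restrict N (isCharacter_of_isIrr hΘ)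
  have hcoef : ∀ Θ : G → ℂ, Cfsg.IsIrrCharacter G Θ → ∃ c v : ℤ,
      Cfsg.classInner f₁ (fun x : N => Θ x) = (c : ℂ) ∧
      (∀ t, Cfsg.classInner (χ t) (fun x : N => Θ x) =
        (v : ℂ) + (ε : ℂ) * if Θ = θ t then 1 else 0) ∧
      Cfsg.classInner β Θ = (c : ℂ) - ((v : ℂ) + (ε : ℂ) * if Θ = θ s₀ then 1 else 0) := by
    intro Θ hΘ
    obtain ⟨c, hc⟩ := classInner_characters (isCharacter_indFun A' (isCharacter_one (G := A')))
      (hΘN Θ hΘ)
    choose ct hct using fun t => classInner_characters (isCharacter_of_isIrr (hχirr t)) (hΘN Θ hΘ)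
    let d : Fin m → ℤ := fun t => if Θ = θ t then 1 else 0
    have hd : ∀ t, Cfsg.classInner (θ t) Θ = (d t : ℂ) := fun t => by
      simp only [d]
      split_ifs with e
      · rw [e, classInner_isIrr_self (hθ t), Int.cast_one]
      · rw [classInner_isIrr_ne (hθ t) hΘ (Ne.symm e), Int.cast_zero]
    refine ⟨c, (ct s₀ : ℤ) - ε * d s₀, by rw [Int.cast_natCast]; exact hc, fun t => ?_, ?_⟩
    · have h1 := classInner_indFun N (χ t - χ s₀) (isClassFunction_of_isIrr hΘ)
      rw [indFun_sub, hdiff, classInner_smul_left, classInner_sub_left, classInner_sub_left,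
        hd, hd, hct, hct] at h1
      rw [hct t]
      simp only [d] at h1 ⊢
      push_cast at h1 ⊢
      linear_combination -h1
    · rw [hβ, classInner_indFun N _ (isClassFunction_of_isIrr hΘ), show ψ = f₁ - χ s₀ from rfl,
        classInner_sub_left, hc, hct]
      simp only [d]
      push_cast
      ring
  let h : (N → ℂ) → G → ℂ := fun f => Cfsg.extendByZero N f
  -- the inequality of Cauchy and Schwarz
  have hCS : ∀ (A : ℤ) (B : Fin m → ℤ), A + ∑ t, B t = 0 → ∀ (Θ : G → ℂ),
      Cfsg.IsIrrCharacter G Θ → ∀ (I Q : ℤ),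
      (A : ℂ) * Cfsg.classInner f₁ (fun x : N => Θ x) +
        ∑ t, (B t : ℂ) * Cfsg.classInner (χ t) (fun x : N => Θ x) = (I : ℂ) →
      (w : ℤ) * A ^ 2 + ∑ t, B t ^ 2 = Q →
      (Nat.card N : ℝ) * (2 * (L : ℝ) * (I : ℝ) - (Q : ℝ)) ≤
        (L : ℝ) ^ 2 * ∑ z ∈ punct H, Complex.normSq (Θ z) := by
    intro A B hAB Θ hΘ I Q hI hQ
    set Φ : N → ℂ := (A : ℂ) • f₁ + ∑ t, (B t : ℂ) • χ t with hΦ
    have hΦ1 : Φ 1 = 0 := by
      simp only [hΦ, Pi.add_apply, Pi.smul_apply, Finset.sum_apply, smul_eq_mul, hf11, hχone,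
        ← Finset.sum_mul, ← add_mul]
      rw [show (A : ℂ) + ∑ t, (B t : ℂ) = ((A + ∑ t, B t : ℤ) : ℂ) by push_cast; rfl, hAB,
        Int.cast_zero, zero_mul]
    have hΦH : ∀ x : N, (x : G) ∉ H → Φ x = 0 := fun x hx => by
      simp [hΦ, hf1van x hx, hχvan _ x hx]
    set P : G → ℂ := Cfsg.extendByZero N Φ with hP
    have hP0 : ∀ z, z ∉ punct H → P z = 0 := by
      intro z hz
      by_cases hzN : z ∈ N
      · rw [show P z = Φ ⟨z, hzN⟩ from extendByZero_of_mem N _ hzN]
        by_cases h1 : z = 1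
        · rw [show (⟨z, hzN⟩ : N) = 1 from Subtype.ext h1, hΦ1]
        · exact hΦH _ fun hH' => hz (mem_punct.2 ⟨hH', h1⟩)
      · exact extendByZero_of_not_mem N _ hzN
    have hNc : (Nat.card N : ℂ) ≠ 0 := Nat.cast_ne_zero.2 Nat.card_pos.ne'
    have hPΘ : ∑ z ∈ punct H, P z * conj (Θ z) = (Nat.card N : ℂ) * (I : ℂ) := by
      rw [Finset.sum_subset (Finset.subset_univ _) fun z _ hz => by rw [hP0 z hz, zero_mul],
        sum_subgroup_extendByZero N Φ fun z => conj (Θ z)]
      have h1 : Cfsg.classInner Φ (fun x : N => Θ x) = (I : ℂ) := by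
        rw [← hI, hΦ, classInner_add_left, classInner_smul_left, classInner_sum_left]
        simp only [classInner_smul_left]
      rw [← h1, Cfsg.classInner, ← mul_assoc, mul_inv_cancel₀ hNc, one_mul]
    have hPP : ∑ z ∈ punct H, P z * conj (P z) = (Nat.card N : ℂ) * (Q : ℂ) := by
      rw [Finset.sum_subset (Finset.subset_univ _) fun z _ hz => by rw [hP0 z hz, zero_mul],
        sum_subgroup_extendByZero N Φ fun z => conj (P z)]
      have h1 : Cfsg.classInner Φ Φ = (Q : ℂ) := by
        have hf1χ' : ∀ t, Cfsg.classInner (χ t) f₁ = 0 := fun t => by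
          rw [classInner_conj_symm f₁ (χ t), hf1χ, map_zero]
        rw [← hQ, hΦ]
        simp only [classInner_add_left, classInner_add_right, classInner_smul_left,
          classInner_smul_right, classInner_sum_left, classInner_sum_right, hf1f1, hf1χ, hf1χ',
          hχinner, map_intCast, mul_ite, mul_one, mul_zero, Finset.sum_ite_eq, Finset.mem_univ,
          if_true, Finset.sum_const_zero, add_zero, zero_add]
        push_cast
        simp only [Finset.sum_ite_eq', Finset.mem_univ, if_true, sq]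
        ring
      rw [← h1, Cfsg.classInner, ← mul_assoc, mul_inv_cancel₀ hNc, one_mul]
      exact Finset.sum_congr rfl fun x _ => by
        rw [show P (x : G) = Φ x from extendByZero_coe N _ x]
    have h2 : ∑ z ∈ punct H, Complex.normSq ((L : ℂ) * Θ z - P z) =
        (L : ℝ) ^ 2 * ∑ z ∈ punct H, Complex.normSq (Θ z) +
          (∑ z ∈ punct H, P z * conj (P z)).re -
            2 * (L : ℝ) * (∑ z ∈ punct H, P z * conj (Θ z)).re := by
      rw [Complex.re_sum, Complex.re_sum, Finset.mul_sum, Finset.mul_sum, ← Finset.sum_add_distrib,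
        ← Finset.sum_sub_distrib]
      refine Finset.sum_congr rfl fun z _ => ?_
      simp [Complex.normSq_apply, Complex.mul_re, Complex.mul_im]
      ring
    have h3 : 0 ≤ ∑ z ∈ punct H, Complex.normSq ((L : ℂ) * Θ z - P z) :=
      Finset.sum_nonneg fun z _ => Complex.normSq_nonneg _
    rw [h2, hPΘ, hPP] at h3
    simp only [Complex.mul_re, Complex.natCast_re, Complex.natCast_im, Complex.intCast_re,
      Complex.intCast_im, zero_mul, mul_zero, sub_zero] at h3
    nlinarith
  have hLpos : (0 : ℝ) < (L : ℝ) := Nat.cast_pos.2 (by omega)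
  -- conjugate family
  have hconjχ : ∀ s, ∃ t, (fun x => conj (χ s x)) = χ t := by
    intro s
    obtain ⟨t, g, hg⟩ := hcover ⟨fun x => conj ((R s).1 x), isIrr_conj (R s).2⟩
      (hSmem _ (by show conj ((R s).1 1) = 1; rw [hlin _ (hRS s), map_one])
        fun hh => hne1 _ (hRS s) (funext fun x => by
          have := congrArg conj (congrFun hh x)
          simpa using this))
    refine ⟨t, ?_⟩
    have hirr := isIrr_conj (hχirr s)
    by_contra hne
    have h0 := classInner_isIrr_ne hirr (hχirr t) hne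
    have hg' : conjBy A' (R t).1 g = fun x => conj ((R s).1 x) := hg
    rw [conj_indFun A' (R s).1, classInner_indFun A' _ (hχclass t), ← hg'] at h0
    rw [classInner_conj_symm (res t) (conjBy A' (R t).1 g), hres t t g, if_pos rfl, map_one] at h0
    exact one_ne_zero h0
  have hθconj : ∀ s, ∃ t, (fun g => conj (θ s g)) = θ t := by
    intro s
    obtain ⟨r, hr⟩ : ∃ r, r ≠ s := by
      haveI : Nontrivial (Fin m) := Fin.nontrivial_iff_two_le.2 hm2
      exact exists_ne s
    obtain ⟨s', hs'⟩ := hconjχ s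
    obtain ⟨r', hr'⟩ := hconjχ r
    refine ⟨s', ?_⟩
    by_contra hne
    have h1 : (fun g => conj ((θ s - θ r) g)) = θ s' - θ r' := by
      refine smul_right_injective (G → ℂ) hε0 ?_
      show (ε : ℂ) • (fun g => conj ((θ s - θ r) g)) = (ε : ℂ) • (θ s' - θ r')
      rw [← hdiff s' r', ← indFun_sub, ← hs', ← hr']
      have h2 : ((fun x => conj (χ s x)) - fun x => conj (χ r x)) =
          fun x => conj ((χ s - χ r) x) := funext fun x => by simp
      rw [h2, ← conj_indFun N, indFun_sub, hdiff]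
      funext g
      simp
    have h3 := congrArg (fun f => Cfsg.classInner f (fun g => conj (θ s g))) h1
    have hsplit : (fun g => conj ((θ s - θ r) g)) =
        (fun g => conj (θ s g)) - fun g => conj (θ r g) := funext fun g => by simp
    simp only [hsplit, classInner_sub_left] at h3
    rw [classInner_isIrr_self (isIrr_conj (hθ s)),
      classInner_isIrr_ne (isIrr_conj (hθ r)) (isIrr_conj (hθ s)) (fun e => hr (hθinj (funext fun g => by
        have := congrArg conj (congrFun e g)
        simpa using this))),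
      classInner_isIrr_ne (hθ s') (isIrr_conj (hθ s)) (Ne.symm hne)] at h3
    by_cases e : θ r' = fun g => conj (θ s g)
    · rw [← e, classInner_isIrr_self (hθ r')] at h3; norm_num at h3
    · rw [classInner_isIrr_ne (hθ r') (isIrr_conj (hθ s)) e] at h3; norm_num at h3
  refine ⟨{
    m := m, w := w, hm := hm2, meven := hmeven, hw := hw3
    dvd_card := by rw [← hcount]; exact hLdvd
    prime_case := ?_
    cardN := hcardN
    θ := θ, hθ := hθ, θinj := hθinj, θne := hθne
    supp := ?_
    s₀ := s₀, β := β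
    βclass := isClassFunction_indFun N ψ
    βsupp := hsupp ψ hψA hψ1
    βnorm := ?_, βone := ?_, bval := ?_, bnz := ?_
    conjClosed := hθconj
    bconj := ?_, outBound := ?_, selfBound := ?_ }⟩
  · intro hp
    rw [← hcount] at hp ⊢
    haveI := Fact.mk hp
    have hc : IsCyclic (Abelianization A') :=
      isCyclic_of_prime_card (p := L) (Subgroup.index_eq_card (commutator A')).symm
    have hcomm := comm_of_isCyclic_abelianization A' hc
    have hbot : commutator A' = ⊥ := by
      rw [commutator_def, Subgroup.commutator_eq_bot_iff_le_centralizer]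
      exact fun x _ => Subgroup.mem_centralizer_iff.2 fun y _ => hcomm y x
    rw [hL, hbot, Subgroup.index_bot, ha']
  · intro s t g hne
    refine hsupp (χ s - χ t) (fun x hx => by simp [hχvan s x hx, hχvan t x hx])
      (by simp [hχone]) g fun h0 => hne ?_
    rw [indFun_sub, hdiff, Pi.smul_apply, smul_eq_mul, mul_eq_zero] at h0
    exact sub_eq_zero.1 (h0.resolve_left hε0)
  · rw [hβ, Cfsg.Agent.S0150.result (H : Set G) hH.ti hAN ψ ψ hψc hψc hψA hψA hψ1,
      show ψ = f₁ - χ s₀ from rfl, classInner_sub_left, classInner_sub_right, classInner_sub_right,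
      hf1f1, hf1χ, hχinner, if_pos rfl, classInner_conj_symm f₁ (χ s₀), hf1χ, map_zero]
    ring
  · rw [hβ, classInner_indFun N _ (isClassFunction_of_isIrr isIrr_one),
      show ψ = f₁ - χ s₀ from rfl, classInner_sub_left, hχtriv, sub_zero,
      classInner_indFun A' _ (isClassFunction_of_isIrr isIrr_one)]
    exact classInner_isIrr_self isIrr_one
  · intro Θ hΘ
    obtain ⟨c, v, -, -, hb⟩ := hcoef Θ hΘ
    exact ⟨c - (v + ε * if Θ = θ s₀ then 1 else 0), by
      rw [hb]; push_cast; split_ifs <;> simp⟩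
  · by_contra hcon
    push Not at hcon
    obtain ⟨t, ht⟩ : ∃ t, t ≠ s₀ := by
      haveI : Nontrivial (Fin m) := Fin.nontrivial_iff_two_le.2 hm2
      exact exists_ne s₀
    have h1 : Cfsg.classInner β (θ t - θ s₀) = 0 := by
      rw [classInner_sub_right, hcon, hcon, sub_zero]
    have hc : Cfsg.IsClassFunction N (χ t - χ s₀) := fun x z => by
      simp only [Pi.sub_apply, hχclass t x z, hχclass s₀ x z]
    have h2 := Cfsg.Agent.S0150.result (H : Set G) hH.ti hAN ψ (χ t - χ s₀) hψc hc hψA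
      (fun x hx => by simp [hχvan t x hx, hχvan s₀ x hx]) hψ1
    rw [← hβ, indFun_sub, hdiff, classInner_smul_right, h1, mul_zero, show ψ = f₁ - χ s₀ from rfl,
      classInner_sub_left, classInner_sub_right, classInner_sub_right, hf1χ, hf1χ, hχinner, hχinner,
      if_neg (Ne.symm ht), if_pos rfl] at h2
    norm_num at h2
  · intro Θ hΘ hnot
    obtain ⟨s', hs'⟩ := hconjχ s₀
    have hf1conj : (fun x => conj (f₁ x)) = f₁ := by
      show (fun x => conj (Cfsg.indFun A' (fun _ => 1) x)) = _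
      rw [conj_indFun A']
      simp only [map_one]
      rfl
    have hβconj : (fun g => conj (β g)) = β + (ε : ℂ) • (θ s₀ - θ s') := by
      rw [hβ, conj_indFun N, ← hdiff s₀ s', ← indFun_sub, ← indFun_add]
      congr 1
      funext x
      have h1 := congrFun hf1conj x
      have h2 := congrFun hs' x
      simp only [ψ, Pi.sub_apply, Pi.add_apply, map_sub] at h1 h2 ⊢
      rw [h1, h2]; ring
    have h1 := classInner_conj_conj β (fun g => conj (Θ g))
    simp only [Complex.conj_conj] at h1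
    rw [hβconj, classInner_add_left, classInner_smul_left, classInner_sub_left,
      classInner_isIrr_ne (hθ s₀) hΘ (Ne.symm (hnot s₀)),
      classInner_isIrr_ne (hθ s') hΘ (Ne.symm (hnot s')), sub_zero, mul_zero, add_zero] at h1
    obtain ⟨b, hb⟩ : ∃ b : ℤ, Cfsg.classInner β Θ = (b : ℂ) := by
      obtain ⟨c, v, -, -, hb⟩ := hcoef Θ hΘ
      exact ⟨c - (v + ε * if Θ = θ s₀ then 1 else 0), by
        rw [hb]; push_cast; split_ifs <;> simp⟩
    rw [hb] at h1 ⊢
    have h2 := congrArg conj h1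
    rw [map_intCast, Complex.conj_conj] at h2
    exact h2.symm
  · intro Θ hΘ hnot b hb
    obtain ⟨c, v, hc, hv, hβΘ⟩ := hcoef Θ hΘ
    have hbcv : (b : ℂ) = (c : ℂ) - v := by
      rw [← hb, hβΘ, if_neg (hnot s₀), mul_zero, add_zero]
    have h1 := hCS ((m : ℤ) * b) (fun _ => -b) (by simp) Θ hΘ ((m : ℤ) * b ^ 2)
      ((w : ℤ) * ((m : ℤ) * b) ^ 2 + (m : ℤ) * b ^ 2) (by
        simp only [hc, hv, if_neg (hnot _), mul_zero, add_zero, Finset.sum_const, Finset.card_univ,
          Fintype.card_fin, nsmul_eq_mul]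
        push_cast
        linear_combination (-(m : ℂ) * b) * hbcv) (by simp)
    rw [hcount] at h1 hLpos
    refine le_of_mul_le_mul_left ?_ hLpos
    push_cast at h1 ⊢
    nlinarith [h1]
  · obtain ⟨c, v, hc, hv, -⟩ := hcoef (θ s₀) (hθ s₀)
    set U : ℤ := c - v with hU
    let B : Fin m → ℤ := fun t => (if t = s₀ then ε * (L : ℤ) else 0) - (U + ε * w)
    have hBsum : ∑ t, B t = ε * (L : ℤ) - (m : ℤ) * (U + ε * w) := by
      simp [B, Finset.sum_sub_distrib]
    have hB2 : ∑ t, B t ^ 2 =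
        (m : ℤ) * (U + ε * w) ^ 2 + (ε * (L : ℤ)) ^ 2 - 2 * (ε * (L : ℤ)) * (U + ε * w) := by
      have : ∀ t, B t ^ 2 = (U + ε * w) ^ 2 +
          if t = s₀ then (ε * (L : ℤ)) ^ 2 - 2 * (ε * (L : ℤ)) * (U + ε * w) else 0 := by
        intro t; simp only [B]; split_ifs <;> ring
      rw [Finset.sum_congr rfl fun t _ => this t, Finset.sum_add_distrib, Finset.sum_const,
        Finset.card_univ, Fintype.card_fin, nsmul_eq_mul, Finset.sum_ite_eq', if_pos (Finset.mem_univ _)]
      ring
    have hεsq : ε ^ 2 = 1 := by rcases hε with h | h <;> simp [h]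
    have hLz : (L : ℤ) = (m : ℤ) * w + 1 := by exact_mod_cast hcount
    have hA : ((m : ℤ) * U - ε) + ∑ t, B t = 0 := by rw [hBsum, hLz]; ring
    have hI : (((m : ℤ) * U - ε : ℤ) : ℂ) * Cfsg.classInner f₁ (fun x : N => θ s₀ x) +
        ∑ t, (B t : ℂ) * Cfsg.classInner (χ t) (fun x : N => θ s₀ x) =
          ((((m : ℤ) * U - ε) * U + ε * (ε * (L : ℤ) - (U + ε * w)) : ℤ) : ℂ) := by
      simp only [hc, hv]
      have hd : ∀ t, (if θ s₀ = θ t then (1 : ℂ) else 0) = if s₀ = t then 1 else 0 := fun t =>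
        if_congr ⟨fun h => hθinj h, fun h => by rw [h]⟩ rfl rfl
      simp only [hd, mul_add, Finset.sum_add_distrib, ← Finset.sum_mul, mul_ite, mul_one, mul_zero,
        Finset.sum_ite_eq, Finset.mem_univ, if_true]
      rw [← Int.cast_sum, hBsum, hLz]
      simp only [B, if_true, hLz]
      push_cast [hU]
      ring
    have h1 := hCS ((m : ℤ) * U - ε) B hA (θ s₀) (hθ s₀) _ _ hI rfl
    rw [hB2] at h1
    have hkey : 2 * (L : ℤ) * (((m : ℤ) * U - ε) * U + ε * (ε * (L : ℤ) - (U + ε * w))) -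
        ((w : ℤ) * ((m : ℤ) * U - ε) ^ 2 + ((m : ℤ) * (U + ε * w) ^ 2 + (ε * (L : ℤ)) ^ 2 -
          2 * (ε * (L : ℤ)) * (U + ε * w))) = (L : ℤ) * ((m : ℤ) * U ^ 2 - 2 * ε * U + (L : ℤ) - w) := by
      rw [hLz]
      rcases hε with e | e <;> subst e <;> ring
    have hnn : (0 : ℤ) ≤ (m : ℤ) * U ^ 2 - 2 * ε * U := by
      have hm' : (2 : ℤ) ≤ (m : ℤ) := by exact_mod_cast hm2
      have hUU : 2 * U ^ 2 ≤ (m : ℤ) * U ^ 2 := mul_le_mul_of_nonneg_right hm' (sq_nonneg U)
      have hUabs : |U| ≤ U ^ 2 := by rw [Int.abs_eq_natAbs]; exact Int.natAbs_le_self_sq U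
      have h2 := le_abs_self U
      have h3 := neg_abs_le U
      rcases hε with e | e <;> rw [e] <;> linarith
    have hkey' := congrArg (fun z : ℤ => (z : ℝ)) hkey
    have hnn' : (0 : ℝ) ≤ (m : ℝ) * (U : ℝ) ^ 2 - 2 * (ε : ℝ) * (U : ℝ) := by exact_mod_cast hnn
    have hN0 : (0 : ℝ) ≤ (Nat.card N : ℝ) := Nat.cast_nonneg _
    push_cast at h1 hkey'
    rw [hkey'] at h1
    rw [← hcount]
    refine le_of_mul_le_mul_left ?_ hLpos
    nlinarith [mul_nonneg (mul_nonneg hN0 hLpos.le) hnn']

end CfsgLib.Characters.CN
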