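import Cfsg.Agent.Characters.CNCount
import Cfsg.Agent.S1477
import Cfsg.Agent.OddOrder.CN.Basic
import Cfsg.Prelude.Def_OddOrder

/-!
# The CN theorem for groups of odd order
-/

set_option autoImplicit false
set_option linter.style.haveILetI false
set_option linter.unusedSectionVars false

namespace CfsgLib.Characters.CN

universe u

variable {G : Type u} [Group G]

/-- Maximal among nilpotent subgroups. -/
def IsMaxNilpotent (H : Subgroup G) : Prop :=
  Group.IsNilpotent H ∧ ∀ L : Subgroup G, Group.IsNilpotent L → H ≤ L → L = H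

theorem IsMaxNilpotent.map_conj {H : Subgroup G} (h : IsMaxNilpotent H) (g : G) :
    IsMaxNilpotent (H.map (MulAut.conj g).toMonoidHom) := by
  refine ⟨?_, fun L hL hle => ?_⟩
  · haveI := h.1
    exact Group.nilpotent_of_mulEquiv
      (H.equivMapOfInjective (MulAut.conj g).toMonoidHom (MulAut.conj g).injective)
  · haveI := hL
    have h1 := h.2 (L.map (MulAut.conj g).symm.toMonoidHom)
      (Group.nilpotent_of_mulEquiv (L.equivMapOfInjective (MulAut.conj g).symm.toMonoidHom
        (MulAut.conj g).symm.injective))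
      (fun x hx => ⟨MulAut.conj g x, hle ⟨x, hx, rfl⟩, (MulAut.conj g).symm_apply_apply x⟩)
    rw [← h1, Subgroup.map_map]
    ext x
    simp

variable [Finite G]

theorem exists_isMaxNilpotent (z : G) : ∃ H : Subgroup G, IsMaxNilpotent H ∧ z ∈ H := by
  haveI : Group.IsNilpotent (Subgroup.zpowers z) := by
    letI := IsCyclic.commGroup (α := Subgroup.zpowers z)
    infer_instance
  obtain ⟨M, hle, hM⟩ := Finite.exists_le_maximal (p := fun L : Subgroup G => Group.IsNilpotent L)
    (a := Subgroup.zpowers z) inferInstance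
  exact ⟨M, ⟨hM.1, fun L hL h => le_antisymm (hM.2 hL h) h⟩, hle (Subgroup.mem_zpowers z)⟩

/-- The CN theorem for odd order, from the structure of maximal nilpotent subgroups in a minimal
simple group. -/
theorem false_of_structure [IsSimpleGroup G] [Fintype G] (hodd : Odd (Nat.card G))
    (hnab : ¬ ∀ a b : G, a * b = b * a) (hCN : Cfsg.IsCNGroup G)
    (hTI : ∀ H : Subgroup G, IsMaxNilpotent H → ∀ g : G, H.map (MulAut.conj g).toMonoidHom ≠ H →
      H ⊓ H.map (MulAut.conj g).toMonoidHom = ⊥)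
    (hbig : ∀ H : Subgroup G, IsMaxNilpotent H → H ≠ ⊥ →
      ∃ g ∈ Subgroup.normalizer (H : Set G), g ∉ H) : False := by
  classical
  have hcent : ∀ H : Subgroup G, IsMaxNilpotent H → ∀ x ∈ H, x ≠ 1 → CA.cent x ≤ H := fun H hH =>
    (Cfsg.Agent.S1477.result hCN H hH.1 hH.2).2.2 (hTI H hH)
  have heq : ∀ H K : Subgroup G, IsMaxNilpotent H → IsMaxNilpotent K → ∀ x ∈ H, x ∈ K → x ≠ 1 →
      H = K := by
    intro H K hH hK x hxH hxK hx1
    haveI := hH.1
    haveI : Nontrivial H := ⟨⟨⟨x, hxH⟩, 1, fun h => hx1 (congrArg Subtype.val h)⟩⟩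
    obtain ⟨z, hz, hz1⟩ := ((Subgroup.center H).nontrivial_iff_exists_ne_one).1
      ((Subgroup.center H).nontrivial_iff_ne_bot.2 (Group.IsNilpotent.center_ne_bot H))
    have hcomm : ∀ y ∈ H, y * (z : G) = z * y := fun y hy =>
      congrArg Subtype.val (Subgroup.mem_center_iff.1 hz ⟨y, hy⟩)
    have hz1' : (z : G) ≠ 1 := fun h => hz1 (Subtype.ext h)
    have hzK : (z : G) ∈ K :=
      hcent K hK x hxK hx1 (Subgroup.mem_centralizer_singleton_iff.2 (hcomm x hxH).symm)
    refine (hH.2 K hK.1 fun y hy => ?_).symm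
    exact hcent K hK z hzK hz1' (Subgroup.mem_centralizer_singleton_iff.2 (hcomm y hy))
  have hSylow : ∀ H : Subgroup G, IsMaxNilpotent H → ∀ p : ℕ, ∀ _ : Fact p.Prime, p ∣ Nat.card H →
      ∃ S : Sylow p G, (S : Subgroup G) ≤ H ∧ ∃ x ∈ (S : Subgroup G), x ≠ 1 := by
    intro H hH p hp hd
    obtain ⟨x, hx⟩ := exists_prime_orderOf_dvd_card' p hd
    have hP : IsPGroup p (Subgroup.zpowers (x : G)) := IsPGroup.of_card (n := 1) (by
      rw [Nat.card_zpowers, Subgroup.orderOf_coe, hx, pow_one])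
    obtain ⟨S, hS⟩ := hP.exists_le_sylow
    have hx1 : (x : G) ≠ 1 := fun h => by
      rw [show x = 1 from Subtype.ext h, orderOf_one] at hx
      exact hp.out.one_lt.ne hx
    haveI : Nontrivial S :=
      ⟨⟨⟨x, hS (Subgroup.mem_zpowers _)⟩, 1, fun h => hx1 (congrArg Subtype.val h)⟩⟩
    haveI := S.2.center_nontrivial
    obtain ⟨z, hz⟩ := exists_ne (1 : Subgroup.center S)
    have hz1 : ((z : S) : G) ≠ 1 := fun h => hz (Subtype.ext (Subtype.ext h))
    have hcomm : ∀ s ∈ (S : Subgroup G), s * ((z : S) : G) = ((z : S) : G) * s := fun s hs =>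
      congrArg Subtype.val (Subgroup.mem_center_iff.1 z.2 ⟨s, hs⟩)
    have hzH : ((z : S) : G) ∈ H := hcent H hH x x.2 hx1 (Subgroup.mem_centralizer_singleton_iff.2
      (hcomm x (hS (Subgroup.mem_zpowers _))).symm)
    exact ⟨S, fun s hs => hcent H hH _ hzH hz1 (Subgroup.mem_centralizer_singleton_iff.2 (hcomm s hs)),
      x, hS (Subgroup.mem_zpowers _), hx1⟩
  let r : Setoid {H : Subgroup G // IsMaxNilpotent H} :=
    { r := fun A B => ∃ g : G, A.1.map (MulAut.conj g).toMonoidHom = B.1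
      iseqv := by
        refine ⟨fun A => ⟨1, by ext x; simp⟩, fun {A B} ⟨g, h⟩ => ⟨g⁻¹, ?_⟩,
          fun {A B C} ⟨g, h⟩ ⟨g', h'⟩ => ⟨g' * g, ?_⟩⟩
        · rw [← h, Subgroup.map_map]
          ext x
          simp [mul_assoc]
        · rw [← h', ← h, Subgroup.map_map]
          ext x
          simp [mul_assoc] }
  haveI : Finite (Quotient r) := Quotient.finite _
  obtain ⟨g₀, hg₀⟩ := exists_ne (1 : G)
  let A : Quotient r → Subgroup G := fun i => i.out.1
  have hne : ∀ i, A i ≠ ⊥ := fun i h => by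
    obtain ⟨H, hH, hzH⟩ := exists_isMaxNilpotent g₀
    have := i.out.2.2 H hH.1 (by rw [show i.out.1 = ⊥ from h]; exact bot_le)
    rw [show i.out.1 = ⊥ from h] at this
    rw [this, Subgroup.mem_bot] at hzH
    exact hg₀ hzH
  refine false_of_system hodd A (fun i => ?_) ?_ ?_ ?_
  · refine ⟨i.out.2.1, hne i, hcent _ i.out.2, fun g hg t ht h => ?_, hbig _ i.out.2 (hne i)⟩
    by_contra ht1
    refine hg ?_
    have h1 : g * t * g⁻¹ ≠ 1 := fun h' => ht1 (by simpa using h')
    have h2 := heq (A i) ((A i).map (MulAut.conj g).toMonoidHom) i.out.2 (i.out.2.map_conj g)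
      (g * t * g⁻¹) h ⟨t, ht, rfl⟩ h1
    rw [Subgroup.mem_normalizer_iff_map_conj_eq]
    exact h2.symm
  · intro z hz
    obtain ⟨H, hH, hzH⟩ := exists_isMaxNilpotent z
    let i : Quotient r := Quotient.mk r ⟨H, hH⟩
    obtain ⟨x, hx⟩ := Quotient.mk_out (s := r) ⟨H, hH⟩
    refine ⟨i, x, ?_⟩
    have h1 : z ∈ (A i).map (MulAut.conj x).toMonoidHom := by rw [hx]; exact hzH
    rwa [Subgroup.mem_map_equiv, MulAut.conj_symm_apply] at h1
  · intro i j z x hz hz1 hx
    refine Quotient.out_equiv_out.1 ⟨x⁻¹, ?_⟩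
    have h1 : x⁻¹ * z * x ≠ 1 := fun h => hz1 (by
      calc z = x * (x⁻¹ * z * x) * x⁻¹ := by group
        _ = 1 := by rw [h]; group)
    exact heq _ _ (i.out.2.map_conj x⁻¹) j.out.2 (x⁻¹ * z * x) ⟨z, hz, by simp⟩ hx h1
  · intro i j hij
    refine Nat.coprime_of_dvd fun p hp hd hd' => hij ?_
    haveI := Fact.mk hp
    obtain ⟨S, hS, x, hx, hx1⟩ := hSylow _ i.out.2 p inferInstance hd
    obtain ⟨T, hT, -⟩ := hSylow _ j.out.2 p inferInstance hd'
    obtain ⟨g, hg⟩ := MulAction.exists_smul_eq G S T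
    refine Quotient.out_equiv_out.1 ⟨g, ?_⟩
    have hgx : g * x * g⁻¹ ∈ (T : Subgroup G) := by
      rw [← hg, Sylow.coe_subgroup_smul]
      exact Subgroup.smul_mem_pointwise_smul x (MulAut.conj g) _ hx
    exact heq _ _ (i.out.2.map_conj g) j.out.2 _ ⟨x, hS hx, rfl⟩ (hT hgx)
      (fun h => hx1 (by simpa using h))

/-- Reduction of the CN theorem to minimal simple groups. -/
theorem isSolvable_of_minSimple
    (hmin : ∀ (H : Type u) [Group H] [Finite H], Cfsg.IsMinSimpleOddOrder H → Cfsg.IsCNGroup H →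
      False) :
    ∀ (n : ℕ) (H : Type u) [Group H] [Finite H], Nat.card H = n → Odd (Nat.card H) →
      Cfsg.IsCNGroup H → Group.IsSolvable H := by
  intro n
  induction n using Nat.strong_induction_on with
  | _ n ih =>
    intro H _ _ hn hodd hCN
    by_cases hab : ∀ a b : H, a * b = b * a
    · exact Group.isSolvable_of_comm hab
    haveI : Nontrivial H := by
      by_contra h
      rw [not_nontrivial_iff_subsingleton] at h
      exact hab fun a b => Subsingleton.elim _ _
    have hsub : ∀ M : Subgroup H, M ≠ ⊤ → Group.IsSolvable M := fun M hM =>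
      ih (Nat.card M) (hn ▸ lt_of_le_of_ne (Subgroup.card_le_card_group M)
        fun h => hM (Subgroup.eq_top_of_card_eq M h)) M rfl
        (hodd.of_dvd_nat (Subgroup.card_subgroup_dvd_card M))
        (CfsgLib.OddOrder.CN.isCNGroup_subgroup hCN M)
    obtain ⟨N, hNn, hN0, hN1⟩ : ∃ N : Subgroup H, N.Normal ∧ N ≠ ⊥ ∧ N ≠ ⊤ := by
      by_contra hcon
      push Not at hcon
      haveI : IsSimpleGroup H := ⟨fun N hN => (em (N = ⊥)).imp_right (hcon N hN)⟩
      exact hmin H ⟨hodd, inferInstance, fun h => hab h.is_comm.comm, hsub⟩ hCN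
    haveI := hNn
    haveI := hsub N hN1
    have hlt : Nat.card (H ⧸ N) < n := by
      have h1 := Subgroup.card_eq_card_quotient_mul_card_subgroup N
      have h2 : 1 < Nat.card N := N.one_lt_card_iff_ne_bot.2 hN0
      have h3 : 0 < Nat.card (H ⧸ N) := Nat.card_pos
      rw [← hn, h1]
      exact lt_mul_of_one_lt_right h3 h2
    haveI : Group.IsSolvable (H ⧸ N) := ih _ hlt (H ⧸ N) rfl
      (hodd.of_dvd_nat (Subgroup.card_quotient_dvd_card N))
      (CfsgLib.OddOrder.CN.isCNGroup_quotient hCN N (hsub N hN1))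
    exact Group.isSolvable_of_ker_le_range N.subtype (QuotientGroup.mk' N)
      (by rw [QuotientGroup.ker_mk', Subgroup.range_subtype])

end CfsgLib.Characters.CN
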