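import Cfsg.Agent.Characters.Orthogonality

/-!
# Counting commutators
-/

set_option autoImplicit false
set_option linter.style.haveILetI false
set_option linter.unusedSectionVars false

namespace CfsgLib.Characters

open scoped ComplexConjugate

universe u

variable {G : Type u} [Group G] [Fintype G]

theorem sum_char_commutator {χ : G → ℂ} (hχ : Cfsg.IsIrrCharacter G χ) (a : G) :
    ∑ b : G, χ (a * (b * a⁻¹ * b⁻¹)) = (Nat.card G : ℂ) * (χ a * χ a⁻¹) / χ 1 := by
  obtain ⟨n, ρ, hρ, rfl⟩ := hχ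
  obtain ⟨c, hc⟩ := schur_scalar ρ (∑ b : G, ρ (b * a⁻¹ * b⁻¹)) fun h v => by
    simp only [LinearMap.sum_apply, map_sum, ← Module.End.mul_apply, ← map_mul]
    exact Fintype.sum_bijective (h⁻¹ * ·) (Group.mulLeft_bijective h⁻¹) _ _ fun b => by
      congr 2; group
  have hn : ρ.character 1 ≠ 0 := irr_one_ne_zero ⟨n, ρ, hρ, rfl⟩
  have hcn : c * ρ.character 1 = (Nat.card G : ℂ) * ρ.character a⁻¹ := by
    have h1 := congrArg (LinearMap.trace ℂ (Fin n → ℂ)) hc
    rw [map_sum, map_smul, LinearMap.trace_id, ← Representation.char_one ρ] at h1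
    rw [← smul_eq_mul, ← h1, Nat.card_eq_fintype_card]
    refine (Finset.sum_congr rfl (g := fun _ => ρ.character a⁻¹) fun b _ =>
      ρ.char_conj a⁻¹ b).trans ?_
    rw [Finset.sum_const, Finset.card_univ, nsmul_eq_mul]
  have h2 : ∑ b : G, ρ.character (a * (b * a⁻¹ * b⁻¹)) = c * ρ.character a := by
    simp only [Representation.character, map_mul ρ a]
    rw [← map_sum, ← Finset.mul_sum, hc, mul_smul_comm, ← Module.End.one_eq_id, mul_one, map_smul,
      smul_eq_mul]
  rw [h2, eq_div_iff hn, mul_right_comm, hcn]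
  ring

/-- The number of ways of writing an element as a commutator. -/
theorem card_commutator_pairs (g : G) :
    (Nat.card {p : G × G // p.1 * p.2 * p.1⁻¹ * p.2⁻¹ = g} : ℂ) =
      (Nat.card G : ℂ) * ∑ χ : Cfsg.IrrCharacter G, (χ : G → ℂ) g / (χ : G → ℂ) 1 := by
  classical
  set δ : G → ℂ := fun y => ∑ p : G × G, if p.1 * p.2 * p.1⁻¹ * p.2⁻¹ = y then 1 else 0 with hδ
  have hcl : Cfsg.IsClassFunction G δ := by
    intro y c
    simp only [hδ]
    refine Fintype.sum_equiv ((MulAut.conj c⁻¹).toEquiv.prodCongr (MulAut.conj c⁻¹).toEquiv) _ _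
      fun p => ?_
    have e : ∀ x : G, (MulAut.conj c⁻¹).toEquiv x = c⁻¹ * x * c := fun x => by
      show c⁻¹ * x * c⁻¹⁻¹ = _
      rw [inv_inv]
    simp only [Equiv.prodCongr_apply, Prod.map, e]
    refine if_congr ⟨fun h => ?_, fun h => ?_⟩ rfl rfl
    · calc _ = c⁻¹ * (p.1 * p.2 * p.1⁻¹ * p.2⁻¹) * c := by group
        _ = y := by rw [h]; group
    · calc _ = c * (c⁻¹ * p.1 * c * (c⁻¹ * p.2 * c) * (c⁻¹ * p.1 * c)⁻¹ *
          (c⁻¹ * p.2 * c)⁻¹) * c⁻¹ := by group
        _ = c * y * c⁻¹ := by rw [h]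
  have hinner : ∀ χ : Cfsg.IrrCharacter G,
      Cfsg.classInner δ (χ : G → ℂ) = (Nat.card G : ℂ) / (χ : G → ℂ) 1 := by
    intro χ
    simp only [hδ, Cfsg.classInner, Finset.sum_mul]
    rw [Finset.sum_comm]
    simp only [ite_mul, one_mul, zero_mul, Finset.sum_ite_eq, Finset.mem_univ, if_true]
    rw [← map_sum, Fintype.sum_prod_type]
    have : ∀ a : G, ∑ b : G, (χ : G → ℂ) (a * b * a⁻¹ * b⁻¹) =
        (Nat.card G : ℂ) * ((χ : G → ℂ) a * conj ((χ : G → ℂ) a)) / (χ : G → ℂ) 1 := fun a => by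
      rw [← character_inv (isCharacter_of_isIrr χ.2), ← sum_char_commutator χ.2 a]
      simp only [mul_assoc]
    simp only [this, ← Finset.sum_div, ← Finset.mul_sum]
    have h1 := classInner_isIrr_self χ.2
    rw [Cfsg.classInner, inv_mul_eq_one₀ natCard_ne_zero] at h1
    rw [← h1]
    obtain ⟨d, -, hd⟩ := exists_degree_pos χ.2
    rw [map_div₀, map_mul, Complex.conj_natCast, hd, Complex.conj_natCast, ← mul_div_assoc,
      ← mul_assoc, inv_mul_cancel₀ natCard_ne_zero, one_mul]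
  have h := congrFun (classFunction_expansion hcl) g
  simp only [hinner, Finset.sum_apply, Pi.smul_apply, smul_eq_mul] at h
  simp only [hδ, Finset.sum_boole] at h
  rw [Nat.card_eq_fintype_card (α := {p : G × G // _}), Fintype.card_subtype, h, Finset.mul_sum]
  exact Finset.sum_congr rfl fun χ _ => by ring

end CfsgLib.Characters
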