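import Cfsg.Agent.Characters.BrauerInduction
import Cfsg.Agent.Characters.Classes
import Cfsg.Agent.Characters.Induction
import Mathlib.RingTheory.RootsOfUnity.Complex
import Mathlib.FieldTheory.IntermediateField.Adjoin.Algebra

/-!
# Realizing characters over a subfield
-/

set_option autoImplicit false
set_option linter.style.haveILetI false
set_option linter.unusedSectionVars false

namespace CfsgLib.Characters

open scoped ComplexConjugate

universe u w

variable {K : Type} [Field K] (ι : K →+* ℂ) {G : Type u} [Group G]

/-- The complex representation given by a matrix representation over `K`. -/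
noncomputable def cplxRep {n : ℕ} (ρ : Representation K G (Fin n → K)) :
    Representation ℂ G (Fin n → ℂ) where
  toFun g := Matrix.toLin' ((LinearMap.toMatrix' (ρ g)).map ι)
  map_one' := by
    rw [map_one, show LinearMap.toMatrix' (1 : Module.End K (Fin n → K)) = 1 from
      LinearMap.toMatrix'_id, Matrix.map_one ι (map_zero ι) (map_one ι), Matrix.toLin'_one]
    rfl
  map_mul' g h := by
    rw [map_mul, LinearMap.toMatrix'_mul, Matrix.map_mul, Matrix.toLin'_mul]
    rfl

theorem character_cplxRep {n : ℕ} (ρ : Representation K G (Fin n → K)) (g : G) :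
    (cplxRep ι ρ).character g = ι (ρ.character g) := by
  simp only [Representation.character, LinearMap.trace_eq_matrix_trace ℂ (Pi.basisFun ℂ (Fin n)),
    LinearMap.trace_eq_matrix_trace K (Pi.basisFun K (Fin n)), LinearMap.toMatrix_eq_toMatrix']
  simp [cplxRep, Matrix.trace, map_sum]

/-- A character of a representation over `K`. -/
def IsKChar (χ : G → ℂ) : Prop :=
  ∃ (n : ℕ) (ρ : Representation K G (Fin n → K)), χ = fun g => ι (ρ.character g)

theorem isKChar_of_rep {V : Type w} [AddCommGroup V] [Module K V] [FiniteDimensional K V]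
    (ρ : Representation K G V) : IsKChar ι (fun g => ι (ρ.character g)) :=
  ⟨_, transport ρ (Module.finBasis K V).equivFun, by rw [char_transport]⟩

theorem isKChar_zero : IsKChar ι (0 : G → ℂ) := by
  refine ⟨0, (1 : Representation K G (Fin 0 → K)), funext fun g => ?_⟩
  simp [Representation.character]

theorem isKChar_add {χ ψ : G → ℂ} (h₁ : IsKChar ι χ) (h₂ : IsKChar ι ψ) :
    IsKChar ι (χ + ψ) := by
  obtain ⟨n, ρ, rfl⟩ := h₁
  obtain ⟨m, σ, rfl⟩ := h₂
  obtain ⟨k, τ, hτ⟩ := isKChar_of_rep ι (ρ.prod σ)
  refine ⟨k, τ, ?_⟩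
  rw [← hτ, char_prod]
  funext g
  simp

section Finite

variable [Fintype G]

theorem natCard_ne_zero_of_embedding (ι : K →+* ℂ) : (Nat.card G : K) ≠ 0 := fun h =>
  natCard_ne_zero (G := G) (by rw [← map_natCast ι, h, map_zero])

theorem conj_char {V : Type w} [AddCommGroup V] [Module K V] [FiniteDimensional K V]
    (ρ : Representation K G V) (g : G) :
    conj (ι (ρ.character g)) = ι (ρ.character g⁻¹) := by
  set σ := transport ρ (Module.finBasis K V).equivFun
  have h : ∀ x, ι (ρ.character x) = (cplxRep ι σ).character x := fun x => by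
    rw [character_cplxRep, char_transport]
  rw [h, h, ← char_inv]

/-- Two representations over `K` with a nonzero intertwining map share a summand. -/
theorem exists_smaller {V : Type w} [AddCommGroup V] [Module K V] [FiniteDimensional K V]
    {W : Type w} [AddCommGroup W] [Module K W] [FiniteDimensional K W]
    (σ : Representation K G V) (τ : Representation K G W) (f : τ.IntertwiningMap σ) (hf : f ≠ 0)
    [NeZero (Nat.card G : K)] :
    ∃ (D : Subrepresentation σ) (S : Subrepresentation τ),
      Module.finrank K D.toSubmodule < Module.finrank K V ∧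
      σ.character - τ.character = D.toRepresentation.character - S.toRepresentation.character := by
  let L : W →ₗ[K] V := f.toLinearMap
  have hL : ∀ g x, L (τ g x) = σ g (L x) := fun g x => LinearMap.congr_fun (f.isIntertwining' g) x
  let S : Subrepresentation τ := ⟨LinearMap.ker L, fun g x hx => by
    rw [LinearMap.mem_ker] at hx ⊢
    rw [hL, hx, map_zero]⟩
  let R : Subrepresentation σ := ⟨LinearMap.range L, fun g x hx => by
    obtain ⟨y, rfl⟩ := hx
    exact ⟨τ g y, hL g y⟩⟩
  obtain ⟨C, hC⟩ := exists_compl τ S
  obtain ⟨D, hD⟩ := exists_compl σ R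
  let e₀ : C.toSubmodule →ₗ[K] R.toSubmodule :=
    LinearMap.codRestrict _ (L ∘ₗ C.toSubmodule.subtype) fun x => ⟨x, rfl⟩
  have he : Function.Bijective e₀ := by
    constructor
    · refine LinearMap.ker_eq_bot.1 (eq_bot_iff.2 fun x hx => ?_)
      have h1 : L (x : W) = 0 := congrArg Subtype.val (LinearMap.mem_ker.1 hx)
      have h2 : (x : W) ∈ S.toSubmodule ⊓ C.toSubmodule := ⟨h1, x.2⟩
      rw [hC.inf_eq_bot, Submodule.mem_bot] at h2
      exact Subtype.ext h2
    · rintro ⟨_, y, rfl⟩
      obtain ⟨s, hs, c, hc, rfl⟩ := Submodule.mem_sup.1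
        (hC.sup_eq_top ▸ Submodule.mem_top : y ∈ S.toSubmodule ⊔ C.toSubmodule)
      refine ⟨⟨c, hc⟩, Subtype.ext ?_⟩
      show L c = L (s + c)
      rw [map_add, LinearMap.mem_ker.1 hs, zero_add]
  have hCR : C.toRepresentation.character = R.toRepresentation.character :=
    Representation.char_iso (Representation.Equiv.mk (LinearEquiv.ofBijective e₀ he) fun g =>
      LinearMap.ext fun x => Subtype.ext (hL g x))
  refine ⟨D, S, ?_, ?_⟩
  · have h1 := Submodule.finrank_add_eq_of_isCompl hD
    have h2 : 0 < Module.finrank K R.toSubmodule := by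
      refine Submodule.one_le_finrank_iff.2 fun h => hf ?_
      have h3 : L = 0 := LinearMap.range_eq_bot.1 h
      exact Representation.IntertwiningMap.ext h3
    omega
  · rw [← Representation.char_iso (prodEquivOfCompl σ R D hD),
      ← Representation.char_iso (prodEquivOfCompl τ S C hC), char_prod, char_prod, hCR]
    abel

/-- An irreducible character that is a difference of characters over `K` is one. -/
theorem isKChar_of_irr_sub (n : ℕ) : ∀ (χ : G → ℂ), Cfsg.IsIrrCharacter G χ →
    ∀ (V W : Type) [AddCommGroup V] [Module K V] [FiniteDimensional K V] [AddCommGroup W]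
      [Module K W] [FiniteDimensional K W] (σ : Representation K G V) (τ : Representation K G W),
      Module.finrank K V = n → (χ = fun g => ι (σ.character g - τ.character g)) → IsKChar ι χ := by
  induction n using Nat.strong_induction_on with
  | _ n ih =>
    intro χ hχ V W _ _ _ _ _ _ σ τ hn hχe
    haveI : NeZero (Nat.card G : K) := ⟨natCard_ne_zero_of_embedding ι⟩
    haveI : Invertible (Nat.card G : K) := invertibleOfNonzero (natCard_ne_zero_of_embedding ι)
    have hinner : ∀ (A B : Type) [AddCommGroup A] [Module K A] [FiniteDimensional K A]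
        [AddCommGroup B] [Module K B] [FiniteDimensional K B]
        (α : Representation K G A) (β : Representation K G B),
        Cfsg.classInner (fun g => ι (α.character g)) (fun g => ι (β.character g)) =
          (Module.finrank K (β.IntertwiningMap α) : ℂ) := by
      intro A B _ _ _ _ _ _ α β
      simp only [Cfsg.classInner, conj_char ι β, ← map_mul, ← map_sum]
      rw [← map_natCast ι (Nat.card G), ← map_inv₀, ← map_mul,
        Representation.card_inv_mul_sum_char_mul_char_eq_finrank, map_natCast]
    by_cases hzero : Module.finrank K (τ.IntertwiningMap σ) = 0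
    · have hexp := classInner_isIrr_self hχ
      have hσ : (fun g => ι (σ.character g)) = χ + fun g => ι (τ.character g) := by
        rw [hχe]; funext g; simp
      set s : G → ℂ := fun g => ι (σ.character g) with hs
      set t : G → ℂ := fun g => ι (τ.character g) with ht
      have hst : χ = s - t := by rw [hχe]; funext g; simp [hs, ht]
      have h1 : Cfsg.classInner s t = 0 := by
        rw [hs, ht, hinner, hzero, Nat.cast_zero]
      obtain ⟨a, ha⟩ : ∃ a : ℕ, Cfsg.classInner s s = a := ⟨_, by rw [hs]; exact hinner _ _ σ σ⟩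
      obtain ⟨b, hb⟩ : ∃ b : ℕ, Cfsg.classInner t t = b := ⟨_, by rw [ht]; exact hinner _ _ τ τ⟩
      rw [hst, classInner_sub_left, classInner_sub_right, classInner_sub_right, h1,
        classInner_conj_symm s t, h1, map_zero, ha, hb] at hexp
      simp only [sub_zero, zero_sub, sub_neg_eq_add] at hexp
      have hab : a + b = 1 := by exact_mod_cast hexp
      by_cases hb0 : b = 0
      · have hW : Module.finrank K W = 0 := by
          by_contra hW
          haveI : Nontrivial W := Module.finrank_pos_iff.1 (Nat.pos_of_ne_zero hW)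
          have h2 := hinner _ _ τ τ
          rw [← ht, hb, hb0] at h2
          have h3 : Module.finrank K (τ.IntertwiningMap τ) = 0 := by exact_mod_cast h2.symm
          haveI := Module.finrank_zero_iff.1 h3
          obtain ⟨x, hx⟩ := exists_ne (0 : W)
          refine hx ?_
          have h4 := Subsingleton.elim (Representation.IntertwiningMap.id τ) 0
          exact congrArg (fun f => Representation.IntertwiningMap.toLinearMap f x) h4
        haveI := Module.finrank_zero_iff.1 hW
        have ht0 : t = 0 := funext fun g => by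
          simp [ht, Representation.character, Subsingleton.elim (τ g) 0]
        rw [hst, ht0, sub_zero]
        exact isKChar_of_rep ι σ
      · exfalso
        have ha0 : a = 0 := by omega
        have hV : Module.finrank K V = 0 := by
          by_contra hV
          haveI : Nontrivial V := Module.finrank_pos_iff.1 (Nat.pos_of_ne_zero hV)
          have h2 := hinner _ _ σ σ
          rw [← hs, ha, ha0] at h2
          have h3 : Module.finrank K (σ.IntertwiningMap σ) = 0 := by exact_mod_cast h2.symm
          haveI := Module.finrank_zero_iff.1 h3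
          obtain ⟨x, hx⟩ := exists_ne (0 : V)
          refine hx ?_
          have h4 := Subsingleton.elim (Representation.IntertwiningMap.id σ) 0
          exact congrArg (fun f => Representation.IntertwiningMap.toLinearMap f x) h4
        obtain ⟨d, hd, he⟩ := exists_degree_pos hχ
        rw [hχe] at he
        simp only [Representation.char_one, hV, Nat.cast_zero, zero_sub, map_neg, map_natCast] at he
        have : (Module.finrank K W : ℂ) + d = 0 := by rw [← he]; ring
        have : Module.finrank K W + d = 0 := by exact_mod_cast this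
        omega
    · haveI : Nontrivial (τ.IntertwiningMap σ) := Module.finrank_pos_iff.1 (Nat.pos_of_ne_zero hzero)
      obtain ⟨f, hf⟩ := exists_ne (0 : τ.IntertwiningMap σ)
      obtain ⟨D, S, hlt, he⟩ := exists_smaller σ τ f hf
      refine ih _ (hn ▸ hlt) χ hχ _ _ D.toRepresentation S.toRepresentation rfl ?_
      rw [hχe]
      funext g
      exact congrArg ι (congrFun he g)

open Classical in
/-- The monomial representation on the cosets of `H` given by `l : H → Kˣ`. -/
noncomputable def monomialRep (H : Subgroup G) (l : H →* K) :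
    Representation K G ((G ⧸ H) → K) :=
  (Matrix.toLinAlgEquiv' : Matrix (G ⧸ H) (G ⧸ H) K ≃ₐ[K] _).toAlgHom.toRingHom.toMonoidHom.comp
    { toFun := fun g => Matrix.of fun q r =>
        if h : q.out⁻¹ * g * r.out ∈ H then l ⟨_, h⟩ else 0
      map_one' := by
        ext q r
        rw [Matrix.of_apply, Matrix.one_apply]
        by_cases hqr : q = r
        · subst hqr
          rw [dif_pos (by simp), if_pos rfl]
          rw [show (⟨q.out⁻¹ * 1 * q.out, _⟩ : H) = 1 from Subtype.ext (by simp), map_one]
        · rw [dif_neg fun h => hqr ?_, if_neg hqr]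
          rw [mul_one, ← QuotientGroup.eq, QuotientGroup.out_eq', QuotientGroup.out_eq'] at h
          exact h
      map_mul' := fun g g' => by
        ext q r
        rw [Matrix.mul_apply, Finset.sum_eq_single (QuotientGroup.mk (g⁻¹ * q.out) : G ⧸ H)]
        · set s : G ⧸ H := QuotientGroup.mk (g⁻¹ * q.out) with hs
          have h1 : q.out⁻¹ * g * s.out ∈ H := by
            have : (QuotientGroup.mk s.out : G ⧸ H) = QuotientGroup.mk (g⁻¹ * q.out) := by
              rw [QuotientGroup.out_eq']
            have := QuotientGroup.eq.1 this.symm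
            simpa [mul_assoc] using this
          simp only [Matrix.of_apply, dif_pos h1]
          by_cases h2 : s.out⁻¹ * g' * r.out ∈ H
          · have h3 : q.out⁻¹ * (g * g') * r.out ∈ H := by
              have := H.mul_mem h1 h2
              simpa [mul_assoc] using this
            rw [dif_pos h2, dif_pos h3, ← map_mul]
            exact congrArg l (Subtype.ext (by simp [mul_assoc]))
          · rw [dif_neg h2, mul_zero, dif_neg]
            intro h3
            refine h2 ?_
            have := H.mul_mem (H.inv_mem h1) h3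
            simpa [mul_assoc] using this
        · intro s _ hs
          simp only [Matrix.of_apply]
          rw [dif_neg, zero_mul]
          intro h
          refine hs ?_
          rw [← QuotientGroup.out_eq' s, QuotientGroup.eq]
          have := H.inv_mem h
          simpa [mul_assoc] using this
        · intro h; exact absurd (Finset.mem_univ _) h }

theorem character_monomialRep (H : Subgroup G) [Fintype H] (l : H →* K) :
    (fun g => ι ((monomialRep H l).character g)) = Cfsg.indFun H (fun h => ι (l h)) := by
  classical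
  funext g
  have hchar : (monomialRep H l).character g =
      ∑ q : G ⧸ H, if h : q.out⁻¹ * g * q.out ∈ H then l ⟨_, h⟩ else 0 := by
    simp only [Representation.character, LinearMap.trace_eq_matrix_trace K (Pi.basisFun K (G ⧸ H)),
      LinearMap.toMatrix_eq_toMatrix']
    rw [show LinearMap.toMatrix' (monomialRep H l g) = Matrix.of fun q r : G ⧸ H =>
        if h : q.out⁻¹ * g * r.out ∈ H then l ⟨_, h⟩ else 0 from
      LinearMap.toMatrix'_toLin' _]
    rfl
  rw [hchar, map_sum, Cfsg.indFun, ← (Subgroup.groupEquivQuotientProdSubgroup (s := H)).symm.sum_comp,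
    Fintype.sum_prod_type, Finset.mul_sum]
  refine Finset.sum_congr rfl fun q _ => ?_
  have hterm : ∀ h : H, Cfsg.extendByZero H (fun h => ι (l h))
      (((Subgroup.groupEquivQuotientProdSubgroup (s := H)).symm (q, h))⁻¹ * g *
        (Subgroup.groupEquivQuotientProdSubgroup (s := H)).symm (q, h)) =
      ι (if h : q.out⁻¹ * g * q.out ∈ H then l ⟨_, h⟩ else 0) := by
    intro h
    generalize hx : (Subgroup.groupEquivQuotientProdSubgroup (s := H)).symm (q, h) = x
    obtain ⟨c, hc, rfl⟩ : ∃ c ∈ H, x = q.out * c := by
      refine ⟨q.out⁻¹ * x, QuotientGroup.eq.1 ?_, by group⟩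
      rw [QuotientGroup.out_eq']
      exact congrArg Prod.fst ((Equiv.symm_apply_eq _).1 hx)
    have he : (q.out * c)⁻¹ * g * (q.out * c) = c⁻¹ * (q.out⁻¹ * g * q.out) * c := by group
    by_cases hm : q.out⁻¹ * g * q.out ∈ H
    · have hm' : c⁻¹ * (q.out⁻¹ * g * q.out) * c ∈ H := H.mul_mem (H.mul_mem (H.inv_mem hc) hm) hc
      rw [he, extendByZero_of_mem H _ hm', dif_pos hm,
        show (⟨_, hm'⟩ : H) = (⟨c, hc⟩ : H)⁻¹ * ⟨_, hm⟩ * ⟨c, hc⟩ from Subtype.ext rfl,
        map_mul l, map_mul l, mul_comm (l (⟨c, hc⟩ : H)⁻¹), mul_assoc, ← map_mul l _ (⟨c, hc⟩ : H),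
        inv_mul_cancel, map_one, mul_one]
    · rw [he, extendByZero_of_not_mem H _ fun h => hm ?_, dif_neg hm, map_zero]
      have := H.mul_mem (H.mul_mem hc h) (H.inv_mem hc)
      simpa [mul_assoc] using this
  rw [Finset.sum_congr rfl fun h _ => hterm h, Finset.sum_const, Finset.card_univ,
    ← Nat.card_eq_fintype_card, nsmul_eq_mul, ← mul_assoc,
    inv_mul_cancel₀ (subgroup_card_ne_zero H), one_mul]

theorem isKChar_indFun_linear (hroots : ∀ w : ℂ, w ^ Monoid.exponent G = 1 → ∃ k, ι k = w)
    (H : Subgroup G) (l : H →* ℂˣ) : IsKChar ι (Cfsg.indFun H (fun h => (l h : ℂ))) := by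
  haveI := Fintype.ofFinite H
  have hw : ∀ h : H, ∃ k, ι k = (l h : ℂ) := fun h => hroots _ (by
    rw [← Units.val_pow_eq_pow_val, ← map_pow, show h ^ Monoid.exponent G = 1 from Subtype.ext
      (by rw [SubmonoidClass.coe_pow]; exact Monoid.pow_exponent_eq_one (h : G)), map_one,
      Units.val_one])
  choose k hk using hw
  let l' : H →* K :=
    { toFun := k
      map_one' := ι.injective (by rw [hk, map_one, map_one, Units.val_one])
      map_mul' := fun a b => ι.injective (by rw [hk, map_mul, Units.val_mul, map_mul, hk, hk]) }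
  have h1 := isKChar_of_rep ι (monomialRep H l')
  rw [character_monomialRep ι H l'] at h1
  convert h1 using 3 with h
  exact (hk h).symm

/-- Brauer: every character is a character over a field with enough roots of unity. -/
theorem isKChar_of_isCharacter (hroots : ∀ w : ℂ, w ^ Monoid.exponent G = 1 → ∃ k, ι k = w)
    {χ : G → ℂ} (hχ : Cfsg.IsCharacter G χ) : IsKChar ι χ := by
  classical
  suffices H : ∀ ψ : Cfsg.IrrCharacter G, IsKChar ι (ψ : G → ℂ) by
    obtain ⟨m, rfl⟩ := exists_nat_coeff hχ
    refine Finset.sum_induction _ (IsKChar ι) (fun _ _ => isKChar_add ι) (isKChar_zero ι)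
      fun ψ _ => ?_
    induction m ψ with
    | zero => rw [Nat.cast_zero, zero_smul]; exact isKChar_zero ι
    | succ j hj => rw [Nat.cast_succ, add_smul, one_smul]; exact isKChar_add ι hj (H ψ)
  intro ψ
  have key : ∀ f ∈ brauerSpan G, ∃ a b, IsKChar ι a ∧ IsKChar ι b ∧ f = a - b := by
    intro f hf
    induction hf using AddSubgroup.closure_induction with
    | mem f hf =>
      obtain ⟨E, l, -, rfl⟩ := hf
      exact ⟨_, 0, isKChar_indFun_linear ι hroots E l, isKChar_zero ι, (sub_zero _).symm⟩
    | zero => exact ⟨0, 0, isKChar_zero ι, isKChar_zero ι, (sub_zero _).symm⟩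
    | add a b _ _ ha hb =>
      obtain ⟨a₁, a₂, h1, h2, rfl⟩ := ha
      obtain ⟨b₁, b₂, h3, h4, rfl⟩ := hb
      exact ⟨_, _, isKChar_add ι h1 h3, isKChar_add ι h2 h4, by abel⟩
    | neg a _ ha =>
      obtain ⟨a₁, a₂, h1, h2, rfl⟩ := ha
      exact ⟨a₂, a₁, h2, h1, neg_sub a₁ a₂⟩
  obtain ⟨a, b, ⟨n, σ, rfl⟩, ⟨m, τ, rfl⟩, he⟩ :=
    key _ (isCharacter_mem_brauerSpan (isCharacter_of_isIrr ψ.2))
  refine isKChar_of_irr_sub ι _ _ ψ.2 _ _ σ τ rfl ?_
  rw [he]; funext g; simp

end Finite

/-- Brauer's splitting field theorem. -/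
theorem exists_realization {G : Type u} [Group G] [Finite G] (n : ℕ)
    (ρ : Representation ℂ G (Fin n → ℂ)) :
    ∃ σ : Representation ℂ G (Fin n → ℂ), Nonempty (ρ.Equiv σ) ∧ ∀ g : G, ∀ i j : Fin n,
      LinearMap.toMatrix' (σ g) i j ∈ Algebra.adjoin ℚ
        ({Complex.exp (2 * Real.pi * Complex.I / (Monoid.exponent G : ℂ))} : Set ℂ) := by
  haveI := Fintype.ofFinite G
  have he : Monoid.exponent G ≠ 0 := Monoid.exponent_ne_zero_of_finite
  set ζ := Complex.exp (2 * Real.pi * Complex.I / (Monoid.exponent G : ℂ)) with hζdef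
  have hζ : IsPrimitiveRoot ζ (Monoid.exponent G) := Complex.isPrimitiveRoot_exp _ he
  set F : IntermediateField ℚ ℂ := IntermediateField.adjoin ℚ ({ζ} : Set ℂ) with hF
  have halg : IsAlgebraic ℚ ζ := (hζ.isIntegral (Nat.pos_of_ne_zero he)).tower_top.isAlgebraic
  have hmem : ∀ x : ℂ, x ∈ F → x ∈ Algebra.adjoin ℚ ({ζ} : Set ℂ) := fun x hx => by
    rw [← IntermediateField.adjoin_simple_toSubalgebra_of_isAlgebraic halg]
    exact hx
  let ι : F →+* ℂ := F.val.toRingHom
  obtain ⟨m, τ, hτ⟩ := isKChar_of_isCharacter ι (fun w hw => by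
    haveI : NeZero (Monoid.exponent G) := ⟨he⟩
    obtain ⟨i, -, rfl⟩ := hζ.eq_pow_of_pow_eq_one hw
    exact ⟨⟨ζ ^ i, pow_mem (IntermediateField.mem_adjoin_simple_self ℚ ζ) i⟩, rfl⟩)
    (⟨n, ρ, rfl⟩ : Cfsg.IsCharacter G ρ.character)
  have hnm : m = n := by
    have h1 := congrFun hτ 1
    simp only [Representation.char_one, Module.finrank_fin_fun, map_natCast] at h1
    exact_mod_cast h1.symm
  subst hnm
  have hchar : ρ.character = (cplxRep ι τ).character := by
    rw [hτ]; funext g; rw [character_cplxRep]
  refine ⟨cplxRep ι τ, equiv_of_char_eq ρ _ hchar, fun g i j => hmem _ ?_⟩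
  rw [cplxRep]
  simp only [MonoidHom.coe_mk, OneHom.coe_mk, LinearMap.toMatrix'_toLin', Matrix.map_apply]
  exact (LinearMap.toMatrix' (τ g) i j).2

end CfsgLib.Characters
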