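import Cfsg.Agent.Characters.Generalized
import Mathlib.GroupTheory.Sylow
import Mathlib.GroupTheory.SpecificGroups.Cyclic
import Mathlib.RingTheory.Int.Basic

/-!
# Quasi-elementary groups and Solomon's induction theorem
-/

set_option autoImplicit false
set_option linter.style.haveILetI false
set_option linter.unusedSectionVars false

namespace CfsgLib.Characters

universe u w

/-- A normal cyclic subgroup of order prime to `p` whose index is a power of `p`. -/
def IsQuasiElementary (p : ℕ) (E : Type u) [Group E] : Prop :=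
  ∃ x : E, (Subgroup.zpowers x).Normal ∧ Nat.Coprime (orderOf x) p ∧
    ∃ k : ℕ, (Subgroup.zpowers x).index = p ^ k

theorem isQuasiElementary_of_isElementary {p : ℕ} {E : Type u} [Group E]
    (h : Cfsg.IsElementary p E) : IsQuasiElementary p E := by
  obtain ⟨x, hx, h1, h2⟩ := h
  refine ⟨x, ⟨fun n hn g => ?_⟩, h1, h2⟩
  have hc : n ∈ Subgroup.center E := Subgroup.zpowers_le.2 hx hn
  rwa [Subgroup.mem_center_iff.1 hc g, mul_inv_cancel_right]

theorem isElementary_of_mulEquiv {p : ℕ} {E : Type u} [Group E] {F : Type w} [Group F]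
    (e : E ≃* F) (h : Cfsg.IsElementary p E) : Cfsg.IsElementary p F := by
  obtain ⟨x, hx, h1, k, h2⟩ := h
  refine ⟨e x, ?_, ?_, k, ?_⟩
  · refine Subgroup.mem_center_iff.2 fun y => ?_
    obtain ⟨z, rfl⟩ := e.surjective y
    rw [← map_mul, ← map_mul, Subgroup.mem_center_iff.1 hx z]
  · rwa [MulEquiv.orderOf_eq]
  · rw [← h2, ← Subgroup.index_map_equiv (Subgroup.zpowers x) e]
    congr 1
    exact (MonoidHom.map_zpowers e.toMonoidHom x).symm

theorem isQuasiElementary_of_injective {p : ℕ} (hp : p.Prime) {E : Type u} [Group E]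
    {F : Type w} [Group F] (f : F →* E) (hf : Function.Injective f)
    (h : IsQuasiElementary p E) : IsQuasiElementary p F := by
  obtain ⟨x, hn, hcop, k, hk⟩ := h
  haveI := hn
  set C := (Subgroup.zpowers x).comap f with hC
  let g : C →* Subgroup.zpowers x := (f.comp C.subtype).codRestrict _ fun c => c.2
  have hg : Function.Injective g := fun a b hab =>
    Subtype.ext (hf (congrArg Subtype.val hab))
  haveI : IsCyclic C := isCyclic_of_injective g hg
  obtain ⟨y, hy⟩ := IsCyclic.exists_generator (α := C)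
  have hyC : Subgroup.zpowers (y : F) = C := by
    refine le_antisymm (Subgroup.zpowers_le.2 y.2) fun z hz => ?_
    obtain ⟨i, hi⟩ := Subgroup.mem_zpowers_iff.1 (hy ⟨z, hz⟩)
    exact ⟨i, congrArg Subtype.val hi⟩
  refine ⟨y, ?_, ?_, ?_⟩
  · rw [hyC, hC]; infer_instance
  · refine Nat.Coprime.coprime_dvd_left ?_ hcop
    rw [← Nat.card_zpowers, ← Nat.card_zpowers, hyC]
    exact Subgroup.card_dvd_of_injective g hg
  · rw [hyC, hC, Subgroup.index_comap]
    obtain ⟨i, -, hi⟩ := (Nat.dvd_prime_pow hp).1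
      (hk ▸ Subgroup.relIndex_dvd_index_of_normal (Subgroup.zpowers x) f.range)
    exact ⟨i, hi⟩

theorem isQuasiElementary_subgroup {p : ℕ} (hp : p.Prime) {E : Type u} [Group E]
    (T : Subgroup E) (h : IsQuasiElementary p E) : IsQuasiElementary p T :=
  isQuasiElementary_of_injective hp T.subtype T.subtype_injective h

theorem isQuasiElementary_of_le {p : ℕ} (hp : p.Prime) {G : Type u} [Group G]
    {A B : Subgroup G} (h : A ≤ B) (hB : IsQuasiElementary p B) : IsQuasiElementary p A :=
  isQuasiElementary_of_injective hp (Subgroup.inclusion h) (Subgroup.inclusion_injective h) hB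

section Solomon

variable {G : Type u} [Group G] [Fintype G]

/-- The permutation character on the left cosets of a subgroup. -/
noncomputable def cosetFix (H : Subgroup G) : G → ℤ :=
  fun g => (Nat.card (MulAction.fixedBy (G ⧸ H) g) : ℤ)

theorem cosetFix_eq_indFun (H : Subgroup G) (g : G) :
    (cosetFix H g : ℂ) = Cfsg.indFun H (fun _ => 1) g := by
  rw [cosetFix, Int.cast_natCast,
    card_fixedBy_eq_indFun (G ⧸ H) ((1 : G) : G ⧸ H) g, MulAction.stabilizer_quotient]

theorem card_fixedBy_eq_sum_orbits (X : Type w) [MulAction G X] [Finite X] (g : G)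
    [Fintype (MulAction.orbitRel.Quotient G X)] :
    (Nat.card (MulAction.fixedBy X g) : ℤ) = ∑ ω : MulAction.orbitRel.Quotient G X,
      cosetFix (MulAction.stabilizer G ω.out) g := by
  simp only [cosetFix, ← Nat.cast_sum, ← Nat.card_sigma, Nat.cast_inj]
  refine Nat.card_congr ((Equiv.sigmaFiberEquiv fun y : MulAction.fixedBy X g =>
    (Quotient.mk'' y.1 : MulAction.orbitRel.Quotient G X)).symm.trans
    (Equiv.sigmaCongrRight fun ω => (Equiv.ofBijective
      (fun q : MulAction.fixedBy (G ⧸ MulAction.stabilizer G ω.out) g =>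
        (⟨⟨MulAction.ofQuotientStabilizer G ω.out q.1, ?_⟩, ?_⟩ :
          {y : MulAction.fixedBy X g //
            (Quotient.mk'' y.1 : MulAction.orbitRel.Quotient G X) = ω})) ⟨?_, ?_⟩).symm))
  · rw [MulAction.mem_fixedBy, ← MulAction.ofQuotientStabilizer_smul,
      MulAction.mem_fixedBy.1 q.2]
  · obtain ⟨a, ha⟩ := QuotientGroup.mk_surjective q.1
    refine (Quotient.sound ?_).trans (Quotient.out_eq ω)
    change MulAction.ofQuotientStabilizer G ω.out q.1 ∈ MulAction.orbit G ω.out
    rw [← ha, MulAction.ofQuotientStabilizer_mk]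
    exact MulAction.mem_orbit _ a
  · intro q r hqr
    exact Subtype.ext (MulAction.injective_ofQuotientStabilizer G ω.out
      (congrArg (fun z => z.1.1) hqr))
  · rintro ⟨⟨y, hy⟩, hω⟩
    have hmem : y ∈ MulAction.orbit G ω.out :=
      Quotient.exact (hω.trans (Quotient.out_eq ω).symm)
    obtain ⟨a, ha⟩ := hmem
    refine ⟨⟨(a : G ⧸ MulAction.stabilizer G ω.out), ?_⟩, Subtype.ext (Subtype.ext ?_)⟩
    · refine MulAction.injective_ofQuotientStabilizer G ω.out ?_
      rw [MulAction.ofQuotientStabilizer_smul, MulAction.ofQuotientStabilizer_mk]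
      exact (congrArg (g • ·) ha).trans (hy.trans ha.symm)
    · exact ha

/-- Products of coset permutation characters stay in any span closed under subgroups. -/
theorem cosetFix_mul_mem (P : Subgroup G → Prop) (hP : ∀ A B : Subgroup G, A ≤ B → P B → P A)
    (hconj : ∀ (A : Subgroup G) (g : G), P A → P (A.map (MulAut.conj g).toMonoidHom))
    (H K : Subgroup G) (hH : P H) :
    cosetFix H * cosetFix K ∈ AddSubgroup.closure (cosetFix '' {A : Subgroup G | P A}) := by
  classical
  haveI := Fintype.ofFinite (MulAction.orbitRel.Quotient G ((G ⧸ H) × (G ⧸ K)))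
  have heq : cosetFix H * cosetFix K =
      ∑ ω : MulAction.orbitRel.Quotient G ((G ⧸ H) × (G ⧸ K)),
        cosetFix (MulAction.stabilizer G ω.out) := by
    funext g
    rw [Finset.sum_apply, ← card_fixedBy_eq_sum_orbits, Pi.mul_apply, cosetFix, cosetFix,
      ← Nat.cast_mul, Nat.cast_inj, ← Nat.card_prod]
    exact Nat.card_congr
      ⟨fun y => ⟨(y.1.1, y.2.1), Prod.ext y.1.2 y.2.2⟩,
        fun x => (⟨x.1.1, congrArg Prod.fst x.2⟩, ⟨x.1.2, congrArg Prod.snd x.2⟩),
        fun _ => rfl, fun _ => rfl⟩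
  rw [heq]
  refine AddSubgroup.sum_mem _ fun ω _ => AddSubgroup.subset_closure ⟨_, ?_, rfl⟩
  have hle : MulAction.stabilizer G ω.out ≤ MulAction.stabilizer G ω.out.1 := fun g hg => by
    rw [MulAction.mem_stabilizer_iff] at hg ⊢
    exact congrArg Prod.fst hg
  refine hP _ _ hle ?_
  obtain ⟨a, ha⟩ := QuotientGroup.mk_surjective ω.out.1
  rw [← ha, show ((a : G) : G ⧸ H) = a • ((1 : G) : G ⧸ H) by
      rw [MulAction.Quotient.smul_mk, smul_eq_mul, mul_one],
    MulAction.stabilizer_smul_eq_stabilizer_map_conj, MulAction.stabilizer_quotient]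
  exact hconj _ _ hH

/-- Each element and prime admit a quasi-elementary subgroup with permutation value prime to it. -/
theorem exists_quasiElementary_not_dvd (p : ℕ) (hp : p.Prime) (g : G) :
    ∃ H : Subgroup G, IsQuasiElementary p H ∧ ¬ (p : ℤ) ∣ cosetFix H g := by
  classical
  haveI := Fact.mk hp
  set n := orderOf g
  set s := p ^ n.factorization p
  set m := n / s
  have hsm : s * m = n := Nat.ordProj_mul_ordCompl_eq_self n p
  have hcopm : Nat.Coprime p m := Nat.coprime_ordCompl hp (orderOf_pos g).ne'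
  set c := g ^ s
  have hoc : orderOf c = m := by
    rw [orderOf_pow_of_dvd (pow_ne_zero _ hp.ne_zero) (Nat.ordProj_dvd n p)]
  set C := Subgroup.zpowers c with hC
  set N := Subgroup.normalizer (C : Set G)
  have hCN : C ≤ N := Subgroup.le_normalizer
  haveI : (C.subgroupOf N).Normal := Subgroup.normal_in_normalizer
  have hgN : g ∈ N := by
    refine Subgroup.mem_normalizer_iff.2 fun z => ?_
    have key : ∀ y ∈ C, g * y * g⁻¹ = y := by
      intro y hy
      obtain ⟨i, rfl⟩ := Subgroup.mem_zpowers_iff.1 hy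
      rw [((Commute.self_pow g s).zpow_right i).eq, mul_inv_cancel_right]
    refine ⟨fun hz => by rwa [key z hz], fun hz => ?_⟩
    have := key _ hz
    have h2 : g * z * g⁻¹ = z := by
      have h3 := mul_right_cancel (this.trans (show g * z * g⁻¹ = g * z * g⁻¹ from rfl))
      exact (mul_left_cancel h3)
    rwa [h2] at hz
  set π := QuotientGroup.mk' (C.subgroupOf N)
  have hgp : (π ⟨g, hgN⟩) ^ s = 1 := by
    rw [← map_pow, QuotientGroup.mk'_apply, QuotientGroup.eq_one_iff, Subgroup.mem_subgroupOf]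
    exact Subgroup.mem_zpowers c
  have hpg : IsPGroup p (Subgroup.zpowers (π ⟨g, hgN⟩)) := by
    intro ⟨y, hy⟩
    obtain ⟨i, rfl⟩ := Subgroup.mem_zpowers_iff.1 hy
    refine ⟨n.factorization p, Subtype.ext ?_⟩
    rw [SubgroupClass.coe_pow, Subgroup.coe_one]
    change ((π ⟨g, hgN⟩) ^ i) ^ s = 1
    rw [← zpow_natCast, ← zpow_mul, mul_comm, zpow_mul, zpow_natCast, hgp, one_zpow]
  obtain ⟨S, hS⟩ := hpg.exists_le_sylow
  set H' : Subgroup N := (S : Subgroup (N ⧸ C.subgroupOf N)).comap π
  set H : Subgroup G := H'.map N.subtype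
  have hCH' : C.subgroupOf N ≤ H' := fun x hx => by
    change π x ∈ (S : Subgroup (N ⧸ C.subgroupOf N))
    rw [QuotientGroup.mk'_apply, (QuotientGroup.eq_one_iff x).2 hx]
    exact one_mem _
  have hCH : C ≤ H := fun x hx => ⟨⟨x, hCN hx⟩, hCH' hx, rfl⟩
  have hgH' : (⟨g, hgN⟩ : N) ∈ H' := hS (Subgroup.mem_zpowers _)
  have hqe' : IsQuasiElementary p H' := by
    have hc : (⟨c, hCN (Subgroup.mem_zpowers c)⟩ : N) ∈ H' := hCH' (Subgroup.mem_zpowers c)
    refine ⟨⟨⟨c, hCN (Subgroup.mem_zpowers c)⟩, hc⟩, ?_, ?_, ?_⟩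
    all_goals
      have hz : Subgroup.zpowers (⟨⟨c, hCN (Subgroup.mem_zpowers c)⟩, hc⟩ : H') =
          (C.subgroupOf N).subgroupOf H' := by
        ext ⟨⟨x, hx⟩, hx'⟩
        simp only [Subgroup.mem_subgroupOf, hC, Subgroup.mem_zpowers_iff, Subtype.ext_iff,
          SubgroupClass.coe_zpow]
    · rw [hz]; infer_instance
    · rw [← Subgroup.orderOf_coe, ← Subgroup.orderOf_coe, hoc]
      exact hcopm.symm
    · rw [hz]
      have h1 : ((C.subgroupOf N).subgroupOf H').index = Nat.card (S : Subgroup (N ⧸ C.subgroupOf N)) := by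
        have h2 := Subgroup.relIndex_comap (S : Subgroup (N ⧸ C.subgroupOf N)) π
        change (C.subgroupOf N).relIndex H' = _
        have h3 : (C.subgroupOf N) = (⊥ : Subgroup (N ⧸ C.subgroupOf N)).comap π :=
          (QuotientGroup.ker_mk' _).symm
        calc (C.subgroupOf N).relIndex H'
            = ((⊥ : Subgroup (N ⧸ C.subgroupOf N)).comap π).relIndex H' :=
              congrArg (fun K : Subgroup N => K.relIndex H') h3
          _ = (⊥ : Subgroup (N ⧸ C.subgroupOf N)).relIndex (H'.map π) :=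
              Subgroup.relIndex_comap _ _ _
          _ = _ := by
              rw [Subgroup.map_comap_eq_self_of_surjective (QuotientGroup.mk'_surjective _),
                Subgroup.relIndex_bot_left]
      rw [h1]
      exact S.2.exists_card_eq
  have hqe : IsQuasiElementary p H :=
    isQuasiElementary_of_injective hp
      (Subgroup.equivMapOfInjective H' N.subtype N.subtype_injective).symm.toMonoidHom
      (Subgroup.equivMapOfInjective H' N.subtype N.subtype_injective).symm.injective hqe'
  refine ⟨H, hqe, ?_⟩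
  -- `C` is the only subgroup of `H` of its order
  have huniq : ∀ y ∈ H, y ^ m = 1 → y ∈ C := by
    rintro _ ⟨y, hy, rfl⟩ hym
    have hym' : y ^ m = 1 := Subtype.ext hym
    have h1 : π y ^ m = 1 := by rw [← map_pow, hym', map_one]
    obtain ⟨j, hj⟩ := S.2 ⟨π y, hy⟩
    have h2 : π y ^ p ^ j = 1 := congrArg Subtype.val hj
    have h3 : orderOf (π y) = 1 :=
      Nat.eq_one_of_dvd_coprimes (Nat.Coprime.pow_left j hcopm) (orderOf_dvd_of_pow_eq_one h2)
        (orderOf_dvd_of_pow_eq_one h1)
    exact (QuotientGroup.eq_one_iff y).1 (orderOf_eq_one_iff.1 h3)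
  have hnorm : ∀ a : G, a⁻¹ * g * a ∈ H → a ∈ N := by
    intro a ha
    have hca : a⁻¹ * c * a ∈ C := by
      refine huniq _ ?_ ?_
      · rw [show a⁻¹ * c * a = (a⁻¹ * g * a) ^ s by
          rw [show a⁻¹ * g * a = a⁻¹ * g * (a⁻¹)⁻¹ by rw [inv_inv], conj_pow, inv_inv]]
        exact pow_mem ha s
      · rw [show a⁻¹ * c * a = a⁻¹ * c * (a⁻¹)⁻¹ by rw [inv_inv], conj_pow, ← hoc,
          pow_orderOf_eq_one, mul_one, mul_inv_cancel]
    have hle : C.map (MulAut.conj a⁻¹).toMonoidHom ≤ C := by
      rw [hC, MonoidHom.map_zpowers, Subgroup.zpowers_le]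
      simpa using hca
    have heq : C.map (MulAut.conj a⁻¹).toMonoidHom = C :=
      Subgroup.eq_of_le_of_card_ge hle (Nat.card_congr
        (Subgroup.equivMapOfInjective C _ (MulEquiv.injective _)).toEquiv).le
    have : a⁻¹ ∈ N := by
      refine Subgroup.mem_normalizer_iff.2 fun z => ⟨fun hz => ?_, fun hz => ?_⟩
      · have := heq ▸ Subgroup.mem_map_of_mem (MulAut.conj a⁻¹).toMonoidHom hz
        simpa using this
      · rw [← heq] at hz
        obtain ⟨w, hw, hwz⟩ := hz
        simp at hwz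
        exact hwz ▸ hw
    exact (inv_mem_iff).1 this
  have hfix : Nat.card (MulAction.fixedBy (G ⧸ H) g) =
      Nat.card (MulAction.fixedBy (N ⧸ H') (⟨g, hgN⟩ : N)) := by
    let F : N ⧸ H' → G ⧸ H := Quotient.map' (fun a : N => (a : G)) fun a b hab => by
      rw [QuotientGroup.leftRel_apply] at hab ⊢
      exact ⟨_, hab, rfl⟩
    have hFinj : Function.Injective F := by
      intro q r
      induction q using QuotientGroup.induction_on
      induction r using QuotientGroup.induction_on
      rename_i a b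
      intro hab
      obtain ⟨z, hz, hz'⟩ : (a : G)⁻¹ * b ∈ H := QuotientGroup.eq.1 hab
      exact QuotientGroup.eq.2 ((Subtype.ext hz' : z = a⁻¹ * b) ▸ hz)
    refine (Nat.card_congr (Equiv.ofBijective
      (fun q : MulAction.fixedBy (N ⧸ H') (⟨g, hgN⟩ : N) =>
        (⟨F q.1, ?_⟩ : MulAction.fixedBy (G ⧸ H) g)) ⟨?_, ?_⟩)).symm
    · obtain ⟨q, hq⟩ := q
      induction q using QuotientGroup.induction_on with
      | _ a =>
        have hq' := congrArg F hq
        exact hq'
    · intro q r h
      exact Subtype.ext (hFinj (congrArg Subtype.val h))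
    · rintro ⟨q, hq⟩
      induction q using QuotientGroup.induction_on with
      | _ a =>
        have h1 : (g * a)⁻¹ * a ∈ H := QuotientGroup.eq.1 hq
        have ha : a ∈ N := hnorm a (by
          have := inv_mem h1
          rwa [mul_inv_rev, inv_inv, ← mul_assoc] at this)
        refine ⟨⟨((⟨a, ha⟩ : N) : N ⧸ H'), hFinj ?_⟩, rfl⟩
        exact hq
  rw [cosetFix, Int.natCast_dvd_natCast, hfix]
  -- the fixed points of the `p`-group `S` count the cosets modulo `p`
  intro hdvd
  have hidx : ¬ p ∣ H'.index := by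
    rw [Subgroup.index_comap_of_surjective _ (QuotientGroup.mk'_surjective _)]
    exact S.not_dvd_index
  let σ : Equiv.Perm (N ⧸ H') := MulAction.toPermHom N (N ⧸ H') (⟨g, hgN⟩ : N)
  have hσ : σ ^ s = 1 := by
    rw [← map_pow]
    ext q
    induction q using QuotientGroup.induction_on with
    | _ a =>
      refine QuotientGroup.eq.2 ?_
      have hs : (⟨g, hgN⟩ : N) ^ s ∈ C.subgroupOf N := by
        rw [Subgroup.mem_subgroupOf]
        exact Subgroup.mem_zpowers c
      refine hCH' ?_
      show ((⟨g, hgN⟩ : N) ^ s * a)⁻¹ * a ∈ C.subgroupOf N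
      rw [mul_inv_rev]
      have := (inferInstance : (C.subgroupOf N).Normal).conj_mem _ (inv_mem hs) a⁻¹
      simpa [mul_assoc] using this
  have hP : IsPGroup p (Subgroup.zpowers σ) := by
    intro ⟨y, hy⟩
    obtain ⟨i, rfl⟩ := Subgroup.mem_zpowers_iff.1 hy
    refine ⟨n.factorization p, Subtype.ext ?_⟩
    rw [SubgroupClass.coe_pow, Subgroup.coe_one]
    change (σ ^ i) ^ s = 1
    rw [← zpow_natCast, ← zpow_mul, mul_comm, zpow_mul, zpow_natCast, hσ, one_zpow]
  have hmod := hP.card_modEq_card_fixedPoints (N ⧸ H')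
  rw [← Subgroup.index_eq_card] at hmod
  refine hidx ((Nat.ModEq.dvd_iff hmod dvd_rfl).2 ?_)
  have hcard : Nat.card (MulAction.fixedPoints (Subgroup.zpowers σ) (N ⧸ H')) =
      Nat.card (MulAction.fixedBy (N ⧸ H') (⟨g, hgN⟩ : N)) := by
    refine Nat.card_congr (Equiv.subtypeEquivRight fun q => ⟨fun hq => ?_, fun hq => ?_⟩)
    · exact hq ⟨σ, Subgroup.mem_zpowers σ⟩
    · rintro ⟨y, hy⟩
      obtain ⟨i, rfl⟩ := Subgroup.mem_zpowers_iff.1 hy
      exact Equiv.Perm.zpow_apply_eq_self_of_apply_eq_self (show σ q = q from hq) i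
  rwa [hcard]

/-- The span of the permutation characters of quasi-elementary subgroups. -/
def qeSpan (P : ℕ → Prop) : AddSubgroup (G → ℤ) :=
  AddSubgroup.closure (cosetFix '' {A : Subgroup G | ∃ p, p.Prime ∧ P p ∧ IsQuasiElementary p A})

theorem qeSpan_le_top (P : ℕ → Prop) : qeSpan (G := G) P ≤ qeSpan (G := G) (fun _ => True) := by
  refine AddSubgroup.closure_mono (Set.image_mono ?_)
  rintro A ⟨q, hq, -, hA⟩
  exact ⟨q, hq, trivial, hA⟩

theorem qeSpan_mul_mem (P : ℕ → Prop) {f h : G → ℤ} (hf : f ∈ qeSpan P) (hh : h ∈ qeSpan P) :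
    f * h ∈ qeSpan P := by
  induction hf using AddSubgroup.closure_induction with
  | mem f hf =>
    obtain ⟨H, hH, rfl⟩ := hf
    induction hh using AddSubgroup.closure_induction with
    | mem h hh =>
      obtain ⟨K, -, rfl⟩ := hh
      refine cosetFix_mul_mem _ (fun A B hAB hB => ?_) (fun A a hA => ?_) H K hH
      · obtain ⟨p, hp, hP', hq⟩ := hB
        exact ⟨p, hp, hP', isQuasiElementary_of_le hp hAB hq⟩
      · obtain ⟨p, hp, hP', hq⟩ := hA
        exact ⟨p, hp, hP', isQuasiElementary_of_injective hp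
          (Subgroup.equivMapOfInjective A _ (MulAut.conj a).injective).symm.toMonoidHom
          (Subgroup.equivMapOfInjective A _ (MulAut.conj a).injective).symm.injective hq⟩
    | zero => rw [mul_zero]; exact zero_mem _
    | add a b _ _ ha hb => rw [mul_add]; exact add_mem ha hb
    | neg a _ ha => rw [mul_neg]; exact neg_mem ha
  | zero => rw [zero_mul]; exact zero_mem _
  | add a b _ _ ha hb => rw [add_mul]; exact add_mem ha hb
  | neg a _ ha => rw [neg_mul]; exact neg_mem ha

/-- The local Solomon theorem: a constant prime to `p` is in the `p`-span. -/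
theorem exists_const_mem_qeSpan (p : ℕ) (hp : p.Prime) :
    ∃ m : ℤ, ¬ (p : ℤ) ∣ m ∧ (fun _ : G => m) ∈ qeSpan (G := G) (· = p) := by
  classical
  have h : ∀ g : G, ∃ f ∈ qeSpan (G := G) (· = p), ¬ (p : ℤ) ∣ f g := fun g => by
    obtain ⟨H, hH, hd⟩ := exists_quasiElementary_not_dvd p hp g
    exact ⟨cosetFix H, AddSubgroup.subset_closure ⟨H, ⟨p, hp, rfl, hH⟩, rfl⟩, hd⟩
  choose f hf hfd using h
  have key : ∀ s : Finset G, ∃ (m : ℤ) (r : G → ℤ), ¬ (p : ℤ) ∣ m ∧
      r ∈ qeSpan (G := G) (· = p) ∧ ∀ g ∈ s, r g = m := by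
    intro s
    induction s using Finset.induction_on with
    | empty => exact ⟨1, 0, by exact_mod_cast hp.not_dvd_one, zero_mem _, by simp⟩
    | @insert a s ha ih =>
      obtain ⟨m, r, hm, hr, hrs⟩ := ih
      refine ⟨m * f a a, f a a • r + m • f a - r * f a, fun hd => ?_,
        sub_mem (add_mem (zsmul_mem hr _) (zsmul_mem (hf a) _)) (qeSpan_mul_mem _ hr (hf a)), ?_⟩
      · rcases (Nat.prime_iff_prime_int.1 hp).dvd_mul.1 hd with h | h
        · exact hm h
        · exact hfd a h
      · intro g hg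
        simp only [Pi.sub_apply, Pi.add_apply, Pi.smul_apply, Pi.mul_apply, smul_eq_mul]
        rcases Finset.mem_insert.1 hg with rfl | hgs
        · ring
        · rw [hrs g hgs]; ring
  obtain ⟨m, r, hm, hr, hrs⟩ := key Finset.univ
  exact ⟨m, hm, (funext fun g => hrs g (Finset.mem_univ g) : r = fun _ => m) ▸ hr⟩

/-- Solomon's induction theorem. -/
theorem one_mem_qeSpan : (1 : G → ℤ) ∈ qeSpan (G := G) (fun _ => True) := by
  let I : AddSubgroup ℤ :=
    (qeSpan (G := G) fun _ => True).comap (Pi.constAddMonoidHom G ℤ)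
  obtain ⟨d, hd⟩ := Int.subgroup_cyclic I
  by_cases hu : IsUnit d
  · have h1 : (1 : ℤ) ∈ I := by
      rw [hd, AddSubgroup.mem_closure_singleton]
      rcases Int.isUnit_iff.mp hu with rfl | rfl
      · exact ⟨1, by simp⟩
      · exact ⟨-1, by simp⟩
    exact h1
  · exfalso
    have hp := Nat.minFac_prime fun h => hu (Int.isUnit_iff_natAbs_eq.mpr h)
    obtain ⟨m, hm, hmem⟩ := exists_const_mem_qeSpan (G := G) _ hp
    refine hm ?_
    have hmI : m ∈ I := qeSpan_le_top (G := G) _ hmem
    rw [hd, AddSubgroup.mem_closure_singleton] at hmI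
    obtain ⟨k, rfl⟩ := hmI
    rw [smul_eq_mul]
    exact Dvd.dvd.mul_left (Int.natCast_dvd.mpr (Nat.minFac_dvd _)) k

end Solomon

end CfsgLib.Characters
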